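import Cfsg.Prelude.Def_OddOrderLocal
import Cfsg.Agent.Lib.Helper30.Coprime

set_option autoImplicit false

namespace Cfsg.Agent.Lib.Helper30

open Subgroup
open scoped Pointwise commutatorElement

variable {G : Type*} [Group G]

/-- all prime divisors of `n` lie in `π` -/
def PiNat (π : Set ℕ) (n : ℕ) : Prop := ∀ p : ℕ, p.Prime → p ∣ n → p ∈ π

theorem PiNat.of_dvd {π : Set ℕ} {m n : ℕ} (h : PiNat π n) (hmn : m ∣ n) : PiNat π m :=
  fun p hp hpm => h p hp (hpm.trans hmn)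

theorem PiNat.mul {π : Set ℕ} {m n : ℕ} (hm : PiNat π m) (hn : PiNat π n) : PiNat π (m * n) := by
  intro p hp hpmn
  rcases (Nat.Prime.dvd_mul hp).mp hpmn with h | h
  · exact hm p hp h
  · exact hn p hp h

theorem card_sup_dvd_mul (M N : Subgroup G) [N.Normal] :
    Nat.card ↥(M ⊔ N) ∣ Nat.card M * Nat.card N := by
  rw [card_eq_card_mul_relIndex (le_sup_right : N ≤ M ⊔ N), relIndex_sup_right, mul_comm]
  exact Nat.mul_dvd_mul_right (relIndex_dvd_card N M) _

theorem piCore_isPi [Finite G] (π : Set ℕ) : PiNat π (Nat.card (Cfsg.piCore π G)) := by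
  obtain ⟨M, ⟨hMn, hMπ⟩, hMmax⟩ := Set.Finite.exists_maximal
    (s := {N : Subgroup G | N.Normal ∧ ∀ p : ℕ, p.Prime → p ∣ Nat.card N → p ∈ π})
    (Set.toFinite _) ⟨⊥, inferInstance, by
      intro p hp h
      rw [Subgroup.card_bot] at h
      exact absurd (Nat.dvd_one.mp h) hp.one_lt.ne'⟩
  have : Cfsg.piCore π G = M := by
    apply le_antisymm
    · apply sSup_le
      rintro N ⟨hNn, hNπ⟩
      have h1 : (M ⊔ N).Normal := Subgroup.sup_normal M N
      have h2 : PiNat π (Nat.card ↥(M ⊔ N)) := (PiNat.mul hMπ hNπ).of_dvd (card_sup_dvd_mul M N)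
      exact le_sup_right.trans (hMmax ⟨h1, h2⟩ le_sup_left)
    · exact le_sSup ⟨hMn, hMπ⟩
  rw [this]
  exact hMπ

theorem le_piCore {π : Set ℕ} {N : Subgroup G} (hn : N.Normal) (h : PiNat π (Nat.card N)) :
    N ≤ Cfsg.piCore π G := le_sSup ⟨hn, h⟩

theorem piCoreOf_le (π : Set ℕ) (X : Subgroup G) : Cfsg.piCoreOf π X ≤ X := map_subtype_le _

theorem piCoreOf_isPi [Finite G] (π : Set ℕ) (X : Subgroup G) : PiNat π (Nat.card (Cfsg.piCoreOf π X)) := by
  rw [Cfsg.piCoreOf, card_map_of_injective X.subtype_injective]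
  exact piCore_isPi π

theorem le_normalizer_piCoreOf (π : Set ℕ) (X : Subgroup G) :
    X ≤ normalizer ((Cfsg.piCoreOf π X : Subgroup G) : Set G) := by
  intro x hx
  apply mem_normalizer_of_cj_eq
  have h1 : cj (⟨x, hx⟩ : X) (Cfsg.piCore π X) = Cfsg.piCore π X := cj_normal _ _
  have h2 := map_cj X.subtype (⟨x, hx⟩ : X) (Cfsg.piCore π X)
  rw [h1] at h2
  exact h2.symm

theorem le_piCoreOf {π : Set ℕ} {W X : Subgroup G} (hWX : W ≤ X) (hn : X ≤ normalizer (W : Set G))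
    (h : PiNat π (Nat.card W)) : W ≤ Cfsg.piCoreOf π X := by
  have h1 : (W.subgroupOf X).Normal := (normal_subgroupOf_iff_le_normalizer hWX).mpr hn
  have h2 : W.subgroupOf X ≤ Cfsg.piCore π X := le_piCore h1 (by rw [card_subgroupOf hWX]; exact h)
  have h3 := Subgroup.map_mono (f := X.subtype) h2
  rwa [map_subgroupOf_eq_of_le hWX] at h3

theorem coprime_of_piNat_primesNotDvd {m n : ℕ} (h : PiNat (Cfsg.primesNotDvd m) n) : m.Coprime n := by
  apply Nat.coprime_of_dvd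
  intro k hk hkm hkn
  exact (h k hk hkn).2 hkm

theorem isPGroup_of_piNat_singleton [Finite G] {q : ℕ} {Y : Subgroup G} (h : PiNat {q} (Nat.card Y)) :
    IsPGroup q Y := by
  have := Nat.eq_prime_pow_of_unique_prime_dvd (n := Nat.card Y) (p := q) Nat.card_pos.ne'
    (fun {d} hd hdvd => h d hd hdvd)
  exact IsPGroup.of_card this

theorem piNat_singleton_of_isPGroup [Finite G] {q : ℕ} [hq : Fact q.Prime] {Y : Subgroup G} (h : IsPGroup q Y) :
    PiNat {q} (Nat.card Y) := by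
  obtain ⟨n, hn⟩ := IsPGroup.iff_card.mp h
  intro p hp hdvd
  rw [hn] at hdvd
  exact (Nat.prime_dvd_prime_iff_eq hp hq.out).mp (hp.dvd_of_dvd_pow hdvd)

end Cfsg.Agent.Lib.Helper30
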