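import Cfsg.Agent.Lib.Helper30.CNLocal
import Cfsg.Agent.Lib.Helper13.Basic
import Cfsg.Agent.S1483
import Cfsg.Agent.S1477

/-!
Maximal nilpotent subgroups and maximal subgroups of a minimal simple CN-group of odd order.
-/

set_option autoImplicit false

namespace Cfsg.Agent.Lib.Helper30

open Subgroup Cfsg.Agent.Lib.Helper31 Cfsg.Agent.Lib.Helper1
open scoped Pointwise commutatorElement

variable {G : Type*} [Group G]

theorem sylow_normal_of_nilpotent {E : Type*} [Group E] [Finite E] (hE : Group.IsNilpotent E) {p : ℕ}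
    [Fact p.Prime] (Q : Sylow p E) : (Q : Subgroup E).Normal :=
  Sylow.normal_of_normalizerCondition Group.normalizerCondition_of_isNilpotent Q

theorem sylow_not_le_commutator {E : Type*} [Group E] [Finite E] (hE : Group.IsNilpotent E) {p : ℕ}
    [Fact p.Prime] (Q : Sylow p E) (hQ : (Q : Subgroup E) ≠ ⊥) : ¬ (Q : Subgroup E) ≤ commutator E := by
  intro hle
  have hn := sylow_normal_of_nilpotent hE Q
  have hcop : (Nat.card (Q : Subgroup E)).Coprime (Q : Subgroup E).index := Q.card_coprime_index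
  obtain ⟨K, hK⟩ := Subgroup.exists_right_complement'_of_coprime hcop
  have h1 : commutator E ≤ frattini E := by
    rw [_root_.commutator_def, Subgroup.commutator_le]
    intro a _ b _
    exact Cfsg.Agent.Lib.Helper13.commutator_mem_frattini_of_nilpotent hE a b
  have h2 : K ⊔ frattini E = ⊤ := by
    rw [eq_top_iff, ← hK.sup_eq_top, sup_comm]
    exact sup_le_sup_left (hle.trans h1) K
  have h3 := frattini_nongenerating h2
  apply hQ
  have := hK.disjoint.eq_bot
  rwa [h3, inf_top_eq] at this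

theorem exists_mem_normalizer_not_mem_of_nilpotent {U T : Subgroup G}
    (hT : Group.IsNilpotent T) (hUT : U < T) : ∃ t ∈ T, t ∈ normalizer (U : Set G) ∧ t ∉ U := by
  have hlt : U.subgroupOf T < ⊤ := by
    rw [lt_top_iff_ne_top]
    intro htop
    exact hUT.ne (le_antisymm hUT.le (subgroupOf_eq_top.mp htop))
  obtain ⟨n, hn1, hn2⟩ := SetLike.exists_of_lt
    ((Group.normalizerCondition_of_isNilpotent (G := T)) (U.subgroupOf T) hlt)
  refine ⟨n, n.2, ?_, fun h => hn2 (mem_subgroupOf.mpr h)⟩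
  rw [mem_normalizer_iff]
  intro u
  constructor
  · intro hu
    have := (mem_normalizer_iff.mp hn1 ⟨u, hUT.le hu⟩).mp (mem_subgroupOf.mpr hu)
    simpa [mem_subgroupOf] using this
  · intro hu
    have huT : u ∈ T := by
      have h2 : u = (n : G)⁻¹ * ((n : G) * u * (n : G)⁻¹) * (n : G) := by group
      rw [h2]
      exact T.mul_mem (T.mul_mem (T.inv_mem n.2) (hUT.le hu)) n.2
    have := (mem_normalizer_iff.mp hn1 ⟨u, huT⟩).mpr (by simpa [mem_subgroupOf] using hu)
    simpa [mem_subgroupOf] using this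

theorem mem_sylow_of_nilpotent [Finite G] {p : ℕ} [Fact p.Prime] {H : Subgroup G}
    (hH : Group.IsNilpotent H) (Q : Sylow p G) (hQH : (Q : Subgroup G) ≤ H) {x : G} (hx : x ∈ H)
    (hxp : ∃ k : ℕ, orderOf x = p ^ k) : x ∈ (Q : Subgroup G) := by
  have hn := sylow_normal_of_nilpotent hH (Q.subtype hQH)
  have := mem_sylow_of_normal (Q.subtype hQH) ⟨x, hx⟩ (by rwa [Subgroup.orderOf_mk])
  rw [Sylow.coe_subtype, mem_subgroupOf] at this
  exact this

theorem normalizer_le_normalizer_sylow [Finite G] {p : ℕ} [Fact p.Prime] {H : Subgroup G}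
    (hH : Group.IsNilpotent H) (Q : Sylow p G) (hQH : (Q : Subgroup G) ≤ H) :
    normalizer (H : Set G) ≤ normalizer ((Q : Subgroup G) : Set G) := by
  apply le_normalizer_of_conj_mem
  intro g hg x hx
  apply mem_sylow_of_nilpotent hH Q hQH ((mem_normalizer_iff.mp hg x).mp (hQH hx))
  obtain ⟨k, hk⟩ := orderOf_of_mem_pgroup Q.2 hx
  refine ⟨k, ?_⟩
  rw [← hk]
  exact orderOf_injective (MulAut.conj g).toMonoidHom (MulAut.conj g).injective x

theorem not_isSolvable_top (hG : Cfsg.IsMinSimpleOddOrder G) : ¬ Group.IsSolvable (⊤ : Subgroup G) := by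
  intro hsol
  have hs := hG.2.1
  have hne : (⊤ : Subgroup G) ≠ ⊥ := by
    intro h
    apply hG.2.2.1
    refine ⟨⟨fun a b => ?_⟩⟩
    have ha : a ∈ (⊤ : Subgroup G) := mem_top a
    have hb : b ∈ (⊤ : Subgroup G) := mem_top b
    rw [h, mem_bot] at ha hb
    rw [ha, hb]
  have h3 := commutator_lt_of_solvable hsol hne
  have hn : (⁅(⊤ : Subgroup G), (⊤ : Subgroup G)⁆).Normal := inferInstance
  rcases hn.eq_bot_or_eq_top with h | h
  · apply hG.2.2.1
    refine ⟨⟨fun a b => ?_⟩⟩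
    have : ⁅a, b⁆ ∈ ⁅(⊤ : Subgroup G), (⊤ : Subgroup G)⁆ := commutator_mem_commutator (mem_top a) (mem_top b)
    rw [h, mem_bot] at this
    exact commutatorElement_eq_one_iff_mul_comm.mp this
  · rw [h] at h3
    exact lt_irrefl _ h3

theorem ne_top_of_nilpotent (hG : Cfsg.IsMinSimpleOddOrder G) {H : Subgroup G}
    (hH : Group.IsNilpotent H) : H ≠ ⊤ := by
  rintro rfl
  exact not_isSolvable_top hG inferInstance

/-- every proper subgroup is nilpotent or of Frobenius type. -/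
theorem proper_structure [Finite G] (hG : Cfsg.IsMinSimpleOddOrder G) (hCN : Cfsg.IsCNGroup G)
    {M : Subgroup G} (hM : M ≠ ⊤) :
    Group.IsNilpotent M ∨ ∃ E, FrobType M (Cfsg.fittingHallOf M) E := by
  by_cases hnil : Group.IsNilpotent M
  · exact Or.inl hnil
  right
  have hMsol := solvable_of_ne_top hG hM
  have hModd : Odd (Nat.card M) := hG.1.of_dvd_nat (card_subgroup_dvd_card M)
  rcases cn_dichotomy (isCNGroup_subgroup hCN M) hnil with hS | ⟨q, -, -, -, hq3⟩
  · exact frobType_of_normal_sylow hCN hMsol hModd hnil hS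
  · exact absurd hq3 (not_isThreeStepGroup hG hCN M q)

/-- maximal nilpotent subgroups -/
def MaxNil (H : Subgroup G) : Prop :=
  Group.IsNilpotent H ∧ ∀ L : Subgroup G, Group.IsNilpotent L → H ≤ L → L = H

theorem MaxNil.cj {H : Subgroup G} (h : MaxNil H) (g : G) : MaxNil (cj g H) := by
  refine ⟨nilpotent_map _ h.1, fun L hL hle => ?_⟩
  have h1 : H ≤ Helper30.cj g⁻¹ L := cj_le_iff.mp hle
  have h2 := h.2 _ (nilpotent_map _ hL) h1
  rw [← h2, cj_cj_inv]

theorem MaxNil.ne_bot (hG : Cfsg.IsMinSimpleOddOrder G) (hCN : Cfsg.IsCNGroup G) {H : Subgroup G}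
    (h : MaxNil H) : H ≠ ⊥ := by
  rintro rfl
  have hs := hG.2.1
  obtain ⟨g, hg⟩ := exists_ne (1 : G)
  have h1 := h.2 _ (hCN g hg) bot_le
  have h2 : g ∈ centralizer ({g} : Set G) := mem_centralizer_singleton_iff.mpr rfl
  rw [h1, mem_bot] at h2
  exact hg h2

/-- the normalizer of a maximal nilpotent subgroup is of Frobenius type. -/
theorem MaxNil.frobType [Finite G] (hG : Cfsg.IsMinSimpleOddOrder G) (hCN : Cfsg.IsCNGroup G)
    {H : Subgroup G} (h : MaxNil H) :
    Cfsg.fittingHallOf (normalizer (H : Set G)) = H ∧ ∃ E, FrobType (normalizer (H : Set G)) H E := by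
  have hne := h.ne_bot hG hCN
  have hcard : Nat.card H ≠ 1 := fun h0 => hne (Subgroup.card_eq_one.mp h0)
  obtain ⟨p, hp, hpH⟩ := Nat.exists_prime_and_dvd hcard
  have := Fact.mk hp
  obtain ⟨Q, hQH, hQne, -⟩ := exists_sylow_le hCN H h.1 h.2 p hpH
  have h1 := normalizer_le_normalizer_sylow h.1 Q hQH
  have h2 := normalizer_le_normalizer_zL (Q : Subgroup G)
  have hHtop := ne_top_of_nilpotent hG h.1
  have hZtop : zL (Q : Subgroup G) ≠ ⊤ := by
    intro h0
    apply hHtop
    rw [eq_top_iff, ← h0]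
    exact (zL_le _).trans hQH
  have hMs := normalizer_ne_top hG (zL_ne_bot Q.2 hQne) hZtop
  have hHM : H ≤ normalizer (zL (Q : Subgroup G) : Set G) := le_normalizer.trans (h1.trans h2)
  have hQc := sylow_le_commutator_normalizer_zL hG Q
  obtain ⟨Ms, hMs'⟩ : ∃ Ms, Ms = normalizer (zL (Q : Subgroup G) : Set G) := ⟨_, rfl⟩
  rw [← hMs'] at h2 hMs hHM hQc
  rcases proper_structure hG hCN hMs with hnil | ⟨E, hE⟩
  · exfalso
    have hMH := h.2 _ hnil hHM
    rw [hMH] at hQc
    apply sylow_not_le_commutator h.1 (Q.subtype hQH)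
    · intro h0
      rw [Sylow.coe_subtype, subgroupOf_eq_bot, disjoint_iff, inf_eq_left.mpr hQH] at h0
      exact hQne h0
    · intro x hx
      rw [Sylow.coe_subtype, mem_subgroupOf] at hx
      have h3 := hQc hx
      rw [← map_subtype_commutator] at h3
      obtain ⟨y, hy, hyx⟩ := h3
      have : y = x := Subtype.ext hyx
      rwa [← this]
  · have hQK : (Q : Subgroup G) ≤ Cfsg.fittingHallOf Ms := hQc.trans hE.commutator_le
    have hHK : H ≤ Cfsg.fittingHallOf Ms := by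
      apply hE.nilpotent_le hHM h.1
      intro h0
      apply hQne
      rw [eq_bot_iff, ← h0]
      exact le_inf hQH hQK
    have hKH := h.2 _ hE.nil hHK
    have hMN : Ms = normalizer (H : Set G) :=
      le_antisymm (hKH ▸ hE.norm) (h1.trans h2)
    rw [← hMN]
    exact ⟨hKH, E, hKH ▸ hE⟩

theorem MaxNil.isCoatom_normalizer [Finite G] (hG : Cfsg.IsMinSimpleOddOrder G) (hCN : Cfsg.IsCNGroup G)
    {H : Subgroup G} (h : MaxNil H) : IsCoatom (normalizer (H : Set G)) := by
  obtain ⟨-, E, hE⟩ := h.frobType hG hCN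
  refine ⟨normalizer_ne_top hG (h.ne_bot hG hCN) (ne_top_of_nilpotent hG h.1), fun M hlt => ?_⟩
  by_contra hM
  rcases proper_structure hG hCN hM with hnil | ⟨E', hE'⟩
  · exact hE.not_nilpotent (nilpotent_of_le hlt.le hnil)
  · have h1 : H ≤ Cfsg.fittingHallOf M :=
      hE.le_commutator.trans ((commutator_mono hlt.le hlt.le).trans hE'.commutator_le)
    have h2 := h.2 _ hE'.nil h1
    exact absurd (h2 ▸ hE'.norm) (not_le_of_gt hlt)

/-- two maximal nilpotent subgroups with a common non-identity element are conjugate. -/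
theorem MaxNil.exists_cj_eq [Finite G] (hCN : Cfsg.IsCNGroup G) {H L : Subgroup G} (h : MaxNil H)
    (hL : MaxNil L) (hne : H ⊓ L ≠ ⊥) : ∃ g, L = Helper30.cj g H := by
  rcases Cfsg.Agent.S1483.conj_or_coprime hCN H L h hL with hg | hcop
  · exact hg
  · exact absurd (disjoint_of_coprime_natCard hcop).eq_bot hne

/-- maximal nilpotent subgroups are TI. -/
theorem MaxNil.ti [Finite G] (hG : Cfsg.IsMinSimpleOddOrder G) (hCN : Cfsg.IsCNGroup G)
    {H : Subgroup G} (h : MaxNil H) (g : G) (hg : Helper30.cj g H ≠ H) : H ⊓ Helper30.cj g H = ⊥ := by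
  by_contra hne
  obtain ⟨D, hD0, hD⟩ := Set.Finite.exists_le_maximal
    (s := {D : Subgroup G | ∃ g₁ g₂, Helper30.cj g₁ H ≠ Helper30.cj g₂ H ∧
      D = Helper30.cj g₁ H ⊓ Helper30.cj g₂ H}) (Set.toFinite _)
    (a := H ⊓ Helper30.cj g H) ⟨1, g, by rw [cj_one]; exact hg.symm, by rw [cj_one]⟩
  obtain ⟨⟨g₁, g₂, h12, hDeq⟩, hDmax⟩ := hD
  have hDne : D ≠ ⊥ := fun h0 => hne (le_bot_iff.mp (h0 ▸ hD0))
  have hH₁ := h.cj g₁
  have hH₂ := h.cj g₂
  obtain ⟨H₁, hH₁'⟩ : ∃ H₁, H₁ = Helper30.cj g₁ H := ⟨_, rfl⟩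
  obtain ⟨H₂, hH₂'⟩ : ∃ H₂, H₂ = Helper30.cj g₂ H := ⟨_, rfl⟩
  rw [← hH₁'] at hH₁ h12 hDeq
  rw [← hH₂'] at hH₂ h12 hDeq
  have hD1 : D ≤ H₁ := hDeq ▸ inf_le_left
  have hD2 : D ≤ H₂ := hDeq ▸ inf_le_right
  have hlt1 : D < H₁ := by
    refine lt_of_le_of_ne hD1 (fun h0 => ?_)
    exact h12 (hH₁.2 _ hH₂.1 (h0 ▸ hD2)).symm
  have hlt2 : D < H₂ := by
    refine lt_of_le_of_ne hD2 (fun h0 => ?_)
    exact h12 (hH₂.2 _ hH₁.1 (h0 ▸ hD1))
  obtain ⟨t₁, ht₁H, ht₁N, ht₁D⟩ := exists_mem_normalizer_not_mem_of_nilpotent hH₁.1 hlt1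
  obtain ⟨t₂, ht₂H, ht₂N, ht₂D⟩ := exists_mem_normalizer_not_mem_of_nilpotent hH₂.1 hlt2
  have hDtop : D ≠ ⊤ := by
    intro h0
    apply ne_top_of_nilpotent hG hH₁.1
    rw [eq_top_iff, ← h0]; exact hD1
  have hX := normalizer_ne_top hG hDne hDtop
  -- a nilpotent subgroup containing both partial normalizers
  have hY : ∃ Y : Subgroup G, Group.IsNilpotent Y ∧ H₁ ⊓ normalizer (D : Set G) ≤ Y ∧
      H₂ ⊓ normalizer (D : Set G) ≤ Y := by
    rcases proper_structure hG hCN hX with hnil | ⟨E, hE⟩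
    · exact ⟨_, hnil, inf_le_right, inf_le_right⟩
    · have hDK : D ⊓ Cfsg.fittingHallOf (normalizer (D : Set G)) ≠ ⊥ := by
        intro h0
        obtain ⟨⟨d, hd⟩, hd1'⟩ := Subgroup.ne_bot_iff_exists_ne_one.1 hDne
        have hd1 : d ≠ 1 := fun h1 => hd1' (Subtype.ext h1)
        have hdK : d ∉ Cfsg.fittingHallOf (normalizer (D : Set G)) := by
          intro hdK
          have : d ∈ D ⊓ Cfsg.fittingHallOf (normalizer (D : Set G)) := mem_inf.mpr ⟨hd, hdK⟩
          rw [h0, mem_bot] at this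
          exact hd1 this
        have h1 := hE.fpf_of_not_mem (le_normalizer hd) hdK
        apply hE.K_ne
        rw [eq_bot_iff, ← h1]
        intro k hk
        refine mem_inf.mpr ⟨hk, ?_⟩
        rw [mem_centralizer_singleton_iff]
        have h2 : k * d * k⁻¹ * d⁻¹ ∈ D ⊓ Cfsg.fittingHallOf (normalizer (D : Set G)) := by
          refine mem_inf.mpr ⟨?_, ?_⟩
          · exact D.mul_mem ((mem_normalizer_iff.mp (hE.K_le hk) d).mp hd) (D.inv_mem hd)
          · have h3 : d * k⁻¹ * d⁻¹ ∈ Cfsg.fittingHallOf (normalizer (D : Set G)) :=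
              (mem_normalizer_iff.mp (hE.norm (le_normalizer hd)) _).mp (inv_mem hk)
            have h4 : k * d * k⁻¹ * d⁻¹ = k * (d * k⁻¹ * d⁻¹) := by group
            rw [h4]
            exact mul_mem hk h3
        rw [h0, mem_bot] at h2
        calc k * d = (k * d * k⁻¹ * d⁻¹) * (d * k) := by group
          _ = d * k := by rw [h2, one_mul]
      refine ⟨_, hE.nil, ?_, ?_⟩
      · apply hE.nilpotent_le inf_le_right (nilpotent_of_le inf_le_left hH₁.1)
        intro h0
        apply hDK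
        rw [eq_bot_iff, ← h0]
        exact inf_le_inf_right _ (le_inf hD1 le_normalizer)
      · apply hE.nilpotent_le inf_le_right (nilpotent_of_le inf_le_left hH₂.1)
        intro h0
        apply hDK
        rw [eq_bot_iff, ← h0]
        exact inf_le_inf_right _ (le_inf hD2 le_normalizer)
  obtain ⟨Y, hYnil, hY1, hY2⟩ := hY
  obtain ⟨L, hYL, hLnil, hLmax⟩ := exists_max_nilpotent Y hYnil
  have hL : MaxNil L := ⟨hLnil, hLmax⟩
  have hDL : D ≤ L := (le_inf hD1 le_normalizer).trans (hY1.trans hYL)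
  obtain ⟨u, hu⟩ := hH₁.exists_cj_eq hCN hL (fun h0 => hDne (le_bot_iff.mp (h0 ▸ le_inf hD1 hDL)))
  have hLc : L = Helper30.cj (u * g₁) H := by rw [hu, hH₁', cj_mul]
  have hL1 : L = H₁ := by
    by_contra hcon
    have h1 := hDmax (y := L ⊓ H₁) ⟨u * g₁, g₁, by rw [← hLc, ← hH₁']; exact hcon, by rw [← hLc, ← hH₁']⟩
      (le_inf hDL hD1)
    exact ht₁D (h1 (mem_inf.mpr ⟨hYL (hY1 (mem_inf.mpr ⟨ht₁H, ht₁N⟩)), ht₁H⟩))
  have hL2 : L = H₂ := by
    by_contra hcon
    have h1 := hDmax (y := L ⊓ H₂) ⟨u * g₁, g₂, by rw [← hLc, ← hH₂']; exact hcon, by rw [← hLc, ← hH₂']⟩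
      (le_inf hDL hD2)
    exact ht₂D (h1 (mem_inf.mpr ⟨hYL (hY2 (mem_inf.mpr ⟨ht₂H, ht₂N⟩)), ht₂H⟩))
  exact h12 (hL1.symm.trans hL2)

/-- maximal subgroups are of Frobenius type with maximal nilpotent kernel. -/
theorem coatom_structure [Finite G] (hG : Cfsg.IsMinSimpleOddOrder G) (hCN : Cfsg.IsCNGroup G)
    {M : Subgroup G} (hM : IsCoatom M) :
    MaxNil (Cfsg.fittingHallOf M) ∧ ∃ E, FrobType M (Cfsg.fittingHallOf M) E := by
  rcases proper_structure hG hCN hM.1 with hnil | ⟨E, hE⟩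
  · exfalso
    obtain ⟨L, hML, hLnil, hLmax⟩ := exists_max_nilpotent M hnil
    have hL : MaxNil L := ⟨hLnil, hLmax⟩
    have hLM : L = M := by
      by_contra hcon
      exact ne_top_of_nilpotent hG hLnil (hM.2 _ (lt_of_le_of_ne hML (Ne.symm hcon)))
    rw [hLM] at hL
    obtain ⟨-, E, hE⟩ := hL.frobType hG hCN
    have hco := hL.isCoatom_normalizer hG hCN
    have hne : M ≠ normalizer (M : Set G) := by
      intro h0
      apply hE.E_ne
      rw [← hE.inf_eq]
      exact (inf_eq_right.mpr (hE.E_le.trans h0.symm.le)).symm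
    exact hco.1 (hM.2 _ (lt_of_le_of_ne le_normalizer hne))
  · refine ⟨?_, E, hE⟩
    obtain ⟨L, hKL, hLnil, hLmax⟩ := exists_max_nilpotent _ hE.nil
    have hKtop : Cfsg.fittingHallOf M ≠ ⊤ := ne_top_of_nilpotent hG hE.nil
    have hNK : normalizer (Cfsg.fittingHallOf M : Set G) = M := by
      by_contra hcon
      exact normalizer_ne_top hG hE.K_ne hKtop (hM.2 _ (lt_of_le_of_ne hE.norm (Ne.symm hcon)))
    have hLK : L = Cfsg.fittingHallOf M := by
      by_contra hcon
      obtain ⟨t, htL, htN, htK⟩ :=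
        exists_mem_normalizer_not_mem_of_nilpotent hLnil (lt_of_le_of_ne hKL (Ne.symm hcon))
      rw [hNK] at htN
      have h1 : L ⊓ M ≤ Cfsg.fittingHallOf M := by
        apply hE.nilpotent_le inf_le_right (nilpotent_of_le inf_le_left hLnil)
        intro h0
        apply hE.K_ne
        rw [eq_bot_iff, ← h0]
        exact le_inf (le_inf hKL hE.K_le) le_rfl
      exact htK (h1 (mem_inf.mpr ⟨htL, htN⟩))
    rw [← hLK]
    exact ⟨hLnil, hLmax⟩

end Cfsg.Agent.Lib.Helper30
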