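import Cfsg.Agent.Lib.Helper30.CNLocal3
import Cfsg.Agent.S1473

/-!
Reduction of the CN-theorem for odd order to the character-theoretic statement on
families of Frobenius subgroups with TI kernels.
-/

set_option autoImplicit false

namespace Cfsg.Agent.Lib.Helper30

open Subgroup Cfsg.Agent.Lib.Helper31 Cfsg.Agent.Lib.Helper1
open scoped Pointwise commutatorElement

universe u

/-- conjugacy of maximal nilpotent subgroups -/
def maxNilSetoid (G : Type u) [Group G] : Setoid {H : Subgroup G // MaxNil H} where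
  r a b := ∃ g : G, b.1 = cj g a.1
  iseqv :=
    { refl := fun a => ⟨1, (cj_one _).symm⟩
      symm := by
        rintro a b ⟨g, hg⟩
        exact ⟨g⁻¹, by rw [hg, cj_inv_cj]⟩
      trans := by
        rintro a b c ⟨g, hg⟩ ⟨k, hk⟩
        exact ⟨k * g, by rw [hk, hg, cj_mul]⟩ }

theorem MaxNil.isTISubset {G : Type u} [Group G] [Finite G] (hG : Cfsg.IsMinSimpleOddOrder G)
    (hCN : Cfsg.IsCNGroup G) {H : Subgroup G} (h : MaxNil H) : Cfsg.IsTISubset (H : Set G) := by
  intro g hg x hx hgx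
  have h1 : Helper30.cj g⁻¹ H ≠ H := by
    intro h0
    apply hg
    have := mem_normalizer_of_cj_eq h0
    simpa using (normalizer (H : Set G)).inv_mem this
  have h2 := h.ti hG hCN g⁻¹ h1
  have h3 : x ∈ H ⊓ Helper30.cj g⁻¹ H := by
    refine mem_inf.mpr ⟨hx, ?_⟩
    rw [mem_cj, inv_inv]
    exact hgx
  rw [h2, mem_bot] at h3
  exact h3

/-- The family of Frobenius subgroups in a minimal simple CN-group of odd order. -/
theorem exists_frobenius_family {G : Type u} [Group G] [Finite G] (hG : Cfsg.IsMinSimpleOddOrder G)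
    (hCN : Cfsg.IsCNGroup G) : ∃ (ι : Type u) (_ : Fintype ι) (L H : ι → Subgroup G),
      2 ≤ Fintype.card ι ∧ (∀ i, H i < L i) ∧ (∀ i, H i ≠ ⊥) ∧
      (∀ i, ∀ x ∈ L i, ∀ h ∈ H i, x * h * x⁻¹ ∈ H i) ∧
      (∀ i, ∀ h ∈ H i, h ≠ 1 → L i ⊓ Subgroup.centralizer ({h} : Set G) ≤ H i) ∧
      (∀ i j, i ≠ j → Nat.Coprime (Nat.card (H i)) (Nat.card (H j))) ∧
      (∀ i, Cfsg.IsTISubset (H i : Set G) ∧ Subgroup.normalizer (H i : Set G) = L i) ∧
      (∀ g : G, g ≠ 1 → ∃ i, ∃ x : G, x * g * x⁻¹ ∈ H i) := by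
  classical
  let s := maxNilSetoid G
  let ι := Quotient s
  have hfin : Finite ι := inferInstance
  let hft : Fintype ι := Fintype.ofFinite ι
  let H : ι → Subgroup G := fun i => (Quotient.out i).1
  have hH : ∀ i, MaxNil (H i) := fun i => (Quotient.out i).2
  have hconj : ∀ L : Subgroup G, MaxNil L → ∃ i, ∃ g : G, L = cj g (H i) := by
    intro L hL
    refine ⟨Quotient.mk s ⟨L, hL⟩, ?_⟩
    exact Quotient.mk_out (s := s) (⟨L, hL⟩ : {H : Subgroup G // MaxNil H})
  refine ⟨ι, hft, fun i => normalizer (H i : Set G), H, ?_, ?_, ?_, ?_, ?_, ?_, ?_, ?_⟩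
  · by_contra hcon
    have hle : Fintype.card ι ≤ 1 := by omega
    have hsub : Subsingleton ι := Fintype.card_le_one_iff_subsingleton.mp hle
    obtain ⟨L₀, hL₀, -⟩ := exists_maxNil_mem hCN (1 : G)
    obtain ⟨i₀, -, -⟩ := hconj L₀ hL₀
    have hdvd : Nat.card G ∣ Nat.card (H i₀) := by
      rw [Nat.dvd_iff_prime_pow_dvd_dvd]
      intro p k hp hk
      obtain ⟨L, hL, hkL⟩ := exists_maxNil_pow_dvd hp hk
      obtain ⟨i, g, hg⟩ := hconj L hL
      rw [hg, card_cj, Subsingleton.elim i i₀] at hkL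
      exact hkL
    apply ne_top_of_nilpotent hG (hH i₀).1
    exact Subgroup.eq_top_of_card_eq _ (Nat.dvd_antisymm (card_subgroup_dvd_card _) hdvd)
  · intro i
    obtain ⟨-, E, hE⟩ := (hH i).frobType hG hCN
    refine lt_of_le_of_ne le_normalizer (fun h0 => ?_)
    apply hE.E_ne
    rw [← hE.inf_eq]
    exact (inf_eq_right.mpr (hE.E_le.trans h0.symm.le)).symm
  · exact fun i => (hH i).ne_bot hG hCN
  · intro i x hx h hh
    exact (mem_normalizer_iff.mp hx h).mp hh
  · intro i h hh hh1
    obtain ⟨-, E, hE⟩ := (hH i).frobType hG hCN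
    exact hE.centralizer_le hh hh1
  · intro i j hij
    rcases Cfsg.Agent.S1483.conj_or_coprime hCN _ _ (hH i) (hH j) with ⟨g, hg⟩ | h
    · exfalso
      apply hij
      have h1 : s.r (Quotient.out i) (Quotient.out j) := ⟨g, hg⟩
      have h2 := Quotient.sound (s := s) h1
      rwa [Quotient.out_eq, Quotient.out_eq] at h2
    · exact h
  · exact fun i => ⟨(hH i).isTISubset hG hCN, rfl⟩
  · intro g _
    obtain ⟨L, hL, hx⟩ := exists_maxNil_mem hCN g
    obtain ⟨i, u, hu⟩ := hconj L hL
    rw [hu, mem_cj] at hx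
    exact ⟨i, u⁻¹, by rwa [inv_inv]⟩

/-- A minimal counterexample to the CN-theorem is a minimal simple group. -/
theorem cn_solvable_aux
    (hkey : ∀ (G : Type u) [Group G] [Finite G], Cfsg.IsMinSimpleOddOrder G → Cfsg.IsCNGroup G → False) :
    ∀ (n : ℕ) (G : Type u) [Group G] [Finite G], Nat.card G = n → Odd (Nat.card G) →
      Cfsg.IsCNGroup G → Group.IsSolvable G := by
  intro n
  induction n using Nat.strong_induction_on with
  | _ n ih =>
    intro G _ _ hn hodd hCN
    by_contra hns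
    have hsub : ∀ H : Subgroup G, H ≠ ⊤ → Group.IsSolvable H := by
      intro H hH
      apply ih (Nat.card H) _ H rfl (hodd.of_dvd_nat (card_subgroup_dvd_card H)) (isCNGroup_subgroup hCN H)
      rw [← hn]
      by_contra hcon
      exact hH (Subgroup.eq_top_of_le_card _ (not_lt.mp hcon))
    apply hkey G _ hCN
    refine ⟨hodd, ?_, ?_, hsub⟩
    · have hnt : Nontrivial G := by
        by_contra hcon
        rw [not_nontrivial_iff_subsingleton] at hcon
        exact hns inferInstance
      refine ⟨fun N hN => ?_⟩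
      by_contra hcon
      push Not at hcon
      obtain ⟨hN1, hN2⟩ := hcon
      have hNsol := hsub N hN2
      have hq : Group.IsSolvable (G ⧸ N) := by
        apply ih (Nat.card (G ⧸ N)) _ (G ⧸ N) rfl _ (Cfsg.Agent.S1473.result hCN N hNsol)
        · rw [← hn, ← Subgroup.index_eq_card, ← Subgroup.index_mul_card N]
          have h1 : 1 < Nat.card N := by
            rw [Finite.one_lt_card_iff_nontrivial]
            exact (Subgroup.nontrivial_iff_ne_bot N).mpr hN1
          have h2 : 0 < N.index := Nat.pos_of_ne_zero Subgroup.index_ne_zero_of_finite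
          nlinarith
        · rw [← Subgroup.index_eq_card]
          exact hodd.of_dvd_nat (Subgroup.index_dvd_card N)
      apply hns
      exact Group.isSolvable_of_ker_le_range (f := N.subtype) (g := QuotientGroup.mk' N)
        (by rw [QuotientGroup.ker_mk', Subgroup.range_subtype])
    · intro hc
      apply hns
      exact Group.isSolvable_of_comm (fun a b => hc.is_comm.comm a b)

/-- The CN-theorem for odd order, conditional on the text of statement S1526 (no odd order group
is covered by at least two classes of TI Frobenius kernels of pairwise coprime orders). -/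
theorem cn_theorem_of
    (h1526 : ∀ (G : Type u) [Group G] [Finite G] (_ : Odd (Nat.card G)) (ι : Type u) [Fintype ι]
      (_ : 2 ≤ Fintype.card ι) (L H : ι → Subgroup G) (_ : ∀ i, H i < L i) (_ : ∀ i, H i ≠ ⊥)
      (_ : ∀ i, ∀ x ∈ L i, ∀ h ∈ H i, x * h * x⁻¹ ∈ H i)
      (_ : ∀ i, ∀ h ∈ H i, h ≠ 1 → L i ⊓ Subgroup.centralizer ({h} : Set G) ≤ H i)
      (_ : ∀ i j, i ≠ j → Nat.Coprime (Nat.card (H i)) (Nat.card (H j)))
      (_ : ∀ i, Cfsg.IsTISubset (H i : Set G) ∧ Subgroup.normalizer (H i : Set G) = L i)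
      (_ : ∀ g : G, g ≠ 1 → ∃ i, ∃ x : G, x * g * x⁻¹ ∈ H i), False)
    {G : Type u} [Group G] [Finite G] (hodd : Odd (Nat.card G)) (hCN : Cfsg.IsCNGroup G) :
    Group.IsSolvable G := by
  refine cn_solvable_aux ?_ _ G rfl hodd hCN
  intro G _ _ hG hCN
  obtain ⟨ι, hft, L, H, h1, h2, h3, h4, h5, h6, h7, h8⟩ := exists_frobenius_family hG hCN
  exact h1526 G hG.1 ι h1 L H h2 h3 h4 h5 h6 h7 h8

end Cfsg.Agent.Lib.Helper30
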