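import Mathlib
import Cfsg.Agent.S1463

/-!
Quadratic pairs: two elements `x`, `y` of a finite group of odd order acting quadratically on a finite
elementary abelian `p`-group (`p` odd).  Irreducible case: both act trivially.
-/

set_option autoImplicit false

namespace Cfsg.Agent.Lib.Helper30

open Matrix

/-- Core computation: a group of odd order cannot act on a `K`-plane `K v ⊕ K w` with two elements acting as the
transvections `[[1,γ],[0,1]]` and `[[1,0],[1,1]]`, `γ ≠ 0`. -/
theorem quad_core {p : ℕ} [Fact p.Prime] (hp : p ≠ 2)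
    {K : Type*} [Field K] [Finite K] [CharP K p]
    {V : Type*} [AddCommGroup V] [Module K V]
    {H : Type*} [Group H] [Finite H] (hodd : Odd (Nat.card H))
    (ρ : H →* Module.End ℤ V)
    (x y : H) (v w : V) (γ : K) (hγ : γ ≠ 0)
    (hind : ∀ k l : K, k • v + l • w = 0 → k = 0 ∧ l = 0)
    (hxv : ∀ k : K, ρ x (k • v) = k • v) (hxw : ∀ k : K, ρ x (k • w) = k • w + (k * γ) • v)
    (hyv : ∀ k : K, ρ y (k • v) = k • v + k • w) (hyw : ∀ k : K, ρ y (k • w) = k • w) : False := by
  classical
  let φ : (Fin 2 → K) → V := fun u => u 0 • v + u 1 • w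
  have φinj : Function.Injective φ := by
    intro u u' h
    have h' : (u 0 - u' 0) • v + (u 1 - u' 1) • w = 0 := by
      have h2 : u 0 • v + u 1 • w = u' 0 • v + u' 1 • w := h
      rw [sub_smul, sub_smul]
      have : u 0 • v - u' 0 • v + (u 1 • w - u' 1 • w) = (u 0 • v + u 1 • w) - (u' 0 • v + u' 1 • w) := by abel
      rw [this, h2, sub_self]
    obtain ⟨h0, h1⟩ := hind _ _ h'
    funext i
    fin_cases i
    · exact sub_eq_zero.1 h0
    · exact sub_eq_zero.1 h1
  let D : Subgroup (H × GL (Fin 2) K) :=
    { carrier := {d | ∀ u, ρ d.1 (φ u) = φ ((d.2 : Matrix (Fin 2) (Fin 2) K).mulVec u)}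
      one_mem' := by intro u; simp
      mul_mem' := by
        intro d e hd he u
        simp only [Prod.fst_mul, Prod.snd_mul, map_mul, Module.End.mul_apply, Units.val_mul]
        rw [he u, hd, Matrix.mulVec_mulVec]
      inv_mem' := by
        intro d hd u
        have := hd ((d.2⁻¹ : GL (Fin 2) K).val.mulVec u)
        rw [mulVec_mulVec, ← Units.val_mul, mul_inv_cancel, Units.val_one, one_mulVec] at this
        simp only [Prod.fst_inv, Prod.snd_inv]
        rw [← this, ← Module.End.mul_apply, ← map_mul, inv_mul_cancel, map_one, Module.End.one_apply] }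
  have hDmem : ∀ d : H × GL (Fin 2) K, d ∈ D ↔
      ∀ u, ρ d.1 (φ u) = φ ((d.2 : Matrix (Fin 2) (Fin 2) K).mulVec u) := fun d => Iff.rfl
  let X : GL (Fin 2) K := Matrix.GeneralLinearGroup.mkOfDetNeZero !![1, γ; 0, 1] (by simp [Matrix.det_fin_two])
  let Y : GL (Fin 2) K := Matrix.GeneralLinearGroup.mkOfDetNeZero !![1, 0; 1, 1] (by simp [Matrix.det_fin_two])
  have hXv : (X : Matrix (Fin 2) (Fin 2) K) = !![1, γ; 0, 1] := rfl
  have hYv : (Y : Matrix (Fin 2) (Fin 2) K) = !![1, 0; 1, 1] := rfl
  have hxD : (x, X) ∈ D := by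
    rw [hDmem]
    intro u
    show ρ x (u 0 • v + u 1 • w) = ((X : Matrix (Fin 2) (Fin 2) K).mulVec u) 0 • v +
      ((X : Matrix (Fin 2) (Fin 2) K).mulVec u) 1 • w
    rw [map_add, hxv, hxw, hXv]
    simp only [Matrix.mulVec, dotProduct, Fin.sum_univ_two, Matrix.of_apply, Matrix.cons_val_zero,
      Matrix.cons_val_one, Matrix.cons_val', Matrix.cons_val_fin_one]
    simp only [one_mul, zero_mul, zero_add, add_smul, mul_comm γ]
    abel
  have hyD : (y, Y) ∈ D := by
    rw [hDmem]
    intro u
    show ρ y (u 0 • v + u 1 • w) = ((Y : Matrix (Fin 2) (Fin 2) K).mulVec u) 0 • v +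
      ((Y : Matrix (Fin 2) (Fin 2) K).mulVec u) 1 • w
    rw [map_add, hyv, hyw, hYv]
    simp only [Matrix.mulVec, dotProduct, Fin.sum_univ_two, Matrix.of_apply, Matrix.cons_val_zero,
      Matrix.cons_val_one, Matrix.cons_val', Matrix.cons_val_fin_one]
    simp only [one_mul, zero_mul, add_zero, add_smul]
    abel
  let HH : Subgroup (GL (Fin 2) K) := D.map (MonoidHom.snd H (GL (Fin 2) K))
  have hXH : X ∈ HH := ⟨(x, X), hxD, rfl⟩
  have hYH : Y ∈ HH := ⟨(y, Y), hyD, rfl⟩
  have h1 : Nat.card D ∣ Nat.card H := by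
    apply Subgroup.card_dvd_of_injective ((MonoidHom.fst H (GL (Fin 2) K)).comp D.subtype)
    intro d e hde
    have hde' : d.1.1 = e.1.1 := hde
    apply Subtype.ext
    apply Prod.ext hde'
    apply Units.ext
    apply Matrix.mulVec_injective
    funext u
    apply φinj
    rw [← (hDmem _).1 d.2 u, ← (hDmem _).1 e.2 u, hde']
  have h2 : Nat.card HH ∣ Nat.card D := Subgroup.card_map_dvd _ _
  have hoddHH : Odd (Nat.card HH) := Odd.of_dvd_nat hodd (h2.trans h1)
  have hirr : ∀ u : Fin 2 → K, u ≠ 0 → ∃ g ∈ HH, (g : Matrix (Fin 2) (Fin 2) K).mulVec u ∉ Submodule.span K {u} := by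
    intro u hu
    by_cases hu1 : u 1 = 0
    · refine ⟨Y, hYH, ?_⟩
      rw [Submodule.mem_span_singleton]
      rintro ⟨t, ht⟩
      have e1 := congrFun ht 1
      rw [hYv] at e1
      simp only [Matrix.mulVec, dotProduct, Fin.sum_univ_two, Matrix.of_apply, Matrix.cons_val_zero,
        Matrix.cons_val_one, Matrix.cons_val', Matrix.cons_val_fin_one, Pi.smul_apply, hu1, smul_eq_mul,
        mul_zero, one_mul, add_zero] at e1
      apply hu
      funext i
      fin_cases i
      · exact e1.symm
      · exact hu1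
    · refine ⟨X, hXH, ?_⟩
      rw [Submodule.mem_span_singleton]
      rintro ⟨t, ht⟩
      have e0 := congrFun ht 0
      have e1 := congrFun ht 1
      rw [hXv] at e0 e1
      simp only [Matrix.mulVec, dotProduct, Fin.sum_univ_two, Matrix.of_apply, Matrix.cons_val_zero,
        Matrix.cons_val_one, Matrix.cons_val', Matrix.cons_val_fin_one, Pi.smul_apply, smul_eq_mul,
        zero_mul, one_mul, zero_add] at e0 e1
      have ht1 : t = 1 := by
        have : (t - 1) * u 1 = 0 := by rw [sub_mul, e1, one_mul, sub_self]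
        rcases mul_eq_zero.1 this with h | h
        · exact sub_eq_zero.1 h
        · exact absurd h hu1
      rw [ht1, one_mul] at e0
      have : γ * u 1 = 0 := by
        have := e0
        linear_combination -this
      rcases mul_eq_zero.1 this with h | h
      · exact hγ h
      · exact hu1 h
  have hnp := Cfsg.Agent.S1463.result p hp HH hoddHH hirr
  apply hnp
  have hXpow : ∀ n : ℕ, (!![1, γ; 0, 1] : Matrix (Fin 2) (Fin 2) K) ^ n = !![1, n * γ; 0, 1] := by
    intro n
    induction n with
    | zero => simp [Matrix.one_fin_two]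
    | succ n ih =>
      rw [pow_succ, ih]
      simp
      ring
  have hXp : X ^ p = 1 := by
    apply Units.ext
    rw [Units.val_pow_eq_pow_val, hXv, hXpow, CharP.cast_eq_zero K p]
    simp [Matrix.one_fin_two]
  have hX1 : X ≠ 1 := by
    intro h
    have := congrArg (fun M : GL (Fin 2) K => (M : Matrix (Fin 2) (Fin 2) K) 0 1) h
    simp only [hXv, Units.val_one] at this
    simp at this
    exact hγ this
  have hord : orderOf X = p := orderOf_eq_prime hXp hX1
  rw [← hord]
  exact Subgroup.orderOf_dvd_natCard HH hXH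

/-- Field version: if a finite field `K` of characteristic `p` acts on `V` commuting with `a = x - 1`, `b = y - 1`,
`a² = b² = 0`, `ab + ba` is a scalar of `K`, and `a`, `b` have no common nonzero kernel vector, contradiction. -/
theorem quad_field {p : ℕ} [Fact p.Prime] (hp : p ≠ 2)
    {K : Type*} [Field K] [Finite K] [CharP K p]
    {V : Type*} [AddCommGroup V]
    {H : Type*} [Group H] [Finite H] (hodd : Odd (Nat.card H))
    (ρ : H →* Module.End ℤ V) (x y : H) (a b : Module.End ℤ V) (ha : a = ρ x - 1) (hb : b = ρ y - 1)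
    (hx : a * a = 0) (hy : b * b = 0)
    (ι : K →+* Module.End ℤ V) (hιa : ∀ k, ι k * a = a * ι k) (hιb : ∀ k, ι k * b = b * ι k)
    (γ : K) (hγ : ι γ = a * b + b * a)
    (hU0 : ∀ u, a u = 0 → b u = 0 → u = 0) (hV : ∃ v : V, v ≠ 0) : False := by
  classical
  have hxa : ∀ u, ρ x u = a u + u := by intro u; simp [ha]
  have hyb : ∀ u, ρ y u = b u + u := by intro u; simp [hb]
  have haa : ∀ u, a (a u) = 0 := by
    intro u; rw [← Module.End.mul_apply, hx]; rfl
  have hbb : ∀ u, b (b u) = 0 := by
    intro u; rw [← Module.End.mul_apply, hy]; rfl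
  letI : Module K V := Module.compHom V ι
  have hsmul : ∀ (k : K) (u : V), k • u = ι k u := fun k u => rfl
  obtain ⟨v, hv0, hav⟩ : ∃ v, v ≠ 0 ∧ a v = 0 := by
    by_cases ha0 : ∀ u, a u = 0
    · obtain ⟨v, hv⟩ := hV
      exact ⟨v, hv, ha0 v⟩
    · simp only [not_forall] at ha0
      obtain ⟨u, hu⟩ := ha0
      exact ⟨a u, hu, haa u⟩
  obtain ⟨w, hw⟩ : ∃ w, w = b v := ⟨_, rfl⟩
  have hw0 : w ≠ 0 := fun h => hv0 (hU0 v hav (hw ▸ h))
  have hbw : b w = 0 := by rw [hw, hbb]
  have haw : a w = γ • v := by
    rw [hsmul, hγ, LinearMap.add_apply, Module.End.mul_apply, Module.End.mul_apply, hav, map_zero, add_zero, hw]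
  have hγ0 : γ ≠ 0 := by
    intro h
    apply hw0
    apply hU0 w _ hbw
    rw [haw, h, zero_smul]
  have hak : ∀ (k : K) (u : V), a (k • u) = k • a u := by
    intro k u
    rw [hsmul, hsmul, ← Module.End.mul_apply, ← hιa, Module.End.mul_apply]
  have hbk : ∀ (k : K) (u : V), b (k • u) = k • b u := by
    intro k u
    rw [hsmul, hsmul, ← Module.End.mul_apply, ← hιb, Module.End.mul_apply]
  refine quad_core hp hodd ρ x y v w γ hγ0 ?_ ?_ ?_ ?_ ?_
  · intro k l h
    have h1 : a (k • v + l • w) = 0 := by rw [h, map_zero]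
    rw [map_add, hak, hak, hav, smul_zero, zero_add, haw, smul_smul] at h1
    have h2 : l * γ = 0 := (smul_eq_zero.1 h1).resolve_right hv0
    have hl : l = 0 := (mul_eq_zero.1 h2).resolve_right hγ0
    rw [hl, zero_smul, add_zero] at h
    exact ⟨(smul_eq_zero.1 h).resolve_right hv0, hl⟩
  · intro k
    rw [hxa, hak, hav, smul_zero, zero_add]
  · intro k
    rw [hxa, hak, haw, smul_smul, add_comm]
  · intro k
    rw [hyb, hbk, ← hw, add_comm]
  · intro k
    rw [hyb, hbk, hbw, smul_zero, zero_add]

/-- Irreducible case: two elements of a group of odd order acting quadratically on an irreducible (for the two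
elements) finite abelian group of odd prime exponent act trivially. -/
theorem quad_pair_irreducible {p : ℕ} [Fact p.Prime] (hp : p ≠ 2)
    {V : Type*} [AddCommGroup V] [Finite V] (hV : ∀ v : V, p • v = 0)
    {H : Type*} [Group H] [Finite H] (hodd : Odd (Nat.card H))
    (ρ : H →* Module.End ℤ V) (x y : H)
    (hx : (ρ x - 1) * (ρ x - 1) = 0) (hy : (ρ y - 1) * (ρ y - 1) = 0)
    (hirr : ∀ U : AddSubgroup V, (∀ u ∈ U, ρ x u ∈ U) → (∀ u ∈ U, ρ y u ∈ U) → U = ⊥ ∨ U = ⊤) :
    ρ x = 1 ∧ ρ y = 1 := by
  classical
  obtain ⟨a, ha⟩ : ∃ a, a = ρ x - 1 := ⟨_, rfl⟩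
  obtain ⟨b, hb⟩ : ∃ b, b = ρ y - 1 := ⟨_, rfl⟩
  rw [← ha] at hx
  rw [← hb] at hy
  have hxa : ∀ u, ρ x u = a u + u := by intro u; simp [ha]
  have hyb : ∀ u, ρ y u = b u + u := by intro u; simp [hb]
  have hirr' : ∀ U : AddSubgroup V, (∀ u ∈ U, a u ∈ U) → (∀ u ∈ U, b u ∈ U) → U = ⊥ ∨ U = ⊤ := by
    intro U h1 h2
    apply hirr U
    · intro u hu
      rw [hxa]; exact U.add_mem (h1 u hu) hu
    · intro u hu
      rw [hyb]; exact U.add_mem (h2 u hu) hu
  by_contra hcon
  have hab : ¬ (a = 0 ∧ b = 0) := by
    rintro ⟨h1, h2⟩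
    exact hcon ⟨sub_eq_zero.1 (ha ▸ h1), sub_eq_zero.1 (hb ▸ h2)⟩
  have hker : ∀ k : Module.End ℤ V, k * a = a * k → k * b = b * k → k ≠ 0 → Function.Injective k := by
    intro k hka hkb hk
    have hmem : ∀ u, u ∈ (LinearMap.ker k).toAddSubgroup ↔ k u = 0 := fun u => Iff.rfl
    have i1 : ∀ u ∈ (LinearMap.ker k).toAddSubgroup, a u ∈ (LinearMap.ker k).toAddSubgroup := by
      intro u hu
      rw [hmem] at hu ⊢
      rw [← Module.End.mul_apply, hka, Module.End.mul_apply, hu, map_zero]
    have i2 : ∀ u ∈ (LinearMap.ker k).toAddSubgroup, b u ∈ (LinearMap.ker k).toAddSubgroup := by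
      intro u hu
      rw [hmem] at hu ⊢
      rw [← Module.End.mul_apply, hkb, Module.End.mul_apply, hu, map_zero]
    rcases hirr' (LinearMap.ker k).toAddSubgroup i1 i2 with h | h
    · rw [injective_iff_map_eq_zero]
      intro u hu
      have : u ∈ (LinearMap.ker k).toAddSubgroup := (hmem u).2 hu
      rw [h] at this
      exact this
    · exfalso
      apply hk
      ext u
      have : u ∈ (LinearMap.ker k).toAddSubgroup := by rw [h]; trivial
      exact (hmem u).1 this
  obtain ⟨c, hc⟩ : ∃ c, c = a * b + b * a := ⟨_, rfl⟩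
  have hca : c * a = a * c := by
    rw [hc, add_mul, mul_add, mul_assoc b a a, hx, mul_zero, add_zero, ← mul_assoc a a b, hx, zero_mul, zero_add,
      mul_assoc]
  have hcb : c * b = b * c := by
    rw [hc, add_mul, mul_add, mul_assoc a b b, hy, mul_zero, zero_add, ← mul_assoc b b a, hy, zero_mul, add_zero,
      mul_assoc]
  have hKcomm : ∀ k ∈ Subring.closure {c}, k * a = a * k ∧ k * b = b * k := by
    have hle : Subring.closure {c} ≤ Subring.centralizer {a, b} := by
      rw [Subring.closure_le]
      intro z hz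
      rw [Set.mem_singleton_iff] at hz
      subst hz
      rw [SetLike.mem_coe, Subring.mem_centralizer_iff]
      intro g hg
      rcases hg with rfl | hg
      · exact hca.symm
      · rw [Set.mem_singleton_iff] at hg
        subst hg
        exact hcb.symm
    intro k hk
    have := hle hk
    rw [Subring.mem_centralizer_iff] at this
    exact ⟨(this a (by simp)).symm, (this b (by simp)).symm⟩
  have hKinj : ∀ k ∈ Subring.closure {c}, k ≠ 0 → Function.Injective k := fun k hk h0 =>
    hker k (hKcomm k hk).1 (hKcomm k hk).2 h0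
  have : Finite (Module.End ℤ V) :=
    Finite.of_injective (fun f : Module.End ℤ V => (f : V → V)) DFunLike.coe_injective
  let _ : CommRing (Subring.closure {c}) :=
    { (inferInstance : Ring (Subring.closure {c})) with
      mul_comm := by
        have hcomm : ∀ k ∈ Subring.closure {c}, ∀ l ∈ Subring.closure {c}, k * l = l * k := by
          have hle : Subring.closure {c} ≤ Subring.centralizer (Subring.closure {c} : Set (Module.End ℤ V)) := by
            rw [Subring.closure_le]
            intro z hz
            rw [Set.mem_singleton_iff] at hz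
            subst hz
            rw [SetLike.mem_coe, Subring.mem_centralizer_iff]
            intro g hg
            have hle2 : Subring.closure {z} ≤ Subring.centralizer {z} := by
              rw [Subring.closure_le]
              intro z' hz'
              rw [Set.mem_singleton_iff] at hz'
              subst hz'
              rw [SetLike.mem_coe, Subring.mem_centralizer_iff]
              intro g' hg'
              rw [Set.mem_singleton_iff] at hg'
              rw [hg']
            have := hle2 hg
            rw [Subring.mem_centralizer_iff] at this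
            exact (this z rfl).symm
          intro k hk l hl
          have := hle hk
          rw [Subring.mem_centralizer_iff] at this
          exact (this l hl).symm
        intro k l
        exact Subtype.ext (hcomm k.1 k.2 l.1 l.2) }
  have : Nontrivial (Subring.closure {c}) := by
    refine ⟨⟨0, 1, fun h => hab ?_⟩⟩
    have h' : (0 : Module.End ℤ V) = 1 := congrArg Subtype.val h
    constructor
    · rw [← mul_one a, ← h', mul_zero]
    · rw [← mul_one b, ← h', mul_zero]
  have : NoZeroDivisors (Subring.closure {c}) := by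
    refine ⟨fun {k l} h => ?_⟩
    by_cases hk : k = 0
    · exact Or.inl hk
    · right
      have hk' : (k : Module.End ℤ V) ≠ 0 := fun h0 => hk (Subtype.ext h0)
      have hinj := hKinj k.1 k.2 hk'
      have h' : (k : Module.End ℤ V) * (l : Module.End ℤ V) = 0 := congrArg Subtype.val h
      apply Subtype.ext
      ext u
      apply hinj
      rw [← Module.End.mul_apply, h']
      simp
  have : IsDomain (Subring.closure {c}) := NoZeroDivisors.to_isDomain _
  let _ : Fintype (Subring.closure {c}) := Fintype.ofFinite _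
  let _ : Field (Subring.closure {c}) := Fintype.fieldOfDomain _
  have : CharP (Subring.closure {c}) p := by
    apply ringChar.of_eq
    apply CharP.ringChar_of_prime_eq_zero (Fact.out : p.Prime)
    apply Subtype.ext
    have : (((p : ℕ) : Subring.closure {c}) : Module.End ℤ V) = ((p : ℕ) : Module.End ℤ V) := by
      exact map_natCast (Subring.subtype (Subring.closure {c})) p
    rw [this]
    ext u
    have h2 : ((p : ℕ) : Module.End ℤ V) u = p • u := by
      rw [← nsmul_one, LinearMap.smul_apply, Module.End.one_apply]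
    rw [h2, hV]
    rfl
  have hU0 : ∀ u, a u = 0 → b u = 0 → u = 0 := by
    have hmem : ∀ u, u ∈ (LinearMap.ker a ⊓ LinearMap.ker b).toAddSubgroup ↔ a u = 0 ∧ b u = 0 := fun u => Iff.rfl
    have i1 : ∀ u ∈ (LinearMap.ker a ⊓ LinearMap.ker b).toAddSubgroup,
        a u ∈ (LinearMap.ker a ⊓ LinearMap.ker b).toAddSubgroup := by
      intro u hu
      rw [((hmem u).1 hu).1]
      exact AddSubgroup.zero_mem _
    have i2 : ∀ u ∈ (LinearMap.ker a ⊓ LinearMap.ker b).toAddSubgroup,
        b u ∈ (LinearMap.ker a ⊓ LinearMap.ker b).toAddSubgroup := by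
      intro u hu
      rw [((hmem u).1 hu).2]
      exact AddSubgroup.zero_mem _
    rcases hirr' (LinearMap.ker a ⊓ LinearMap.ker b).toAddSubgroup i1 i2 with h | h
    · intro u h1 h2
      have : u ∈ (LinearMap.ker a ⊓ LinearMap.ker b).toAddSubgroup := (hmem u).2 ⟨h1, h2⟩
      rw [h] at this
      exact this
    · exfalso
      apply hab
      constructor
      · ext u
        have : u ∈ (LinearMap.ker a ⊓ LinearMap.ker b).toAddSubgroup := by rw [h]; trivial
        exact ((hmem u).1 this).1
      · ext u
        have : u ∈ (LinearMap.ker a ⊓ LinearMap.ker b).toAddSubgroup := by rw [h]; trivial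
        exact ((hmem u).1 this).2
  have hVne : ∃ v : V, v ≠ 0 := by
    by_contra hne
    simp only [not_exists, not_not] at hne
    apply hab
    constructor
    · ext u; rw [hne u, map_zero, map_zero]
    · ext u; rw [hne u, map_zero, map_zero]
  have hcK : c ∈ Subring.closure {c} := Subring.subset_closure rfl
  exact quad_field hp hodd ρ x y a b ha hb hx hy (Subring.subtype (Subring.closure {c}))
    (fun k => (hKcomm k.1 k.2).1) (fun k => (hKcomm k.1 k.2).2) ⟨c, hcK⟩ hc hU0 hVne

end Cfsg.Agent.Lib.Helper30
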