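import Mathlib
import Cfsg.Agent.Lib.Helper30.QuadPair
import Cfsg.Agent.Lib.Helper30.SZ
import Cfsg.Agent.S0199
import Cfsg.Prelude.Def_Solvable

/-!
p-stability of groups of odd order (group level).
-/

set_option autoImplicit false
set_option linter.style.haveILetI false
open scoped commutatorElement

namespace Cfsg.Agent.Lib.Helper30

/-- Multiplicative version of `quad_pair_irreducible`. -/
theorem quad_pair_mul {p : ℕ} [Fact p.Prime] (hp : p ≠ 2)
    {W : Type*} [CommGroup W] [Finite W] (hW : ∀ w : W, w ^ p = 1)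
    {H : Type*} [Group H] [Finite H] (hodd : Odd (Nat.card H))
    (τ : H →* MulAut W) (x y : H)
    (hx : ∀ w, τ x (τ x w * w⁻¹) = τ x w * w⁻¹) (hy : ∀ w, τ y (τ y w * w⁻¹) = τ y w * w⁻¹)
    (hirr : ∀ U : Subgroup W, (∀ u ∈ U, τ x u ∈ U) → (∀ u ∈ U, τ y u ∈ U) → U = ⊥ ∨ U = ⊤) :
    (∀ w, τ x w = w) ∧ (∀ w, τ y w = w) := by
  classical
  let ρ : H →* Module.End ℤ (Additive W) :=
    { toFun := fun g => (MonoidHom.toAdditive (τ g).toMonoidHom).toIntLinearMap
      map_one' := by
        ext u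
        simp
      map_mul' := by
        intro g h
        ext u
        simp }
  have hρ : ∀ g (u : Additive W), ρ g u = Additive.ofMul (τ g u.toMul) := fun g u => rfl
  have key := quad_pair_irreducible (p := p) hp (V := Additive W) (fun v => by
      have := hW v.toMul
      apply Additive.toMul.injective
      rw [toMul_nsmul, this]; rfl) hodd ρ x y ?_ ?_ ?_
  · constructor
    · intro w
      have := congrArg (fun f : Module.End ℤ (Additive W) => f (Additive.ofMul w)) key.1
      exact this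
    · intro w
      have := congrArg (fun f : Module.End ℤ (Additive W) => f (Additive.ofMul w)) key.2
      exact this
  · refine LinearMap.ext fun u => ?_
    simp only [Module.End.mul_apply, LinearMap.sub_apply, Module.End.one_apply, LinearMap.zero_apply]
    rw [sub_eq_zero]
    have := hx u.toMul
    have e : ρ x u - u = Additive.ofMul (τ x u.toMul * (u.toMul)⁻¹) := by
      rw [hρ, ← div_eq_mul_inv]; rfl
    rw [e, hρ]
    exact congrArg Additive.ofMul this
  · refine LinearMap.ext fun u => ?_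
    simp only [Module.End.mul_apply, LinearMap.sub_apply, Module.End.one_apply, LinearMap.zero_apply]
    rw [sub_eq_zero]
    have := hy u.toMul
    have e : ρ y u - u = Additive.ofMul (τ y u.toMul * (u.toMul)⁻¹) := by
      rw [hρ, ← div_eq_mul_inv]; rfl
    rw [e, hρ]
    exact congrArg Additive.ofMul this
  · intro U h1 h2
    rcases hirr (Subgroup.toAddSubgroup.symm U) (fun u hu => h1 _ hu) (fun u hu => h2 _ hu) with h | h
    · left
      exact (map_eq_bot_iff (Subgroup.toAddSubgroup (G := W)).symm).1 h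
    · right
      exact (map_eq_top_iff (Subgroup.toAddSubgroup (G := W)).symm).1 h

/-- Version for a normal elementary abelian subgroup `Z` of a group of odd order. -/
theorem quad_pair_normal {p : ℕ} [Fact p.Prime] (hp : p ≠ 2) {G : Type*} [Group G] [Finite G]
    (hodd : Odd (Nat.card G))
    (Z : Subgroup G) [Z.Normal] (hZc : ∀ a ∈ Z, ∀ b ∈ Z, a * b = b * a) (hZp : ∀ a ∈ Z, a ^ p = 1)
    (x y : G)
    (hx : ∀ u ∈ Z, x * (x * u * x⁻¹ * u⁻¹) * x⁻¹ = x * u * x⁻¹ * u⁻¹)
    (hy : ∀ u ∈ Z, y * (y * u * y⁻¹ * u⁻¹) * y⁻¹ = y * u * y⁻¹ * u⁻¹)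
    (hirr : ∀ U : Subgroup G, U ≤ Z → (∀ u ∈ U, x * u * x⁻¹ ∈ U) → (∀ u ∈ U, y * u * y⁻¹ ∈ U) →
      U = ⊥ ∨ U = Z) :
    (∀ u ∈ Z, x * u * x⁻¹ = u) ∧ (∀ u ∈ Z, y * u * y⁻¹ = u) := by
  classical
  let _ : CommGroup Z :=
    { (inferInstance : Group Z) with mul_comm := fun a b => Subtype.ext (hZc a.1 a.2 b.1 b.2) }
  have key := quad_pair_mul (p := p) hp (W := Z) (fun w => Subtype.ext (by simpa using hZp w.1 w.2)) hodd
     (MulAut.conjNormal (H := Z)) x y ?_ ?_ ?_
  · constructor
    · intro u hu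
      have := congrArg Subtype.val (key.1 ⟨u, hu⟩)
      simpa using this
    · intro u hu
      have := congrArg Subtype.val (key.2 ⟨u, hu⟩)
      simpa using this
  · intro w
    apply Subtype.ext
    have := hx w.1 w.2
    simpa [mul_assoc] using this
  · intro w
    apply Subtype.ext
    have := hy w.1 w.2
    simpa [mul_assoc] using this
  · intro U h1 h2
    have j1 : U.map Z.subtype ≤ Z := by
      rintro _ ⟨u, _, rfl⟩
      exact u.2
    have j2 : ∀ u ∈ U.map Z.subtype, x * u * x⁻¹ ∈ U.map Z.subtype := by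
      rintro _ ⟨u, hu, rfl⟩
      exact ⟨_, h1 u hu, by simp⟩
    have j3 : ∀ u ∈ U.map Z.subtype, y * u * y⁻¹ ∈ U.map Z.subtype := by
      rintro _ ⟨u, hu, rfl⟩
      exact ⟨_, h2 u hu, by simp⟩
    rcases hirr (U.map Z.subtype) j1 j2 j3 with h | h
    · left
      exact (Subgroup.map_eq_bot_iff_of_injective _ Z.subtype_injective).1 h
    · right
      rw [eq_top_iff]
      intro w _
      have hw : w.1 ∈ U.map Z.subtype := by rw [h]; exact w.2
      obtain ⟨u, hu, huw⟩ := hw
      have : u = w := Subtype.ext huw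
      rwa [← this]

/-- `Ω₁(Z(P))` as an explicit subgroup of the ambient group. -/
def omegaCenter {G : Type*} [Group G] (p : ℕ) (P : Subgroup G) : Subgroup G where
  carrier := {z | z ∈ P ∧ (∀ u ∈ P, u * z = z * u) ∧ z ^ p = 1}
  one_mem' := ⟨P.one_mem, by simp, by simp⟩
  mul_mem' := by
    rintro a b ⟨ha, hac, hap⟩ ⟨hb, hbc, hbp⟩
    refine ⟨P.mul_mem ha hb, ?_, ?_⟩
    · intro u hu
      rw [← mul_assoc, hac u hu, mul_assoc, hbc u hu, mul_assoc]
    · have : Commute a b := hbc a ha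
      rw [this.mul_pow, hap, hbp, one_mul]
  inv_mem' := by
    rintro a ⟨ha, hac, hap⟩
    refine ⟨P.inv_mem ha, ?_, by rw [inv_pow, hap, inv_one]⟩
    intro u hu
    have := hac u hu
    calc u * a⁻¹ = a⁻¹ * (a * u) * a⁻¹ := by group
      _ = a⁻¹ * (u * a) * a⁻¹ := by rw [this]
      _ = a⁻¹ * u := by group

theorem mem_omegaCenter {G : Type*} [Group G] {p : ℕ} {P : Subgroup G} {z : G} :
    z ∈ omegaCenter p P ↔ z ∈ P ∧ (∀ u ∈ P, u * z = z * u) ∧ z ^ p = 1 := Iff.rfl

theorem omegaCenter_le {G : Type*} [Group G] (p : ℕ) (P : Subgroup G) : omegaCenter p P ≤ P :=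
  fun _ hz => hz.1

theorem conj_mem_omegaCenter {G : Type*} [Group G] {p : ℕ} {P : Subgroup G} {g z : G}
    (hg : g ∈ Subgroup.normalizer (P : Set G)) (hz : z ∈ omegaCenter p P) :
    g * z * g⁻¹ ∈ omegaCenter p P := by
  obtain ⟨hzP, hzc, hzp⟩ := hz
  refine ⟨(Subgroup.mem_normalizer_iff.1 hg z).1 hzP, ?_, by rw [conj_pow, hzp]; simp⟩
  intro u hu
  have hu' : g⁻¹ * u * g ∈ P := by
    have := (Subgroup.mem_normalizer_iff.1 (Subgroup.inv_mem _ hg) u).1 hu
    simpa using this
  have := hzc _ hu'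
  calc u * (g * z * g⁻¹) = g * (g⁻¹ * u * g * z) * g⁻¹ := by group
    _ = g * (z * (g⁻¹ * u * g)) * g⁻¹ := by rw [this]
    _ = g * z * g⁻¹ * u := by group

instance omegaCenter_normal {G : Type*} [Group G] (p : ℕ) (P : Subgroup G) [hP : P.Normal] :
    (omegaCenter p P).Normal :=
  ⟨fun _ hz g => conj_mem_omegaCenter (by rw [Subgroup.normalizer_eq_top]; trivial) hz⟩

theorem omegaCenter_ne_bot {G : Type*} [Group G] [Finite G] {p : ℕ} [Fact p.Prime] {P : Subgroup G}
    (hP : IsPGroup p P) (hne : P ≠ ⊥) : omegaCenter p P ≠ ⊥ := by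
  haveI : Nontrivial P := (Subgroup.nontrivial_iff_ne_bot P).2 hne
  haveI := hP.center_nontrivial
  have hc : IsPGroup p (Subgroup.center P) := hP.to_subgroup _
  have hdvd : p ∣ Nat.card (Subgroup.center P) := by
    rcases hc.card_eq_or_dvd with h | h
    · exfalso
      have := Finite.one_lt_card (α := Subgroup.center P)
      omega
    · exact h
  obtain ⟨z, hz⟩ := exists_prime_orderOf_dvd_card' p hdvd
  intro hbot
  have hmem : (z : P).1 ∈ omegaCenter p P := by
    refine ⟨(z : P).2, ?_, ?_⟩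
    · intro u hu
      have := Subgroup.mem_center_iff.1 z.2 ⟨u, hu⟩
      exact congrArg Subtype.val this
    · have : z ^ p = 1 := by rw [← hz]; exact pow_orderOf_eq_one z
      have h2 := congrArg (fun t : Subgroup.center P => ((t : P) : G)) this
      simpa using h2
  rw [hbot, Subgroup.mem_bot] at hmem
  have hz1 : z = 1 := Subtype.ext (Subtype.ext hmem)
  rw [hz1, orderOf_one] at hz
  exact (Fact.out : p.Prime).one_lt.ne hz

universe u

/-- Main induction: `G = P⟨x,y⟩` of odd order, `P` a normal `p`-subgroup on which `x`, `y` act quadratically.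
Then every `p'`-element centralizes `P`. -/
theorem quad_pair_gen {p : ℕ} [Fact p.Prime] (hp : p ≠ 2) :
    ∀ (n : ℕ) (G : Type u) [Group G] [Finite G], Nat.card G ≤ n → Odd (Nat.card G) →
    ∀ (P : Subgroup G) [P.Normal], IsPGroup p P → ∀ x y : G, P ⊔ Subgroup.closure {x, y} = ⊤ →
    (∀ u ∈ P, x * (x * u * x⁻¹ * u⁻¹) * x⁻¹ = x * u * x⁻¹ * u⁻¹) →
    (∀ u ∈ P, y * (y * u * y⁻¹ * u⁻¹) * y⁻¹ = y * u * y⁻¹ * u⁻¹) →
    ∀ h : G, (orderOf h).Coprime p → ∀ u ∈ P, h * u = u * h := by
  intro n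
  induction n with
  | zero =>
    intro G _ _ hn
    exfalso
    have := Nat.card_pos (α := G)
    omega
  | succ n ih =>
    intro G _ _ hn hodd P _ hP x y hgen hx hy h hh u hu
    by_cases hPbot : P = ⊥
    · subst hPbot
      rw [Subgroup.mem_bot] at hu
      subst hu
      simp
    obtain ⟨Z, ⟨hZn, hZne, hZle⟩, hZmin⟩ := Set.Finite.exists_minimal
      (s := {N : Subgroup G | N.Normal ∧ N ≠ ⊥ ∧ N ≤ omegaCenter p P})
      (Set.toFinite _) ⟨omegaCenter p P, inferInstance, omegaCenter_ne_bot hP hPbot, le_refl _⟩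
    haveI := hZn
    have hZP : Z ≤ P := hZle.trans (omegaCenter_le p P)
    have hirr : ∀ U : Subgroup G, U ≤ Z → (∀ u ∈ U, x * u * x⁻¹ ∈ U) → (∀ u ∈ U, y * u * y⁻¹ ∈ U) →
        U = ⊥ ∨ U = Z := by
      intro U hUZ h1 h2
      by_cases hU : U = ⊥
      · exact Or.inl hU
      right
      have hnorm : ∀ g : G, (∀ u ∈ U, g * u * g⁻¹ ∈ U) → g ∈ Subgroup.normalizer (U : Set G) := by
        intro g hg
        apply mem_normalizer_of_cj_eq
        apply Subgroup.eq_of_le_of_card_ge
        · rintro _ ⟨u, hu, rfl⟩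
          exact hg u hu
        · rw [card_cj]
      have hUn : U.Normal := by
        rw [← Subgroup.normalizer_eq_top_iff, eq_top_iff, ← hgen, sup_le_iff, Subgroup.closure_le]
        constructor
        · intro g hg
          apply hnorm
          intro u hu
          have := (hZle (hUZ hu)).2.1 g hg
          rw [this, mul_assoc, mul_inv_cancel, mul_one]
          exact hu
        · intro g hg
          rcases hg with rfl | hg
          · exact hnorm _ h1
          · rw [Set.mem_singleton_iff] at hg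
            subst hg
            exact hnorm _ h2
      exact le_antisymm hUZ (hZmin ⟨hUn, hU, hUZ.trans hZle⟩ hUZ)
    have hcent := quad_pair_normal hp hodd Z
      (fun a ha b hb => (hZle hb).2.1 a (hZP ha)) (fun a ha => (hZle ha).2.2) x y
      (fun u hu => hx u (hZP hu)) (fun u hu => hy u (hZP hu)) hirr
    -- Z is central
    have hZcentral : ∀ z ∈ Z, ∀ g : G, g * z = z * g := by
      intro z hz
      have : (⊤ : Subgroup G) ≤ Subgroup.centralizer {z} := by
        rw [← hgen, sup_le_iff, Subgroup.closure_le]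
        constructor
        · intro g hg
          rw [Subgroup.mem_centralizer_singleton_iff]
          exact (hZle hz).2.1 g hg
        · intro g hg
          rw [SetLike.mem_coe, Subgroup.mem_centralizer_singleton_iff]
          rcases hg with rfl | hg
          · have := hcent.1 z hz
            rw [mul_inv_eq_iff_eq_mul] at this
            exact this
          · rw [Set.mem_singleton_iff] at hg
            subst hg
            have := hcent.2 z hz
            rw [mul_inv_eq_iff_eq_mul] at this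
            exact this
      intro g
      have := this (Subgroup.mem_top g)
      rw [Subgroup.mem_centralizer_singleton_iff] at this
      exact this
    -- the quotient
    have hcardlt : Nat.card (G ⧸ Z) < Nat.card G := by
      have h1 : 1 < Nat.card Z := by
        haveI : Nontrivial Z := (Subgroup.nontrivial_iff_ne_bot Z).2 hZne
        exact Finite.one_lt_card
      have h2 := Subgroup.card_eq_card_quotient_mul_card_subgroup Z
      have h3 : 0 < Nat.card (G ⧸ Z) := Nat.card_pos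
      nlinarith
    have hoddq : Odd (Nat.card (G ⧸ Z)) := Odd.of_dvd_nat hodd (Subgroup.card_quotient_dvd_card Z)
    haveI : (P.map (QuotientGroup.mk' Z)).Normal :=
      Subgroup.Normal.map inferInstance _ (QuotientGroup.mk'_surjective Z)
    have hgenq : P.map (QuotientGroup.mk' Z) ⊔
        Subgroup.closure {QuotientGroup.mk' Z x, QuotientGroup.mk' Z y} = ⊤ := by
      have := congrArg (Subgroup.map (QuotientGroup.mk' Z)) hgen
      rw [Subgroup.map_sup, MonoidHom.map_closure, Set.image_pair,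
        Subgroup.map_top_of_surjective _ (QuotientGroup.mk'_surjective Z)] at this
      exact this
    have key := ih (G ⧸ Z) (by omega) hoddq (P.map (QuotientGroup.mk' Z)) (hP.map _)
      (QuotientGroup.mk' Z x) (QuotientGroup.mk' Z y) hgenq
      (by
        rintro _ ⟨u, hu, rfl⟩
        have := congrArg (QuotientGroup.mk' Z) (hx u hu)
        simpa using this)
      (by
        rintro _ ⟨u, hu, rfl⟩
        have := congrArg (QuotientGroup.mk' Z) (hy u hu)
        simpa using this)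
      (QuotientGroup.mk' Z h) (Nat.Coprime.of_dvd_left (orderOf_map_dvd _ h) hh)
      (QuotientGroup.mk' Z u) ⟨u, hu, rfl⟩
    have hz : h * u * h⁻¹ * u⁻¹ ∈ Z := by
      rw [← QuotientGroup.eq_one_iff, ← QuotientGroup.mk'_apply, map_mul, map_mul, map_mul, key, map_inv, map_inv]
      group
    obtain ⟨z, hzdef⟩ : ∃ z, z = h * u * h⁻¹ * u⁻¹ := ⟨_, rfl⟩
    rw [← hzdef] at hz
    have hconj : ∀ k : ℕ, h ^ k * u * (h ^ k)⁻¹ = z ^ k * u := by
      intro k
      induction k with
      | zero => simp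
      | succ k ihk =>
        have e1 : h * u * h⁻¹ = z * u := by rw [hzdef]; group
        calc h ^ (k + 1) * u * (h ^ (k + 1))⁻¹ = h * (h ^ k * u * (h ^ k)⁻¹) * h⁻¹ := by
              rw [pow_succ']; group
          _ = h * (z ^ k * u) * h⁻¹ := by rw [ihk]
          _ = (h * z ^ k) * u * h⁻¹ := by group
          _ = (z ^ k * h) * u * h⁻¹ := by rw [hZcentral _ (Z.pow_mem hz k) h]
          _ = z ^ k * (h * u * h⁻¹) := by group
          _ = z ^ k * (z * u) := by rw [e1]
          _ = z ^ (k + 1) * u := by rw [pow_succ]; group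
    have hz1 : z ^ orderOf h = 1 := by
      have := hconj (orderOf h)
      rw [pow_orderOf_eq_one] at this
      simp only [one_mul, inv_one, mul_one] at this
      exact (mul_eq_right.1 this.symm)
    have hz2 : z ^ p = 1 := (hZle hz).2.2
    have hz3 : z = 1 := by
      have h1 : orderOf z ∣ orderOf h := orderOf_dvd_of_pow_eq_one hz1
      have h2 : orderOf z ∣ p := orderOf_dvd_of_pow_eq_one hz2
      have h3 : orderOf z ∣ 1 := by
        have := Nat.dvd_gcd h1 h2
        rwa [Nat.Coprime.gcd_eq_one hh] at this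
      exact orderOf_eq_one_iff.1 (Nat.dvd_one.1 h3)
    rw [hz3] at hzdef
    have : h * u = (h * u * h⁻¹ * u⁻¹) * (u * h) := by group
    rw [this, ← hzdef, one_mul]

/-- In a group of odd order: if `x`, `y` normalize the `p`-subgroup `P` and act quadratically on it, then every
`p'`-element of `P⟨x,y⟩` centralizes `P`. -/
theorem quad_pair_centralizes {p : ℕ} [Fact p.Prime] (hp : p ≠ 2) {G : Type u} [Group G] [Finite G]
    (hodd : Odd (Nat.card G)) (P : Subgroup G) (hP : IsPGroup p P) (x y : G)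
    (hxN : x ∈ Subgroup.normalizer (P : Set G)) (hyN : y ∈ Subgroup.normalizer (P : Set G))
    (hx : ∀ u ∈ P, x * (x * u * x⁻¹ * u⁻¹) * x⁻¹ = x * u * x⁻¹ * u⁻¹)
    (hy : ∀ u ∈ P, y * (y * u * y⁻¹ * u⁻¹) * y⁻¹ = y * u * y⁻¹ * u⁻¹)
    (h : G) (hh : h ∈ P ⊔ Subgroup.closure {x, y}) (hco : (orderOf h).Coprime p) :
    ∀ u ∈ P, h * u = u * h := by
  obtain ⟨L, hL⟩ : ∃ L, L = P ⊔ Subgroup.closure {x, y} := ⟨_, rfl⟩
  rw [← hL] at hh
  have hPL : P ≤ L := hL ▸ le_sup_left
  have hxL : x ∈ L := by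
    rw [hL]; exact (le_sup_right : _ ≤ P ⊔ Subgroup.closure {x, y}) (Subgroup.subset_closure (by simp))
  have hyL : y ∈ L := by
    rw [hL]; exact (le_sup_right : _ ≤ P ⊔ Subgroup.closure {x, y}) (Subgroup.subset_closure (by simp))
  have hLN : L ≤ Subgroup.normalizer (P : Set G) := by
    rw [hL, sup_le_iff, Subgroup.closure_le]
    refine ⟨Subgroup.le_normalizer, ?_⟩
    intro g hg
    rcases hg with rfl | hg
    · exact hxN
    · rw [Set.mem_singleton_iff] at hg
      subst hg
      exact hyN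
  haveI : (P.subgroupOf L).Normal := Subgroup.normal_subgroupOf_of_le_normalizer hLN
  have hgen : P.subgroupOf L ⊔ Subgroup.closure {(⟨x, hxL⟩ : L), (⟨y, hyL⟩ : L)} = ⊤ := by
    apply Subgroup.map_injective L.subtype_injective
    rw [Subgroup.map_sup, Subgroup.subgroupOf_map_subtype, MonoidHom.map_closure, Set.image_pair,
      ← MonoidHom.range_eq_map, Subgroup.range_subtype, inf_eq_left.2 hPL]
    exact hL.symm
  intro u hu
  have key := quad_pair_gen hp (Nat.card L) L le_rfl (Odd.of_dvd_nat hodd (Subgroup.card_subgroup_dvd_card L))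
    (P.subgroupOf L) hP.comap_subtype ⟨x, hxL⟩ ⟨y, hyL⟩ hgen
    (by
      intro v hv
      apply Subtype.ext
      exact hx v.1 hv)
    (by
      intro v hv
      apply Subtype.ext
      exact hy v.1 hv)
    ⟨h, hh⟩ (by rw [← Subgroup.orderOf_coe]; exact hco) ⟨u, hPL hu⟩ hu
  exact congrArg Subtype.val key

/-- Pair form of `p`-stability: the group `⟨x,y⟩` induces a `p`-group on `P`. -/
theorem quad_pair_pow_mem_centralizer {p : ℕ} [Fact p.Prime] (hp : p ≠ 2) {G : Type u} [Group G] [Finite G]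
    (hodd : Odd (Nat.card G)) (P : Subgroup G) (hP : IsPGroup p P) (x y : G)
    (hxN : x ∈ Subgroup.normalizer (P : Set G)) (hyN : y ∈ Subgroup.normalizer (P : Set G))
    (hx : ∀ u ∈ P, x * (x * u * x⁻¹ * u⁻¹) * x⁻¹ = x * u * x⁻¹ * u⁻¹)
    (hy : ∀ u ∈ P, y * (y * u * y⁻¹ * u⁻¹) * y⁻¹ = y * u * y⁻¹ * u⁻¹)
    (h : G) (hh : h ∈ Subgroup.closure {x, y}) :
    ∃ k : ℕ, h ^ (p ^ k) ∈ Subgroup.centralizer (P : Set G) := by
  obtain ⟨e, m, hm, hem⟩ := Nat.exists_eq_pow_mul_and_not_dvd (orderOf_pos h).ne' p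
    (Fact.out : p.Prime).one_lt.ne'
  refine ⟨e, ?_⟩
  have hco : (orderOf (h ^ (p ^ e))).Coprime p := by
    have h1 : orderOf (h ^ (p ^ e)) ∣ m := by
      apply orderOf_dvd_of_pow_eq_one
      rw [← pow_mul, ← hem, pow_orderOf_eq_one]
    exact Nat.Coprime.of_dvd_left h1
      (((Nat.Prime.coprime_iff_not_dvd (Fact.out : p.Prime)).2 hm).symm)
  rw [Subgroup.mem_centralizer_iff]
  intro u hu
  exact (quad_pair_centralizes hp hodd P hP x y hxN hyN hx hy _
    ((le_sup_right : _ ≤ P ⊔ Subgroup.closure {x, y}) (Subgroup.pow_mem _ hh _)) hco u hu).symm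

/-- `x` acts quadratically on `P`: `[P,x,x] = 1`, elementwise. -/
def Quad {G : Type*} [Group G] (P : Subgroup G) (x : G) : Prop :=
  ∀ u ∈ P, x * (x * u * x⁻¹ * u⁻¹) * x⁻¹ = x * u * x⁻¹ * u⁻¹

theorem Quad.conj {G : Type*} [Group G] {P : Subgroup G} {x : G} (hx : Quad P x) {g : G}
    (hg : g ∈ Subgroup.normalizer (P : Set G)) : Quad P (g * x * g⁻¹) := by
  intro u hu
  have hu' : g⁻¹ * u * g ∈ P := by
    have := (Subgroup.mem_normalizer_iff.1 (Subgroup.inv_mem _ hg) u).1 hu
    simpa using this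
  have := hx _ hu'
  calc g * x * g⁻¹ * (g * x * g⁻¹ * u * (g * x * g⁻¹)⁻¹ * u⁻¹) * (g * x * g⁻¹)⁻¹
      = g * (x * (x * (g⁻¹ * u * g) * x⁻¹ * (g⁻¹ * u * g)⁻¹) * x⁻¹) * g⁻¹ := by group
    _ = g * (x * (g⁻¹ * u * g) * x⁻¹ * (g⁻¹ * u * g)⁻¹) * g⁻¹ := by rw [this]
    _ = g * x * g⁻¹ * u * (g * x * g⁻¹)⁻¹ * u⁻¹ := by group

theorem quad_of_commutator_eq_bot {G : Type*} [Group G] {P A : Subgroup G} (h : ⁅⁅P, A⁆, A⁆ = ⊥) {x : G}
    (hx : x ∈ A) : Quad P x := by
  intro u hu
  have h1 : ⁅⁅u, x⁆, x⁆ ∈ ⁅⁅P, A⁆, A⁆ :=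
    Subgroup.commutator_mem_commutator (Subgroup.commutator_mem_commutator hu hx) hx
  rw [h, Subgroup.mem_bot, commutatorElement_eq_one_iff_mul_comm] at h1
  have h2 : x * u * x⁻¹ * u⁻¹ = ⁅u, x⁆⁻¹ := by rw [commutatorElement_def]; group
  rw [h2]
  have h3 : x * ⁅u, x⁆⁻¹ = ⁅u, x⁆⁻¹ * x := by
    calc x * ⁅u, x⁆⁻¹ = ⁅u, x⁆⁻¹ * (⁅u, x⁆ * x) * ⁅u, x⁆⁻¹ := by group
      _ = ⁅u, x⁆⁻¹ * (x * ⁅u, x⁆) * ⁅u, x⁆⁻¹ := by rw [h1]
      _ = ⁅u, x⁆⁻¹ * x := by group
  rw [h3, mul_assoc, mul_inv_cancel, mul_one]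

/-- `p`-stability of groups of odd order, for one element. -/
theorem pstable_elt {p : ℕ} [Fact p.Prime] (hp : p ≠ 2) {G : Type u} [Group G] [Finite G]
    (hodd : Odd (Nat.card G)) (P : Subgroup G) (hP : IsPGroup p P)
    (a : Subgroup.normalizer (P : Set G)) (ha : Quad P (a : G)) :
    QuotientGroup.mk' ((Subgroup.centralizer (P : Set G)).subgroupOf (Subgroup.normalizer (P : Set G))) a
      ∈ Cfsg.pCore p _ := by
  obtain ⟨f, hf⟩ : ∃ f, f =
    QuotientGroup.mk' ((Subgroup.centralizer (P : Set G)).subgroupOf (Subgroup.normalizer (P : Set G))) := ⟨_, rfl⟩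
  rw [← hf]
  have hpair : ∀ g : Subgroup.normalizer (P : Set G),
      IsPGroup p ((Subgroup.closure {a, g * a * g⁻¹}).map f) := by
    intro g
    rintro ⟨_, h, hh, rfl⟩
    have hh' : (h : G) ∈ Subgroup.closure {(a : G), (g : G) * a * (g : G)⁻¹} := by
      have : (h : G) ∈ (Subgroup.closure {a, g * a * g⁻¹}).map (Subgroup.normalizer (P : Set G)).subtype :=
        ⟨h, hh, rfl⟩
      rw [MonoidHom.map_closure, Set.image_pair] at this
      simpa using this
    obtain ⟨k, hk⟩ := quad_pair_pow_mem_centralizer hp hodd P hP (a : G) ((g : G) * a * (g : G)⁻¹) a.2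
      ((g * a * g⁻¹ : Subgroup.normalizer (P : Set G))).2 ha (ha.conj g.2) h hh'
    refine ⟨k, ?_⟩
    apply Subtype.ext
    show (f h) ^ (p ^ k) = 1
    rw [← map_pow, hf, QuotientGroup.mk'_apply, QuotientGroup.eq_one_iff, Subgroup.mem_subgroupOf]
    simpa using hk
  have hX : IsPGroup p (Subgroup.zpowers (f a)) := by
    refine (hpair 1).to_le ?_
    rw [Subgroup.zpowers_le]
    exact ⟨a, Subgroup.subset_closure (by simp), rfl⟩
  obtain ⟨N, hNn, hNp, hXN⟩ := Cfsg.Agent.S0199.result (Subgroup.zpowers (f a)) hX (by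
    intro g
    obtain ⟨g', rfl⟩ : ∃ g', f g' = g := by
      rw [hf]; exact QuotientGroup.mk'_surjective _ g
    refine (hpair g').to_le ?_
    rw [sup_le_iff]
    constructor
    · rw [Subgroup.zpowers_le]
      exact ⟨a, Subgroup.subset_closure (by simp), rfl⟩
    · rw [MonoidHom.map_zpowers, Subgroup.zpowers_le]
      exact ⟨g' * a * g'⁻¹, Subgroup.subset_closure (by simp), by simp⟩)
  have hle : N ≤ Cfsg.pCore p _ := le_sSup (And.intro hNn hNp)
  exact hle (hXN (Subgroup.mem_zpowers _))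

end Cfsg.Agent.Lib.Helper30
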