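import Mathlib
import Cfsg.Agent.Lib.Helper30.PStable
import Cfsg.Agent.Lib.Helper14.PConstrained

/-!
More forms of p-stability for groups of odd order, and Hall-Higman 1.2.3 for solvable groups in a relative form.
-/

set_option autoImplicit false
set_option linter.style.haveILetI false
open scoped commutatorElement

namespace Cfsg.Agent.Lib.Helper30

universe u

/-- General homomorphism form of `p`-stability. -/
theorem pstable_hom {p : ℕ} [Fact p.Prime] (hp : p ≠ 2) {G : Type u} [Group G] [Finite G]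
    (hodd : Odd (Nat.card G)) (P : Subgroup G) (hP : IsPGroup p P)
    {N Q : Type*} [Group N] [Group Q] [Finite Q] (ι : N →* G)
    (hι : ∀ n, ι n ∈ Subgroup.normalizer (P : Set G))
    (f : N →* Q) (hf : Function.Surjective f)
    (hker : ∀ n, ι n ∈ Subgroup.centralizer (P : Set G) → f n = 1)
    (a : N) (ha : Quad P (ι a)) : f a ∈ Cfsg.pCore p Q := by
  have hpair : ∀ g : N, IsPGroup p ((Subgroup.closure {a, g * a * g⁻¹}).map f) := by
    intro g
    rintro ⟨_, h, hh, rfl⟩
    have hh' : ι h ∈ Subgroup.closure {ι a, ι g * ι a * (ι g)⁻¹} := by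
      have : ι h ∈ (Subgroup.closure {a, g * a * g⁻¹}).map ι := ⟨h, hh, rfl⟩
      rw [MonoidHom.map_closure, Set.image_pair] at this
      simpa using this
    obtain ⟨k, hk⟩ := quad_pair_pow_mem_centralizer hp hodd P hP (ι a) (ι g * ι a * (ι g)⁻¹) (hι a)
      (by simpa using hι (g * a * g⁻¹)) ha (ha.conj (hι g)) (ι h) hh'
    refine ⟨k, ?_⟩
    apply Subtype.ext
    show (f h) ^ (p ^ k) = 1
    rw [← map_pow]
    apply hker
    rw [map_pow]
    exact hk
  have hX : IsPGroup p (Subgroup.zpowers (f a)) := by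
    refine (hpair 1).to_le ?_
    rw [Subgroup.zpowers_le]
    exact ⟨a, Subgroup.subset_closure (by simp), rfl⟩
  obtain ⟨N', hNn, hNp, hXN⟩ := Cfsg.Agent.S0199.result (Subgroup.zpowers (f a)) hX (by
    intro g
    obtain ⟨g', rfl⟩ := hf g
    refine (hpair g').to_le ?_
    rw [sup_le_iff]
    constructor
    · rw [Subgroup.zpowers_le]
      exact ⟨a, Subgroup.subset_closure (by simp), rfl⟩
    · rw [MonoidHom.map_zpowers, Subgroup.zpowers_le]
      exact ⟨g' * a * g'⁻¹, Subgroup.subset_closure (by simp), by simp⟩)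
  have hle : N' ≤ Cfsg.pCore p _ := le_sSup (And.intro hNn hNp)
  exact hle (hXN (Subgroup.mem_zpowers _))

/-- `p`-stability for a normal `p`-subgroup. -/
theorem pstable_normal {p : ℕ} [Fact p.Prime] (hp : p ≠ 2) {G : Type u} [Group G] [Finite G]
    (hodd : Odd (Nat.card G)) (P : Subgroup G) [P.Normal] (hP : IsPGroup p P)
    (a : G) (ha : Quad P a) :
    QuotientGroup.mk' (Subgroup.centralizer (P : Set G)) a ∈
      Cfsg.pCore p (G ⧸ Subgroup.centralizer (P : Set G)) :=
  pstable_hom hp hodd P hP (MonoidHom.id G) (fun n => by rw [Subgroup.normalizer_eq_top]; trivial)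
    (QuotientGroup.mk' (Subgroup.centralizer (P : Set G))) (QuotientGroup.mk'_surjective _)
    (fun n hn => (QuotientGroup.eq_one_iff n).2 hn) a ha

theorem pCore_normal' (p : ℕ) (G : Type*) [Group G] : (Cfsg.pCore p G).Normal :=
  haveI := Cfsg.Agent.Lib.Helper14.pCore_characteristic p G
  inferInstance

/-- If moreover `C_G(P)` is a `p`-group, a quadratic element lies in `O_p(G)`. -/
theorem pstable_mem_pCore {p : ℕ} [Fact p.Prime] (hp : p ≠ 2) {G : Type u} [Group G] [Finite G]
    (hodd : Odd (Nat.card G)) (P : Subgroup G) [P.Normal] (hP : IsPGroup p P)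
    (hC : IsPGroup p (Subgroup.centralizer (P : Set G)))
    (a : G) (ha : Quad P a) : a ∈ Cfsg.pCore p G := by
  have h1 := pstable_normal hp hodd P hP a ha
  haveI := pCore_normal' p (G ⧸ Subgroup.centralizer (P : Set G))
  have hDn : ((Cfsg.pCore p (G ⧸ Subgroup.centralizer (P : Set G))).comap
      (QuotientGroup.mk' (Subgroup.centralizer (P : Set G)))).Normal := inferInstance
  have hDp : IsPGroup p ((Cfsg.pCore p (G ⧸ Subgroup.centralizer (P : Set G))).comap
      (QuotientGroup.mk' (Subgroup.centralizer (P : Set G)))) := by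
    rintro ⟨d, hd⟩
    obtain ⟨k, hk⟩ := (Cfsg.Agent.Lib.Helper14.isPGroup_pCore (p := p)
      (G := G ⧸ Subgroup.centralizer (P : Set G))) ⟨_, hd⟩
    have hk' : (QuotientGroup.mk' (Subgroup.centralizer (P : Set G)) d) ^ (p ^ k) = 1 :=
      congrArg Subtype.val hk
    rw [← map_pow, QuotientGroup.mk'_apply, QuotientGroup.eq_one_iff] at hk'
    obtain ⟨l, hl⟩ := hC ⟨_, hk'⟩
    have hl' : (d ^ (p ^ k)) ^ (p ^ l) = 1 := congrArg Subtype.val hl
    refine ⟨k + l, Subtype.ext ?_⟩
    show d ^ (p ^ (k + l)) = 1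
    rw [pow_add, pow_mul, hl']
  exact Cfsg.Agent.Lib.Helper14.le_pCore hDn hDp h1

/-- With trivial `p'`-core, normal nilpotent subgroups lie in `O_p(G)`. -/
theorem nilpotent_normal_le_pCore {p : ℕ} [Fact p.Prime] {G : Type*} [Group G] [Finite G]
    (hO : Cfsg.pPrimeCore p G = ⊥) (M : Subgroup G) [hMn : M.Normal] (hM : Group.IsNilpotent M) :
    M ≤ Cfsg.pCore p G := by
  apply Cfsg.Agent.Lib.Helper14.le_pCore hMn
  have hall : ∀ (q : ℕ), Fact (Nat.Prime q) → ∀ (Q : Sylow q M), (Q : Subgroup M).Normal :=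
    ((Group.isNilpotent_of_finite_tfae (G := M)).out 0 3).1 hM
  have hq : ∀ {q : ℕ}, q.Prime → q ∣ Nat.card M → q = p := by
    intro q hq hdvd
    by_contra hne
    haveI : Fact q.Prime := ⟨hq⟩
    obtain ⟨Q⟩ : Nonempty (Sylow q M) := inferInstance
    have hQn := hall q inferInstance Q
    haveI := Q.characteristic_of_normal hQn
    have hQG : ((Q : Subgroup M).map M.subtype).Normal := ConjAct.normal_of_characteristic_of_normal
    have hcard : (Nat.card ((Q : Subgroup M).map M.subtype)).Coprime p := by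
      rw [Subgroup.card_map_of_injective M.subtype_injective]
      obtain ⟨k, hk⟩ := IsPGroup.iff_card.1 Q.2
      rw [hk]
      exact Nat.Coprime.pow_left _ ((Nat.coprime_primes hq (Fact.out : p.Prime)).2 hne)
    have hle := Cfsg.Agent.Lib.Helper14.le_pPrimeCore hQG hcard
    rw [hO, le_bot_iff, Subgroup.map_eq_bot_iff_of_injective _ M.subtype_injective] at hle
    exact Q.ne_bot_of_dvd_card hdvd hle
  exact IsPGroup.of_card (Nat.eq_prime_pow_of_unique_prime_dvd Nat.card_pos.ne' hq)

/-- Hall-Higman 1.2.3, relative form: in a group with trivial `p'`-core, a solvable normal subgroup `C` which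
centralizes `C ∩ O_p(G)` lies in `O_p(G)`. -/
theorem normal_le_pCore_of_centralizes {p : ℕ} [Fact p.Prime] {G : Type*} [Group G] [Finite G]
    (hO : Cfsg.pPrimeCore p G = ⊥) (C : Subgroup G) (hsol : Group.IsSolvable C)
    (hC : ∀ c ∈ C, ∀ t ∈ C ⊓ Cfsg.pCore p G, c * t = t * c) :
    ∀ (n : ℕ) (M : Subgroup G), M.Normal → M ≤ C → Nat.card M ≤ n → M ≤ Cfsg.pCore p G := by
  intro n
  induction n with
  | zero =>
    intro M _ _ hn
    have := Nat.card_pos (α := M)
    omega
  | succ n ih =>
    intro M hMn hMC hn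
    by_cases hbot : M = ⊥
    · rw [hbot]; exact bot_le
    have hMsol : Group.IsSolvable M := isSolvable_of_le hMC hsol
    have hlt := commutator_lt_of_solvable hMsol hbot
    have hcn : (⁅M, M⁆ : Subgroup G).Normal := Subgroup.commutator_normal M M
    have h1 : ⁅M, M⁆ ≤ Cfsg.pCore p G :=
      ih _ hcn (hlt.le.trans hMC) (by have := card_lt_of_lt hlt; omega)
    have hnil : Group.IsNilpotent M := by
      apply Subgroup.isNilpotent_of_ker_le_center (Abelianization.of : M →* Abelianization M)
      rw [Abelianization.ker_of]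
      intro z hz
      rw [Subgroup.mem_center_iff]
      intro m
      apply Subtype.ext
      have hz' : (z : G) ∈ ⁅M, M⁆ := by
        rw [← Subgroup.map_subtype_commutator]
        exact ⟨z, hz, rfl⟩
      exact hC m.1 (hMC m.2) z.1 ⟨hMC z.2, h1 hz'⟩
    exact nilpotent_normal_le_pCore hO M hnil

/-- Hall-Higman 1.2.3 for solvable groups. -/
theorem centralizer_pCore_le_of_solvable {p : ℕ} [Fact p.Prime] {G : Type*} [Group G] [Finite G]
    [Group.IsSolvable G] (hO : Cfsg.pPrimeCore p G = ⊥) :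
    Subgroup.centralizer (Cfsg.pCore p G : Set G) ≤ Cfsg.pCore p G := by
  haveI := pCore_normal' p G
  exact normal_le_pCore_of_centralizes hO (Subgroup.centralizer (Cfsg.pCore p G : Set G)) inferInstance
    (fun c hc t ht => ((Subgroup.mem_centralizer_iff.1 hc) t ht.2).symm) _ _ inferInstance le_rfl le_rfl

end Cfsg.Agent.Lib.Helper30
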