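import Cfsg.Agent.Lib.Helper68.BG10C
import Cfsg.Agent.Lib.Helper40.BG12a
import Cfsg.Agent.Lib.Helper40.PComp
import Cfsg.Agent.S1453

/-!
Narrow `p`-groups from a maximal elementary abelian subgroup of order `p ^ 2` (B-G 5.2/5.3), and
some API for normal `p`-complements.
-/

set_option autoImplicit false

namespace Cfsg.Agent.Lib.Helper30

open Subgroup Cfsg.Agent.Lib.Helper2

theorem ea_closure_center {R : Type*} [Group R] (p : ℕ) :
    Cfsg.IsElementaryAbelian p (closure {x : R | x ∈ center R ∧ x ^ p = 1}) := by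
  have key : ∀ y ∈ closure {x : R | x ∈ center R ∧ x ^ p = 1}, y ∈ center R ∧ y ^ p = 1 := by
    intro y hy
    induction hy using closure_induction with
    | mem y hy => exact hy
    | one => exact ⟨one_mem _, one_pow _⟩
    | mul y z _ _ hy hz =>
      refine ⟨mul_mem hy.1 hz.1, ?_⟩
      have hc : Commute y z := (mem_center_iff.mp hy.1 z).symm
      rw [hc.mul_pow, hy.2, hz.2, one_mul]
    | inv y _ hy => exact ⟨inv_mem hy.1, by rw [inv_pow, hy.2, inv_one]⟩
  refine ⟨⟨⟨fun a b => Subtype.ext ?_⟩⟩, fun a ha => (key a ha).2⟩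
  exact (mem_center_iff.mp (key a.1 a.2).1 b.1).symm

theorem isNarrow_of_maximal_sq {R : Type*} [Group R] [Finite R] (p : ℕ) [hpp : Fact p.Prime]
    (hp : p ≠ 2) (hR : IsPGroup p R) (E : Subgroup R) (hE : Cfsg.IsElementaryAbelian p E)
    (hE2 : Nat.card E = p ^ 2)
    (hEmax : ∀ B : Subgroup R, Cfsg.IsElementaryAbelian p B → E ≤ B → B = E) :
    Cfsg.IsNarrow p R := by
  by_cases hr : Cfsg.PRankLE p 2 R
  · exact Or.inl hr
  right
  obtain ⟨hET, hZ, -, hTc, hTi⟩ := Cfsg.Agent.S1453.result p hp hR hr E hE hE2 hEmax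
  set T := centralizer ((closure {x : R | x ∈ Subgroup.upperCentralSeries R 2 ∧ x ^ p = 1} : Subgroup R) : Set R)
    with hT
  set Z := closure {x : R | x ∈ center R ∧ x ^ p = 1} with hZdef
  obtain ⟨s, hsE, hsT⟩ := SetLike.not_le_iff_exists.mp hET
  have hTn : T.Normal := normal_of_characteristic T
  have hs1 : s ≠ 1 := by
    rintro rfl
    exact hsT (one_mem _)
  have hso : orderOf s = p := orderOf_eq_prime (hE.2 s hsE) hs1
  have hZc : Z ≤ center R := (closure_le _).mpr (fun x hx => hx.1)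
  have hZe : Cfsg.IsElementaryAbelian p Z := ea_closure_center p
  have hZT : Z ≤ T := hZc.trans (center_le_centralizer _)
  -- `Z ≤ E`
  have hZE : Z ≤ E := by
    have h1 : Cfsg.IsElementaryAbelian p (E ⊔ Z) := ea_sup hE hZe (fun a _ b hb =>
      (mem_center_iff.mp (hZc hb) a))
    have h2 := hEmax _ h1 le_sup_left
    exact h2 ▸ le_sup_right
  -- `E = ⟨s⟩ Z`
  have hsZ : s ∉ Z := fun h => hsT (hZT h)
  have hEeq : zpowers s ⊔ Z = E := by
    have hle : zpowers s ⊔ Z ≤ E := sup_le (zpowers_le.mpr hsE) hZE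
    have hlt : Z < zpowers s ⊔ Z := by
      refine lt_of_le_of_ne le_sup_right ?_
      intro h
      exact hsZ (h ▸ mem_sup_left (mem_zpowers s))
    have h1 := card_lt_of_lt hlt
    rw [hZ] at h1
    have h2 : Nat.card ↥(zpowers s ⊔ Z) ∣ p ^ 2 := hE2 ▸ card_dvd_of_le hle
    obtain ⟨k, hk, hk2⟩ := (Nat.dvd_prime_pow hpp.out).mp h2
    have hk3 : k = 2 := by
      rw [hk2] at h1
      have : p ^ 1 < p ^ k := by simpa using h1
      have := (Nat.pow_lt_pow_iff_right hpp.out.one_lt).mp this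
      omega
    subst hk3
    exact eq_of_le_of_card_ge hle (by rw [hk2, hE2])
  set R₀ := zpowers s with hR₀
  set C := centralizer (R₀ : Set R) with hC
  set R₁ := T ⊓ C with hR₁
  have hR₀card : Nat.card R₀ = p := by rw [hR₀, Nat.card_zpowers, hso]
  have hR₀C : R₀ ≤ C := by
    rw [hC, hR₀]
    exact le_centralizer_iff_isMulCommutative.mpr inferInstance
  have hsR₁ : s ∉ R₁ := fun h => hsT (mem_inf.mp h).1
  have hETlt : Nat.card ↥(E ⊓ T) ≤ p := by
    have hlt : E ⊓ T < E := lt_of_le_of_ne inf_le_left (fun h => hET (h ▸ inf_le_right))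
    have h1 := card_lt_of_lt hlt
    have h2 : Nat.card ↥(E ⊓ T) ∣ p ^ 2 := hE2 ▸ card_dvd_of_le inf_le_left
    obtain ⟨k, hk, hk2⟩ := (Nat.dvd_prime_pow hpp.out).mp h2
    rw [hk2, hE2] at h1
    have := (Nat.pow_lt_pow_iff_right hpp.out.one_lt).mp h1
    rw [hk2]
    calc p ^ k ≤ p ^ 1 := Nat.pow_le_pow_right hpp.out.pos (by omega)
      _ = p := pow_one p
  refine ⟨R₀, R₁, hR₀card, ?_, ?_, ?_, ?_⟩
  · have hrk : Cfsg.PRankLE p 1 ↥R₁ := by
      intro B hBc hBe
      have hB' : Cfsg.IsElementaryAbelian p (B.map R₁.subtype) := by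
        refine ⟨⟨⟨?_⟩⟩, ?_⟩
        · rintro ⟨_, a, ha, rfl⟩ ⟨_, b, hb, rfl⟩
          apply Subtype.ext
          have := congrArg Subtype.val (hBc.is_comm.comm (⟨a, ha⟩ : B) ⟨b, hb⟩)
          exact congrArg (Subtype.val : ↥R₁ → R) this
        · rintro _ ⟨a, ha, rfl⟩
          exact congrArg Subtype.val (hBe a ha)
      have hB'le : B.map R₁.subtype ≤ R₁ := map_subtype_le _
      have hcomm : ∀ a ∈ E, ∀ b ∈ B.map R₁.subtype, a * b = b * a := by
        intro a ha b hb
        have h1 : E ≤ centralizer ({b} : Set R) := by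
          rw [← hEeq]
          refine sup_le ?_ (hZc.trans (center_le_centralizer _))
          rw [zpowers_le, mem_centralizer_singleton_iff]
          have := mem_centralizer_iff.mp (mem_inf.mp (hB'le hb)).2 s (mem_zpowers s)
          exact this
        exact (mem_centralizer_singleton_iff.mp (h1 ha))
      have h2 := hEmax _ (ea_sup hE hB' hcomm) le_sup_left
      have h3 : B.map R₁.subtype ≤ E ⊓ T :=
        le_inf (h2 ▸ le_sup_right) (hB'le.trans inf_le_left)
      rw [pow_one, ← card_map_of_injective R₁.subtype_injective]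
      exact (card_le_of_le h3).trans hETlt
    have h1 := Cfsg.Agent.Lib.Helper40.BG12.isCyclic_of_isPGroup_rank_one hp hrk ⊤
      ((hR.to_subgroup R₁).to_subgroup _)
    exact isCyclic_of_surjective (Subgroup.topEquiv : (⊤ : Subgroup ↥R₁) ≃* ↥R₁)
      (Subgroup.topEquiv : (⊤ : Subgroup ↥R₁) ≃* ↥R₁).surjective
  · have h1 : Nat.card ↥(R₀ ⊓ R₁) ∣ p := hR₀card ▸ card_dvd_of_le inf_le_left
    rcases (Nat.dvd_prime hpp.out).mp h1 with h | h
    · exact card_eq_one.mp h
    · exfalso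
      have h2 : R₀ ⊓ R₁ = R₀ := eq_of_le_of_card_ge inf_le_left (by rw [h, hR₀card])
      exact hsR₁ ((h2 ▸ inf_le_right : R₀ ≤ R₁) (mem_zpowers s))
  · intro a ha b hb
    exact mem_centralizer_iff.mp (mem_inf.mp hb).2 a ha
  · have hXC : R₀ ⊔ R₁ ≤ C := sup_le hR₀C inf_le_right
    refine le_antisymm hXC ?_
    have h1 : T.relIndex C ∣ p := hTi ▸ relIndex_dvd_index_of_normal T C
    have h2 : R₁.relIndex C = T.relIndex C := inf_relIndex_right T C
    have h3 := relIndex_mul_relIndex R₁ (R₀ ⊔ R₁) C le_sup_right hXC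
    have h4 : R₁.relIndex (R₀ ⊔ R₁) ≠ 1 := by
      intro h
      exact hsR₁ (relIndex_eq_one.mp h (mem_sup_left (mem_zpowers s)))
    have h5 : R₁.relIndex (R₀ ⊔ R₁) ∣ p := (Dvd.intro _ h3).trans (h2 ▸ h1)
    have h6 : R₁.relIndex (R₀ ⊔ R₁) = p := ((Nat.dvd_prime hpp.out).mp h5).resolve_left h4
    rw [h6, h2] at h3
    have h7 : p * (R₀ ⊔ R₁).relIndex C ∣ p * 1 := by rw [h3, mul_one]; exact h1
    have h8 := Nat.dvd_of_mul_dvd_mul_left hpp.out.pos h7
    exact relIndex_eq_one.mp (Nat.dvd_one.mp h8)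

theorem ea_map {G R : Type*} [Group G] [Group R] {p : ℕ} (f : R →* G) {B : Subgroup R}
    (hB : Cfsg.IsElementaryAbelian p B) : Cfsg.IsElementaryAbelian p (B.map f) := by
  refine ⟨⟨⟨?_⟩⟩, ?_⟩
  · rintro ⟨_, a, ha, rfl⟩ ⟨_, b, hb, rfl⟩
    apply Subtype.ext
    show f a * f b = f b * f a
    rw [← map_mul, ← map_mul, ea_comm hB ha hb]
  · rintro _ ⟨a, ha, rfl⟩
    rw [← map_pow, hB.2 a ha, map_one]

theorem ea_comap {G R : Type*} [Group G] [Group R] {p : ℕ} (f : R →* G) (hf : Function.Injective f)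
    {A : Subgroup G} (hA : Cfsg.IsElementaryAbelian p A) : Cfsg.IsElementaryAbelian p (A.comap f) := by
  refine ⟨⟨⟨?_⟩⟩, ?_⟩
  · rintro ⟨a, ha⟩ ⟨b, hb⟩
    apply Subtype.ext
    apply hf
    show f (a * b) = f (b * a)
    rw [map_mul, map_mul, ea_comm hA (mem_comap.mp ha) (mem_comap.mp hb)]
  · intro a ha
    apply hf
    rw [map_pow, hA.2 _ (mem_comap.mp ha), map_one]

theorem isNarrow_of_injective {G R : Type*} [Group G] [Group R] [Finite R] (p : ℕ) [Fact p.Prime]
    (hp : p ≠ 2) (hR : IsPGroup p R) (f : R →* G) (hf : Function.Injective f) (A : Subgroup G)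
    (hAf : A ≤ f.range) (hA : Cfsg.IsElementaryAbelian p A) (hA2 : Nat.card A = p ^ 2)
    (hmax : ∀ B : Subgroup G, B ≤ f.range → Cfsg.IsElementaryAbelian p B → A ≤ B → B = A) :
    Cfsg.IsNarrow p R := by
  have hmc : (A.comap f).map f = A := map_comap_eq_self hAf
  apply isNarrow_of_maximal_sq p hp hR (A.comap f) (ea_comap f hf hA)
  · rw [← card_map_of_injective hf, hmc, hA2]
  · intro B hB hle
    have h1 := hmax (B.map f) (map_le_range f B) (ea_map f hB) (hmc ▸ map_mono hle)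
    rw [← comap_map_eq_self_of_injective hf B, h1]

/-! ### normal `p`-complements -/

theorem hasNormalPComplement_of_injective {H K : Type*} [Group H] [Group K] [Finite H] [Finite K]
    {p : ℕ} [Fact p.Prime] (f : H →* K) (hf : Function.Injective f)
    (h : Cfsg.HasNormalPComplement p K) : Cfsg.HasNormalPComplement p H := by
  obtain ⟨N, hN, h1, -, h3⟩ := Cfsg.Agent.Lib.Helper40.HasNormalPComplement.exists_normal h
  refine Cfsg.Agent.Lib.Helper40.hasNormalPComplement_of_coprime_mem (N.comap f) ?_ ?_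
  · rw [← card_map_of_injective hf]
    exact Nat.Coprime.coprime_dvd_left (card_dvd_of_le (map_comap_le f N)) h1
  · intro g hg
    rw [mem_comap, h3, orderOf_injective f hf]
    exact hg

theorem hasNormalPComplement_of_le {G : Type*} [Group G] [Finite G] {p : ℕ} [Fact p.Prime]
    {A B : Subgroup G} (hAB : A ≤ B) (h : Cfsg.HasNormalPComplement p ↥B) :
    Cfsg.HasNormalPComplement p ↥A :=
  hasNormalPComplement_of_injective (inclusion hAB) (inclusion_injective hAB) h

/-- a finite group with a normal `p`-complement for every prime divisor `p` of its order is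
nilpotent. -/
theorem isNilpotent_of_forall_hasNormalPComplement {H : Type*} [Group H] [Finite H]
    (h : ∀ p : ℕ, p.Prime → p ∣ Nat.card H → Cfsg.HasNormalPComplement p H) :
    Group.IsNilpotent H := by
  refine (Group.isNilpotent_of_finite_tfae.out 0 3).mpr ?_
  intro p hp P
  set N : Subgroup H := ⨅ (q : {q : ℕ // q.Prime ∧ q ≠ p}), Cfsg.pResidual q.1 H with hN
  have hNn : N.Normal :=
    normal_iInf_normal (fun q => Cfsg.Agent.Lib.Helper40.pResidual_normal q.1 H)
  have hres : ∀ q : ℕ, q.Prime → ∀ g ∈ Cfsg.pResidual q H, (orderOf g).Coprime q := by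
    intro q hq g hg
    have : Fact q.Prime := ⟨hq⟩
    by_cases hqd : q ∣ Nat.card H
    · obtain ⟨K, hK, -, -, h3⟩ := Cfsg.Agent.Lib.Helper40.HasNormalPComplement.exists_normal (h q hq hqd)
      have hle : Cfsg.pResidual q H ≤ K := (closure_le _).mpr (fun x hx => (h3 x).mpr hx)
      exact (h3 g).mp (hle hg)
    · exact Nat.Coprime.coprime_dvd_left (orderOf_dvd_natCard g)
        ((Nat.Prime.coprime_iff_not_dvd hq).mpr hqd).symm
  have hNp : IsPGroup p N := by
    rw [IsPGroup.iff_orderOf]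
    intro g
    refine ⟨_, Nat.eq_prime_pow_of_unique_prime_dvd (orderOf_pos g).ne' ?_⟩
    intro d hd hdg
    by_contra hne
    have h1 : (g : H) ∈ Cfsg.pResidual d H := (mem_iInf.mp g.2) ⟨d, hd, hne⟩
    have h2 := hres d hd _ h1
    rw [Subgroup.orderOf_coe] at h2
    exact hd.one_lt.ne' (Nat.Coprime.eq_one_of_dvd h2.symm hdg)
  have hPN : (P : Subgroup H) ≤ N := by
    intro g hg
    rw [hN, mem_iInf]
    rintro ⟨q, hq, hne⟩
    apply Subgroup.subset_closure
    show (orderOf g).Coprime q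
    obtain ⟨k, hk⟩ := (IsPGroup.iff_orderOf.mp P.2) ⟨g, hg⟩
    rw [Subgroup.orderOf_mk] at hk
    rw [hk]
    exact Nat.Coprime.pow_left _ ((Nat.coprime_primes hp.out hq).mpr (Ne.symm hne))
  have := P.is_maximal' hNp hPN
  rw [← this]
  exact hNn

end Cfsg.Agent.Lib.Helper30
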