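import Cfsg.Agent.Lib.Helper30.Transitivity
import Mathlib.GroupTheory.IsSubnormal
import Mathlib.GroupTheory.Abelianization.Defs

set_option autoImplicit false

namespace Cfsg.Agent.Lib.Helper30

open Subgroup
open scoped Pointwise commutatorElement

variable {G : Type*} [Group G]

theorem normalizer_cj (g : G) (X : Subgroup G) :
    normalizer ((cj g X : Subgroup G) : Set G) = cj g (normalizer (X : Set G)) := by
  ext y
  rw [mem_cj]
  constructor
  · intro hy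
    apply mem_normalizer_of_cj_eq
    have h1 := cj_eq_of_mem_normalizer hy
    rw [cj_mul, cj_mul, h1, cj_inv_cj]
  · intro hy
    apply mem_normalizer_of_cj_eq
    have h1 := cj_eq_of_mem_normalizer hy
    rw [cj_mul, cj_mul] at h1
    have h2 := congrArg (cj g) h1
    rwa [cj_cj_inv] at h2

theorem cj_piCoreOf_le [Finite G] (π : Set ℕ) (g : G) (X : Subgroup G) :
    cj g (Cfsg.piCoreOf π X) ≤ Cfsg.piCoreOf π (cj g X) := by
  apply le_piCoreOf (cj_mono g (piCoreOf_le π X))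
  · rw [normalizer_cj]
    exact cj_mono g (le_normalizer_piCoreOf π X)
  · rw [card_cj]; exact piCoreOf_isPi π X

theorem cj_piCoreOf [Finite G] (π : Set ℕ) (g : G) (X : Subgroup G) :
    cj g (Cfsg.piCoreOf π X) = Cfsg.piCoreOf π (cj g X) := by
  apply le_antisymm (cj_piCoreOf_le π g X)
  have h := cj_piCoreOf_le π g⁻¹ (cj g X)
  rw [cj_inv_cj] at h
  exact cj_le_iff.mp h |>.trans (by rw [inv_inv])

theorem centralizer_cj (g : G) (X : Subgroup G) :
    centralizer ((cj g X : Subgroup G) : Set G) = cj g (centralizer (X : Set G)) := by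
  ext y
  rw [mem_cj, mem_centralizer_iff, mem_centralizer_iff]
  constructor
  · intro h x hx
    have h1 := h (g * x * g⁻¹) (conj_mem_cj hx)
    calc x * (g⁻¹ * y * g) = g⁻¹ * ((g * x * g⁻¹) * y) * g := by group
      _ = g⁻¹ * y * g * x := by rw [h1]; group
  · intro h x hx
    have h1 := h (g⁻¹ * x * g) (mem_cj.mp hx)
    calc x * y = g * ((g⁻¹ * x * g) * (g⁻¹ * y * g)) * g⁻¹ := by group
      _ = y * x := by rw [h1]; group

theorem normalizer_le_normalizer_centralizer (B : Subgroup G) :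
    normalizer (B : Set G) ≤ normalizer ((centralizer (B : Set G) : Subgroup G) : Set G) := by
  intro g hg
  apply mem_normalizer_of_cj_eq
  rw [← centralizer_cj, cj_eq_of_mem_normalizer hg]

theorem normalizer_le_normalizer_piCoreOf [Finite G] (π : Set ℕ) (X : Subgroup G) :
    normalizer (X : Set G) ≤ normalizer ((Cfsg.piCoreOf π X : Subgroup G) : Set G) := by
  intro g hg
  apply mem_normalizer_of_cj_eq
  rw [cj_piCoreOf, cj_eq_of_mem_normalizer hg]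

/-- B & G, Theorem 7.5(a). -/
theorem transK_inf_centralizer [Finite G] (hG : Cfsg.IsMinSimpleOddOrder G) {A : Subgroup G}
    (hA : Cfsg.TransitivityHypothesis A) {B : Subgroup G} (hAB : A ≤ B) :
    transK A ⊓ centralizer (B : Set G) =
      Cfsg.piCoreOf (Cfsg.primesNotDvd (Nat.card A)) (centralizer (B : Set G)) := by
  have hCC : centralizer (B : Set G) ≤ centralizer (A : Set G) := centralizer_le hAB
  apply le_antisymm
  · apply le_piCoreOf inf_le_right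
    · apply le_normalizer_inf _ le_normalizer
      exact hCC.trans (le_normalizer_piCoreOf _ _)
    · exact (piCoreOf_isPi _ _).of_dvd (card_dvd_of_le inf_le_left)
  · apply le_inf _ (piCoreOf_le _ _)
    exact core_inf_centralizer_le hG hA (piCoreOf_isPi _ _) ((piCoreOf_le _ _).trans hCC)

theorem cj_mem_maxInv_of_normalizer [Finite G] {B T : Subgroup G} {q : ℕ} [Fact q.Prime] {b : G}
    (hb : b ∈ normalizer (B : Set G)) (hT : T ∈ Cfsg.maxInvSubgroups ⊤ B {q}) :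
    cj b T ∈ Cfsg.maxInvSubgroups ⊤ B {q} := by
  have aux : ∀ (g : G), g ∈ normalizer (B : Set G) → ∀ R : Subgroup G, B ≤ normalizer (R : Set G) →
      B ≤ normalizer ((cj g R : Subgroup G) : Set G) := by
    intro g hg R hR
    rw [normalizer_cj, ← cj_eq_of_mem_normalizer hg]
    exact cj_mono g hR
  obtain ⟨hT1, hT2⟩ := hT
  rw [mem_invSubgroups_top_iff] at hT1
  refine ⟨mem_invSubgroups_top_iff.mpr ⟨isPGroup_cj b hT1.1, aux b hb T hT1.2⟩, ?_⟩
  intro R hR hle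
  rw [mem_invSubgroups_top_iff] at hR
  have h1 : cj b⁻¹ R = T := hT2 _ (mem_invSubgroups_top_iff.mpr
    ⟨isPGroup_cj _ hR.1, aux b⁻¹ (inv_mem hb) R hR.2⟩) (cj_le_iff.mp hle)
  rw [← h1, cj_cj_inv]

theorem maxInv_of_le [Finite G] {A B Q : Subgroup G} {q : ℕ} [Fact q.Prime] (hAB : A ≤ B)
    (hQ : Q ∈ Cfsg.maxInvSubgroups ⊤ A {q}) (hBQ : B ≤ normalizer (Q : Set G)) :
    Q ∈ Cfsg.maxInvSubgroups ⊤ B {q} := by
  have hi := mem_invSubgroups_top_iff.mp hQ.1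
  refine ⟨mem_invSubgroups_top_iff.mpr ⟨hi.1, hBQ⟩, fun R hR hle => ?_⟩
  have hR' := mem_invSubgroups_top_iff.mp hR
  exact hQ.2 R (mem_invSubgroups_top_iff.mpr ⟨hR'.1, hAB.trans hR'.2⟩) hle

/-- the inductive property in B & G, Theorem 7.5 -/
def Good (A B : Subgroup G) (q : ℕ) : Prop :=
  (∀ Q₁ ∈ Cfsg.maxInvSubgroups ⊤ B {q}, ∀ Q₂ ∈ Cfsg.maxInvSubgroups ⊤ B {q},
    ∃ k ∈ transK A ⊓ centralizer (B : Set G), Q₂ = cj k Q₁) ∧
  Cfsg.maxInvSubgroups ⊤ B {q} ⊆ Cfsg.maxInvSubgroups ⊤ A {q}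

theorem coprime_of_pi_of_pi' {a m n : ℕ} (hm : ∀ r : ℕ, r.Prime → r ∣ m → r ∣ a)
    (hn : PiNat (Cfsg.primesNotDvd a) n) : m.Coprime n := by
  apply Nat.coprime_of_dvd
  intro k hk hkm hkn
  exact (hn k hk hkn).2 (hm k hk hkm)

/-- a nontrivial maximal `B'`-invariant `q`-subgroup is a maximal `A`-invariant one -/
theorem maxInv_subset_of_ne_bot [Finite G] (hG : Cfsg.IsMinSimpleOddOrder G) {A : Subgroup G}
    (hA : Cfsg.TransitivityHypothesis A) {q : ℕ} [hq : Fact q.Prime] (hqA : ¬ q ∣ Nat.card A)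
    {B' : Subgroup G} (hAB' : A ≤ B') (hB'π : ∀ r : ℕ, r.Prime → r ∣ Nat.card B' → r ∣ Nat.card A)
    {Q : Subgroup G} (hQ : Q ∈ Cfsg.maxInvSubgroups ⊤ B' {q}) (hQ1 : Q ≠ ⊥) :
    Q ∈ Cfsg.maxInvSubgroups ⊤ A {q} := by
  have hi := mem_invSubgroups_top_iff.mp hQ.1
  have hAQ : A ≤ normalizer (Q : Set G) := hAB'.trans hi.2
  refine ⟨mem_invSubgroups_top_iff.mpr ⟨hi.1, hAQ⟩, fun R hR hle => ?_⟩
  have hR' := mem_invSubgroups_top_iff.mp hR
  by_cases htop : Q = ⊤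
  · rw [htop] at hle ⊢; exact top_le_iff.mp hle
  set N := normalizer (Q : Set G) with hN
  have hNtop : N ≠ ⊤ := normalizer_ne_top hG hQ1 htop
  set π' := Cfsg.primesNotDvd (Nat.card A) with hπ
  set Y := Cfsg.piCoreOf π' N with hY
  have hYπ : PiNat π' (Nat.card Y) := piCoreOf_isPi _ _
  have hQY : Q ≤ Y := le_core_of_inv hA hNtop hAQ le_normalizer (piNat_primesNotDvd_of_isPGroup hqA hi.1) hAQ
  obtain ⟨S, hS, hQS, hB'S⟩ := exists_invariant_isSylowIn_ge (A := B') (K := Y)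
    (hi.2.trans (le_normalizer_piCoreOf _ _)) (coprime_of_pi_of_pi' hB'π hYπ)
    (Or.inr (isSolvable_of_le (piCoreOf_le _ _) (solvable_of_ne_top hG hNtop))) q hQY hi.1 hi.2
  have hSQ : S = Q := hQ.2 S (mem_invSubgroups_top_iff.mpr ⟨hS.isPGroup, hB'S⟩) hQS
  rw [hSQ] at hS
  by_contra hne
  obtain ⟨t, htR, htN, htQ⟩ := exists_mem_normalizer_not_mem hR'.1 (lt_of_le_of_ne hle (Ne.symm hne))
  have h1 : N ⊓ R ≤ Y := le_core_of_inv hA hNtop hAQ inf_le_left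
    (piNat_primesNotDvd_of_isPGroup hqA (hR'.1.to_le inf_le_right))
    (le_normalizer_inf (hAQ.trans le_normalizer) hR'.2)
  have h2 : N ⊓ R = Q := hS.eq_of_le h1 (hR'.1.to_le inf_le_right) (le_inf le_normalizer hle)
  exact htQ (h2 ▸ mem_inf.mpr ⟨htN, htR⟩)

theorem good_step [Finite G] (hG : Cfsg.IsMinSimpleOddOrder G) {A : Subgroup G}
    (hA : Cfsg.TransitivityHypothesis A) {q : ℕ} [hq : Fact q.Prime] (hqA : ¬ q ∣ Nat.card A)
    {B B' : Subgroup G} (hAB : A ≤ B) (hBB' : B ≤ B') (hB'n : B' ≤ normalizer (B : Set G))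
    (hB'π : ∀ r : ℕ, r.Prime → r ∣ Nat.card B' → r ∣ Nat.card A) (hgood : Good A B q) : Good A B' q := by
  set KB := transK A ⊓ centralizer (B : Set G) with hKB
  have hKBeq := transK_inf_centralizer hG hA hAB
  have hKBπ : PiNat (Cfsg.primesNotDvd (Nat.card A)) (Nat.card KB) :=
    (piCoreOf_isPi _ _).of_dvd (card_dvd_of_le inf_le_left)
  have hB'KB : B' ≤ normalizer (KB : Set G) := by
    rw [hKB, hKBeq]
    exact hB'n.trans ((normalizer_le_normalizer_centralizer B).trans (normalizer_le_normalizer_piCoreOf _ _))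
  have hcop : (Nat.card B').Coprime (Nat.card KB) := coprime_of_pi_of_pi' hB'π hKBπ
  have hsol : Group.IsSolvable B' ∨ Group.IsSolvable KB := by
    right
    apply isSolvable_of_le (Y := normalizer (A : Set G))
      (inf_le_left.trans ((transK_le_centralizer A).trans (centralizer_le_normalizer' A)))
    exact solvable_of_ne_top hG (normalizer_ne_top hG hA.1 hA.2.1)
  -- a `B'`-invariant member of `Ω_B`
  obtain ⟨T₀, hT₀, _⟩ := exists_maxInv_ge (A := B) (S := ⊥) (q := q) IsPGroup.of_bot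
    (by intro b _; apply mem_normalizer_of_cj_eq; exact Subgroup.map_bot _)
  let _ := conjAct G
  obtain ⟨k₀, hk₀, hfix⟩ := glauberman_exists hB'KB hcop hsol T₀ (by
    intro b hb
    obtain ⟨k, hk, hkT⟩ := hgood.1 T₀ hT₀ (cj b T₀) (cj_mem_maxInv_of_normalizer (hB'n hb) hT₀)
    exact ⟨k, hk, hkT⟩)
  set T := cj k₀ T₀ with hT
  have hTB : T ∈ Cfsg.maxInvSubgroups ⊤ B {q} :=
    cj_mem_maxInv_of_normalizer (centralizer_le_normalizer' B hk₀.2) hT₀
  have hB'T : B' ≤ normalizer (T : Set G) := fun b hb => mem_normalizer_of_cj_eq (hfix b hb)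
  have hsub : Cfsg.maxInvSubgroups ⊤ B' {q} ⊆ Cfsg.maxInvSubgroups ⊤ A {q} := by
    intro Q hQ
    by_cases hQ1 : Q = ⊥
    · have hTQ : T = Q := hQ.2 T (mem_invSubgroups_top_iff.mpr
        ⟨(mem_invSubgroups_top_iff.mp hTB.1).1, hB'T⟩) (hQ1 ▸ bot_le)
      exact hTQ ▸ hgood.2 hTB
    · exact maxInv_subset_of_ne_bot hG hA hqA (hAB.trans hBB') hB'π hQ hQ1
  refine ⟨?_, hsub⟩
  intro Q₁ h₁ Q₂ h₂
  have hi₁ := mem_invSubgroups_top_iff.mp h₁.1
  have hi₂ := mem_invSubgroups_top_iff.mp h₂.1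
  obtain ⟨k, hk, hkQ⟩ := hgood.1 Q₁ (maxInv_of_le hAB (hsub h₁) (hBB'.trans hi₁.2))
    Q₂ (maxInv_of_le hAB (hsub h₂) (hBB'.trans hi₂.2))
  obtain ⟨c, hc, hcQ⟩ := glauberman_unique hB'KB hcop hsol Q₁
    (fun b hb => cj_eq_of_mem_normalizer (hi₁.2 hb)) hk
    (fun b hb => by
      change cj b (cj k Q₁) = cj k Q₁
      rw [← hkQ]; exact cj_eq_of_mem_normalizer (hi₂.2 hb))
  exact ⟨c, mem_inf.mpr ⟨hc.1.1, hc.2⟩, hkQ.trans hcQ.symm⟩

theorem mem_sup_of_le_normalizer {K X : Subgroup G} (h : X ≤ normalizer (K : Set G)) {g : G} :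
    g ∈ K ⊔ X ↔ ∃ k ∈ K, ∃ x ∈ X, g = k * x := by
  rw [← SetLike.mem_coe, coe_mul_of_right_le_normalizer_left K X h, Set.mem_mul]
  constructor
  · rintro ⟨n, hn, x, hx, rfl⟩; exact ⟨n, hn, x, hx, rfl⟩
  · rintro ⟨n, hn, x, hx, rfl⟩; exact ⟨n, hn, x, hx, rfl⟩

/-- If `N = K L` with `K` normal in `N`, an element of `L ∩ N'` of order prime to `#K` lies in `L'`. -/
theorem mem_commutator_of_factorization [Finite G] {N K L : Subgroup G} (hLN : L ≤ N)
    (hn : N ≤ normalizer (K : Set G)) (hNKL : ∀ g ∈ N, ∃ k ∈ K, ∃ l ∈ L, g = k * l) {x : G} (hxL : x ∈ L)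
    (hxN : x ∈ ⁅N, N⁆) (hcop : (orderOf x).Coprime (Nat.card K)) : x ∈ ⁅L, L⁆ := by
  have hconj : ∀ g ∈ N, ∀ k ∈ K, g * k * g⁻¹ ∈ K := fun g hg k hk => (mem_normalizer_iff.mp (hn hg) k).mp hk
  have hLL : ⁅L, L⁆ ≤ L := commutator_le_of_le_normalizer le_normalizer
  have h1 : ⁅N, N⁆ ≤ K ⊔ ⁅L, L⁆ := by
    rw [commutator_le]
    intro g₁ hg₁ g₂ hg₂
    obtain ⟨k₁, hk₁, l₁, hl₁, rfl⟩ := hNKL g₁ hg₁
    obtain ⟨k₂, hk₂, l₂, hl₂, rfl⟩ := hNKL g₂ hg₂
    have e : ⁅k₁ * l₁, k₂ * l₂⁆ = (k₁ * (l₁ * k₂ * l₁⁻¹) * ((l₁ * l₂ * l₁⁻¹) * k₁⁻¹ * (l₁ * l₂ * l₁⁻¹)⁻¹) *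
        (⁅l₁, l₂⁆ * k₂⁻¹ * ⁅l₁, l₂⁆⁻¹)) * ⁅l₁, l₂⁆ := by
      simp only [commutatorElement_def]; group
    rw [e]
    have hc : ⁅l₁, l₂⁆ ∈ ⁅L, L⁆ := commutator_mem_commutator hl₁ hl₂
    refine mul_mem (le_sup_left (b := ⁅L, L⁆) ?_) (le_sup_right (a := K) hc)
    refine K.mul_mem (K.mul_mem (K.mul_mem hk₁ (hconj _ (hLN hl₁) _ hk₂)) ?_) ?_
    · exact hconj _ (hLN (L.mul_mem (L.mul_mem hl₁ hl₂) (L.inv_mem hl₁))) _ (K.inv_mem hk₁)
    · exact hconj _ (hLN (hLL hc)) _ (K.inv_mem hk₂)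
  obtain ⟨k, hk, l, hl, hxkl⟩ := (mem_sup_of_le_normalizer ((hLL.trans hLN).trans hn)).mp (h1 hxN)
  have hkL : k ∈ L := by
    have : k = x * l⁻¹ := by rw [hxkl]; group
    rw [this]; exact L.mul_mem hxL (L.inv_mem (hLL hl))
  set m := orderOf k with hm
  have hmK : m ∣ Nat.card K := Subgroup.orderOf_dvd_natCard K hk
  -- `x ^ m ∈ L'`
  have hxm : x ^ m ∈ ⁅L, L⁆ := by
    have hl' : (⟨l, hLL hl⟩ : L) ∈ commutator L := by
      rw [← map_subtype_commutator] at hl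
      obtain ⟨l', hl', hl'eq⟩ := hl
      have : (⟨l, hLL (by rw [← map_subtype_commutator]; exact ⟨l', hl', hl'eq⟩)⟩ : L) = l' :=
        Subtype.ext hl'eq.symm
      rw [this]; exact hl'
    have e1 : Abelianization.of (⟨x, hxL⟩ : L) = Abelianization.of (⟨k, hkL⟩ : L) := by
      have : (⟨x, hxL⟩ : L) = ⟨k, hkL⟩ * ⟨l, hLL hl⟩ := Subtype.ext hxkl
      rw [this, map_mul]
      have h2 : Abelianization.of (⟨l, hLL hl⟩ : L) = 1 := by
        rw [← MonoidHom.mem_ker, Abelianization.ker_of]; exact hl'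
      rw [h2, mul_one]
    have e2 : Abelianization.of ((⟨x, hxL⟩ : L) ^ m) = 1 := by
      rw [map_pow, e1, ← map_pow]
      have : (⟨k, hkL⟩ : L) ^ m = 1 := Subtype.ext (by
        rw [Subgroup.coe_pow, Subgroup.coe_one]; exact pow_orderOf_eq_one k)
      rw [this, map_one]
    rw [← MonoidHom.mem_ker, Abelianization.ker_of] at e2
    rw [← map_subtype_commutator]
    exact ⟨_, e2, by simp⟩
  obtain ⟨u, hu⟩ := exists_pow_eq_self_of_coprime (Nat.Coprime.coprime_dvd_right hmK hcop).symm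
  rw [← hu]
  exact pow_mem hxm u

theorem good_of_subnormal [Finite G] (hG : Cfsg.IsMinSimpleOddOrder G) {A : Subgroup G}
    (hA : Cfsg.TransitivityHypothesis A) {q : ℕ} [hq : Fact q.Prime] (hqA : ¬ q ∣ Nat.card A)
    {P : Subgroup G} (hPπ : ∀ r : ℕ, r.Prime → r ∣ Nat.card P → r ∣ Nat.card A) (hAP : A ≤ P)
    (hsn : (A.subgroupOf P).IsSubnormal) (hgoodA : Good A A q) : Good A P q := by
  have key : ∀ H : Subgroup P, H.IsSubnormal → A ≤ H.map P.subtype → Good A (H.map P.subtype) q →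
      Good A P q := by
    intro H hH
    induction hH with
    | top =>
      intro _ h
      rwa [← MonoidHom.range_eq_map, range_subtype] at h
    | step H K hle hK hN ih =>
      intro hAH hgood
      apply ih (hAH.trans (map_mono hle))
      apply good_step hG hA hqA hAH (map_mono hle) ?_ ?_ hgood
      · rintro _ ⟨k, hk, rfl⟩
        apply mem_normalizer_of_cj_eq
        rw [← map_cj]
        congr 1
        exact cj_eq_of_mem_normalizer ((normal_subgroupOf_iff_le_normalizer hle).mp hN hk)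
      · intro r hr hdvd
        exact hPπ r hr (hdvd.trans (card_dvd_of_le (map_subtype_le K)))
  have := key (A.subgroupOf P) hsn
  rw [map_subgroupOf_eq_of_le hAP] at this
  exact this le_rfl hgoodA

/-- B & G, Theorem 7.5. -/
theorem trans_superset [Finite G] (hG : Cfsg.IsMinSimpleOddOrder G) {A : Subgroup G}
    (hA : Cfsg.TransitivityHypothesis A) {q : ℕ} [hq : Fact q.Prime] (hqA : ¬ q ∣ Nat.card A)
    {P : Subgroup G} (hPπ : ∀ r : ℕ, r.Prime → r ∣ Nat.card P → r ∣ Nat.card A) (hAP : A ≤ P)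
    (hsn : (A.subgroupOf P).IsSubnormal)
    (htr : ∀ Q₁ ∈ Cfsg.maxInvSubgroups ⊤ A {q}, ∀ Q₂ ∈ Cfsg.maxInvSubgroups ⊤ A {q},
      ∃ k ∈ transK A, Q₂ = cj k Q₁) :
    transK A ⊓ centralizer (P : Set G) =
        Cfsg.piCoreOf (Cfsg.primesNotDvd (Nat.card A)) (centralizer (P : Set G)) ∧
      (∀ Q₁ ∈ Cfsg.maxInvSubgroups ⊤ P {q}, ∀ Q₂ ∈ Cfsg.maxInvSubgroups ⊤ P {q},
        ∃ k ∈ Cfsg.piCoreOf (Cfsg.primesNotDvd (Nat.card A)) (centralizer (P : Set G)), Q₂ = cj k Q₁) ∧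
      Cfsg.maxInvSubgroups ⊤ P {q} ⊆ Cfsg.maxInvSubgroups ⊤ A {q} ∧
      ∀ Q ∈ Cfsg.maxInvSubgroups ⊤ P {q},
        P ⊓ ⁅normalizer (P : Set G), normalizer (P : Set G)⁆ ≤
          ⁅normalizer (Q : Set G), normalizer (Q : Set G)⁆ ∧
        normalizer (P : Set G) = Cfsg.piCoreOf (Cfsg.primesNotDvd (Nat.card A)) (centralizer (P : Set G)) ⊔
          (normalizer (P : Set G) ⊓ normalizer (Q : Set G)) := by
  have hgoodA : Good A A q := by
    refine ⟨fun Q₁ h₁ Q₂ h₂ => ?_, subset_rfl⟩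
    obtain ⟨k, hk, hkQ⟩ := htr Q₁ h₁ Q₂ h₂
    exact ⟨k, mem_inf.mpr ⟨hk, transK_le_centralizer A hk⟩, hkQ⟩
  have hgood := good_of_subnormal hG hA hqA hPπ hAP hsn hgoodA
  have ha := transK_inf_centralizer hG hA hAP
  set KP := Cfsg.piCoreOf (Cfsg.primesNotDvd (Nat.card A)) (centralizer (P : Set G)) with hKP
  have hb : ∀ Q₁ ∈ Cfsg.maxInvSubgroups ⊤ P {q}, ∀ Q₂ ∈ Cfsg.maxInvSubgroups ⊤ P {q},
      ∃ k ∈ KP, Q₂ = cj k Q₁ := by
    intro Q₁ h₁ Q₂ h₂
    obtain ⟨k, hk, hkQ⟩ := hgood.1 Q₁ h₁ Q₂ h₂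
    exact ⟨k, ha ▸ hk, hkQ⟩
  refine ⟨ha, hb, hgood.2, fun Q hQ => ?_⟩
  have hi := mem_invSubgroups_top_iff.mp hQ.1
  set N := normalizer (P : Set G) with hN
  set L := N ⊓ normalizer (Q : Set G) with hL
  have hKPN : KP ≤ N := (piCoreOf_le _ _).trans (centralizer_le_normalizer' P)
  have hfac : ∀ g ∈ N, ∃ k ∈ KP, ∃ l ∈ L, g = k * l := by
    intro g hg
    obtain ⟨k, hk, hkQ⟩ := hb Q hQ (cj g Q) (cj_mem_maxInv_of_normalizer hg hQ)
    refine ⟨k, hk, k⁻¹ * g, mem_inf.mpr ⟨N.mul_mem (N.inv_mem (hKPN hk)) hg, ?_⟩, by group⟩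
    apply mem_normalizer_of_cj_eq
    rw [cj_mul, hkQ, cj_inv_cj]
  constructor
  · rintro x ⟨hxP, hxN⟩
    have hxL : x ∈ L := mem_inf.mpr ⟨le_normalizer hxP, hi.2 hxP⟩
    have hcop : (orderOf x).Coprime (Nat.card KP) :=
      Nat.Coprime.coprime_dvd_left (Subgroup.orderOf_dvd_natCard P hxP)
        (coprime_of_pi_of_pi' hPπ (piCoreOf_isPi _ _))
    have := mem_commutator_of_factorization (inf_le_left : L ≤ N)
      ((normalizer_le_normalizer_centralizer P).trans (normalizer_le_normalizer_piCoreOf _ _))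
      hfac hxL hxN hcop
    exact commutator_mono inf_le_right inf_le_right this
  · apply le_antisymm
    · intro g hg
      obtain ⟨k, hk, l, hl, rfl⟩ := hfac g hg
      exact mul_mem (le_sup_left (b := L) hk) (le_sup_right (a := KP) hl)
    · exact sup_le hKPN inf_le_left

end Cfsg.Agent.Lib.Helper30
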