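import Cfsg.Agent.Lib.Helper28.BG12b
import Cfsg.Agent.Lib.Helper30.Transitivity3

/-!
B-G Corollary 14.3 (statement S1432), conditional on the texts of S1417, S1418, S1420, S1430, S1431.
-/

set_option autoImplicit false

namespace Cfsg.Agent.Lib.Helper30.BG14

open Subgroup Cfsg.Agent.Lib.Helper30 Cfsg.Agent.Lib.Helper2 Cfsg.Agent.Lib.Helper68
  Cfsg.Agent.Lib.Helper28.BG12

universe u

variable {G : Type u} [Group G]

/-- last clause of the text of S1420. -/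
def T1420f (G : Type u) [Group G] : Prop :=
  ∀ (M : Subgroup G), IsCoatom M → ∀ x ∈ M, x ≠ 1 →
    (∀ p : ℕ, p.Prime → p ∣ orderOf x → p ∈ Cfsg.tau2 M) → x ∈ Cfsg.sigmaHat M →
    Subgroup.centralizer ({x} : Set G) ≤ M ∧
      ∀ L : Subgroup G, IsCoatom L → Subgroup.centralizer ({x} : Set G) ≤ L → L = M

/-- the parts of the text of S1430 which are used. -/
def T1430a (G : Type u) [Group G] : Prop :=
  ∀ (M : Subgroup G), IsCoatom M → ∀ K : Subgroup G, Cfsg.IsPiHallOf (Cfsg.kappa M) K M → K ≠ ⊥ →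
    (∀ k ∈ K, k ≠ 1 → Cfsg.sigmaCore M ⊓ Subgroup.centralizer ({k} : Set G) =
      (Cfsg.sigmaCore M ⊓ Subgroup.centralizer (K : Set G))) ∧
    ∀ X : Subgroup G, X ≤ K → (Nat.card X).Prime →
      M ⊓ Subgroup.normalizer (X : Set G) = K ⊔ (Cfsg.sigmaCore M ⊓ Subgroup.centralizer (K : Set G))

/-- the first clause of the text of S1431. -/
def T1431a (G : Type u) [Group G] : Prop :=
  ∀ (M : Subgroup G), IsCoatom M → ∀ K : Subgroup G, Cfsg.IsPiHallOf (Cfsg.kappa M) K M → K ≠ ⊥ →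
    ∀ g : G, g ∉ M → (Cfsg.sigmaCore M ⊓ Subgroup.centralizer (K : Set G)) ⊓
      M.map (MulAut.conj g).toMonoidHom = ⊥

theorem ea_sq_ne_bot {p : ℕ} [hp : Fact p.Prime] {A : Subgroup G} (hc : Nat.card A = p ^ 2) :
    A ≠ ⊥ := by
  rintro rfl
  rw [card_bot] at hc
  exact absurd hc.symm (Nat.one_lt_pow (by norm_num) hp.out.one_lt).ne'

theorem mem_tau2_of_ea_sq [Finite G] (hG : Cfsg.IsMinSimpleOddOrder G) {L : Subgroup G}
    (hL : IsCoatom L) {p : ℕ} [hp : Fact p.Prime] (hpσ : p ∉ Cfsg.sigma L) {A : Subgroup G}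
    (hAL : A ≤ L) (hA : Cfsg.IsElementaryAbelian p A) (hc : Nat.card A = p ^ 2) :
    p ∈ Cfsg.tau2 L :=
  ⟨hp.out, hpσ, pRankLE_two_of_not_mem_sigma hG hL hp.out hpσ,
    not_pRankLE_of_elementary hAL hA (by
      rw [hc]; exact Nat.pow_lt_pow_right hp.out.one_lt (by norm_num))⟩

/-- B-G 12.9-type fact: all primes of `τ₂(M)` lie in `σ(L)` for a maximal subgroup `L ≥ N(A)`. -/
theorem exists_coatom_tau2_le_sigma [Finite G] (hG : Cfsg.IsMinSimpleOddOrder G) (h17 : T1417 G)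
    (h18 : T1418 G) {M : Subgroup G} (hM : IsCoatom M) {p : ℕ} (hp : p ∈ Cfsg.tau2 M) :
    ∃ L : Subgroup G, IsCoatom L ∧ ∀ r ∈ Cfsg.tau2 M, r ∈ Cfsg.sigma L := by
  have : Fact p.Prime := ⟨hp.1⟩
  obtain ⟨E, hE, -⟩ := exists_compl_ge hG hM (X := ⊥) bot_le (fun q hq hqd => by
    rw [card_bot] at hqd
    exact absurd (Nat.dvd_one.mp hqd) hq.one_lt.ne')
  obtain ⟨A, hAE, hA, hAc⟩ := exists_ea_sq_in_compl hG hM hE hp
  obtain ⟨⟨hEN, -⟩, ⟨-, -, hNM⟩, -⟩ := h18 M hM E hE p hp A ⟨hAE, hA, hAc⟩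
  have hA1 : A ≠ ⊥ := ea_sq_ne_bot hAc
  have hAM : A ≤ M := hAE.trans hE.1
  have hAtop : A ≠ ⊤ := fun h => hM.1 (top_le_iff.mp (h ▸ hAM))
  obtain ⟨L, hL, hNL⟩ := exists_coatom_ge (normalizer_ne_top hG hA1 hAtop)
  have hLM : M ≠ L := fun h => hNM (h ▸ hNL)
  have hAL : A ≤ L := le_normalizer.trans hNL
  have hpL : p ∈ Cfsg.sigma L := by
    by_contra hpσ
    have hτ := mem_tau2_of_ea_sq hG hL hpσ hAL hA hAc
    obtain ⟨E', hE', hAE'⟩ := exists_compl_ge hG hL hAL (fun q hq hqd => by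
      rw [prime_dvd_card_isPGroup (ea_isPGroup hA) hq hqd]; exact hpσ)
    exact (h18 L hL E' hE' p hτ A ⟨hAE', hA, hAc⟩).2.1.2.2 hNL
  refine ⟨L, hL, fun r hr => ?_⟩
  have : Fact r.Prime := ⟨hr.1⟩
  by_contra hrσ
  obtain ⟨B, hBE, hB, hBc⟩ := exists_ea_sq_in_compl hG hM hE hr
  have hBL : B ≤ L := hBE.trans (hEN.trans hNL)
  have hτ := mem_tau2_of_ea_sq hG hL hrσ hBL hB hBc
  have he := (h17 L hL r hτ B ⟨hBL, hB, hBc⟩).2.2.2.2.1 M hM hLM (hBE.trans hE.1)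
  have h1 : A ≤ Cfsg.sigmaCore L ⊓ M :=
    le_inf (isPGroup_le_sigmaCore hG hL hpL hAL (ea_isPGroup hA)) hAM
  rw [he] at h1
  exact hA1 (le_bot_iff.mp h1)

/-- a prime `q ∉ σ(M) ∪ τ₂(M)` such that an element of order `q` of `M` centralizes a non-identity
element of `M_σ` lies in `κ(M)`. -/
theorem mem_kappa_of_centralizes [Finite G] (hG : Cfsg.IsMinSimpleOddOrder G) {M : Subgroup G}
    (hM : IsCoatom M) {q : ℕ} [hq : Fact q.Prime] (hqσ : q ∉ Cfsg.sigma M)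
    (hqτ : q ∉ Cfsg.tau2 M) {x y : G} (hx : x ∈ Cfsg.sigmaCore M) (hx1 : x ≠ 1) (hyM : y ∈ M)
    (hy : orderOf y = q) (hxy : y * x = x * y) : q ∈ Cfsg.kappa M := by
  have hqM : q ∣ Nat.card M := hy ▸ Subgroup.orderOf_dvd_natCard M hyM
  have hr1 : Cfsg.PRankLE q 1 M := by
    by_contra h
    exact hqτ ⟨hq.out, hqσ, pRankLE_two_of_not_mem_sigma hG hM hq.out hqσ, h⟩
  have hq2 : q ≠ 2 := Cfsg.Agent.Lib.Helper40.BG12.ne_two_of_dvd_odd
    (Cfsg.Agent.Lib.Helper58.BG9.odd_card_subgroup hG M) hqM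
  refine ⟨hq.out, hqM, hqσ, fun P => ⟨?_, ?_⟩⟩
  · exact Cfsg.Agent.Lib.Helper40.BG12.isCyclic_of_isPGroup_rank_one hq2 hr1 _ P.2
  · have hyo : orderOf (⟨y, hyM⟩ : ↥M) = q := by rw [Subgroup.orderOf_mk, hy]
    have hZ : IsPGroup q (zpowers (⟨y, hyM⟩ : ↥M)) := by
      apply IsPGroup.of_card (n := 1)
      rw [Nat.card_zpowers, hyo, pow_one]
    obtain ⟨P₀, hP₀⟩ := hZ.exists_le_sylow
    obtain ⟨g, rfl⟩ := MulAction.exists_smul_eq ↥M P₀ P
    have hy1 : y ≠ 1 := by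
      rintro rfl
      rw [orderOf_one] at hy
      exact hq.out.one_lt.ne hy
    refine ⟨g * ⟨y, hyM⟩ * g⁻¹, ?_, ?_, (g : G) * x * (g : G)⁻¹, ?_, ?_, ?_⟩
    · rw [Sylow.coe_subgroup_smul, Subgroup.mem_pointwise_smul_iff_inv_smul_mem]
      have : (MulAut.conj g)⁻¹ • (g * ⟨y, hyM⟩ * g⁻¹) = (⟨y, hyM⟩ : ↥M) := by
        rw [← map_inv, MulAut.smul_def, MulAut.conj_apply]
        group
      show (MulAut.conj g)⁻¹ • (g * ⟨y, hyM⟩ * g⁻¹) ∈ (P₀ : Subgroup ↥M)
      rw [this]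
      exact hP₀ (mem_zpowers _)
    · intro h
      apply hy1
      have h2 : (⟨y, hyM⟩ : ↥M) = 1 := by
        have := congrArg (fun z => g⁻¹ * z * g) h
        simpa [mul_assoc] using this
      exact congrArg Subtype.val h2
    · have hn := le_normalizer_sigmaCore M g.2
      exact (mem_normalizer_iff.mp hn x).mp hx
    · intro h
      apply hx1
      have := congrArg (fun z => (g : G)⁻¹ * z * (g : G)) h
      simpa [mul_assoc] using this
    · show (g : G) * y * (g : G)⁻¹ * ((g : G) * x * (g : G)⁻¹)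
        = (g : G) * x * (g : G)⁻¹ * ((g : G) * y * (g : G)⁻¹)
      calc (g : G) * y * (g : G)⁻¹ * ((g : G) * x * (g : G)⁻¹) = (g : G) * (y * x) * (g : G)⁻¹ := by
            group
        _ = (g : G) * (x * y) * (g : G)⁻¹ := by rw [hxy]
        _ = _ := by group

/-- statement S1432, conditional. -/
theorem S1432_of [Finite G] (hG : Cfsg.IsMinSimpleOddOrder G) (h17 : T1417 G) (h18 : T1418 G)
    (h20 : T1420f G) (h30 : T1430a G) (h31 : T1431a G)
    (M : Subgroup G) (hM : IsCoatom M) (x : G) (hx : x ∈ Cfsg.sigmaCore M) (hx1 : x ≠ 1) (x' : G) (hx' : x' ∈ M ⊓ Subgroup.centralizer ({x} : Set G)) (hx'1 : x' ≠ 1)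
    (hσ : ∀ p : ℕ, p.Prime → p ∣ orderOf x' → p ∉ Cfsg.sigma M) :
    ((∀ p : ℕ, p.Prime → p ∣ orderOf x' → p ∈ Cfsg.kappa M) ∧ Subgroup.centralizer ({x} : Set G) ≤ M) ∨
      ((∀ p : ℕ, p.Prime → p ∣ orderOf x' → p ∈ Cfsg.tau2 M) ∧
        (∃ L : Subgroup G, IsCoatom L ∧ ∀ p : ℕ, p.Prime → p ∣ orderOf x' → p ∈ Cfsg.sigma L) ∧
        (Subgroup.centralizer ({x'} : Set G) ≤ M ∧ ∀ L : Subgroup G, IsCoatom L → Subgroup.centralizer ({x'} : Set G) ≤ L → L = M)) := by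
  obtain ⟨hx'M, hx'c⟩ := mem_inf.mp hx'
  have hcomm : x' * x = x * x' := (mem_centralizer_singleton_iff.mp hx'c)
  have ho1 : orderOf x' ≠ 1 := fun h => hx'1 (orderOf_eq_one_iff.mp h)
  by_cases ht : ∀ p : ℕ, p.Prime → p ∣ orderOf x' → p ∈ Cfsg.tau2 M
  · right
    refine ⟨ht, ?_, h20 M hM x' hx'M hx'1 ht ⟨hx'M, x, hx, hx1, hcomm⟩⟩
    obtain ⟨p, hp, hpd⟩ := Nat.exists_prime_and_dvd ho1
    obtain ⟨L, hL, hLσ⟩ := exists_coatom_tau2_le_sigma hG h17 h18 hM (ht p hp hpd)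
    exact ⟨L, hL, fun r hr hrd => hLσ r (ht r hr hrd)⟩
  · left
    push Not at ht
    obtain ⟨q, hq, hqd, hqτ⟩ := ht
    have : Fact q.Prime := ⟨hq⟩
    have hqσ := hσ q hq hqd
    set y := x' ^ (orderOf x' / q) with hy
    have hyo : orderOf y = q := orderOf_pow_orderOf_div (orderOf_pos x').ne' hqd
    have hyM : y ∈ M := pow_mem hx'M _
    have hyx : y * x = x * y := ((show Commute x' x from hcomm).pow_left _).eq
    have hy1 : y ≠ 1 := by
      intro h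
      rw [h, orderOf_one] at hyo
      exact hq.one_lt.ne hyo
    have hqκ := mem_kappa_of_centralizes hG hM hqσ hqτ hx hx1 hyM hyo hyx
    obtain ⟨K, hK, -, hyK⟩ := Cfsg.Agent.Lib.Helper66.exists_invariant_isPiHallOf_ge
      (π := Cfsg.kappa M) (A := ⊥) (G := M) (U := zpowers y) bot_le (by simp)
      (solvable_of_ne_top hG hM.1) (zpowers_le.mpr hyM) bot_le (fun r hr hrd => by
        rw [Nat.card_zpowers, hyo] at hrd
        rw [(Nat.prime_dvd_prime_iff_eq hr hq).mp hrd]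
        exact hqκ)
    have hyK' : y ∈ K := hyK (mem_zpowers y)
    have hK1 : K ≠ ⊥ := fun h => hy1 (mem_bot.mp (h ▸ hyK'))
    obtain ⟨h30a, h30b⟩ := h30 M hM K hK hK1
    set Ks := Cfsg.sigmaCore M ⊓ centralizer (K : Set G) with hKs
    have hxKs : x ∈ Ks := by
      rw [← h30a y hyK' hy1]
      exact mem_inf.mpr ⟨hx, mem_centralizer_singleton_iff.mpr hyx.symm⟩
    constructor
    · have h1 : x' ∈ K ⊔ Ks := by
        rw [← h30b (zpowers y) hyK (by rw [Nat.card_zpowers, hyo]; exact hq)]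
        refine mem_inf.mpr ⟨hx'M, ?_⟩
        apply (centralizer_le_normalizer (zpowers y : Set G))
        rw [mem_centralizer_iff]
        intro z hz
        obtain ⟨k, rfl⟩ := mem_zpowers_iff.mp hz
        have hc : Commute x' y := (Commute.refl x').pow_right _
        exact (hc.zpow_right k).eq.symm
      have hKsK : Ks ≤ normalizer (K : Set G) :=
        inf_le_right.trans (centralizer_le_normalizer (K : Set G))
      obtain ⟨k, hk, c, hc, e⟩ := (mem_sup_of_le_normalizer hKsK).mp h1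
      have hkc : Commute k c := (mem_centralizer_iff.mp (mem_inf.mp hc).2 k hk)
      have hpow : x' ^ Nat.card Ks ∈ K := by
        rw [e, hkc.mul_pow]
        have : c ^ Nat.card Ks = 1 := by
          have := pow_card_eq_one' (x := (⟨c, hc⟩ : ↥Ks))
          exact congrArg Subtype.val this
        rw [this, mul_one]
        exact pow_mem hk _
      have hcop : (orderOf x').Coprime (Nat.card Ks) := by
        apply Nat.coprime_of_dvd
        intro r hr h1 h2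
        exact hσ r hr h1 ((sigmaCore_hall hG hM).2.1 r hr (h2.trans (card_dvd_of_le inf_le_left)))
      have hx'K : x' ∈ K := by
        have h2 : x' ∈ zpowers (x' ^ Nat.card Ks) := by
          obtain ⟨m, hm⟩ := exists_pow_eq_self_of_coprime hcop.symm
          have h3 : (x' ^ Nat.card Ks) ^ m ∈ zpowers (x' ^ Nat.card Ks) :=
            pow_mem (mem_zpowers (x' ^ Nat.card Ks)) m
          rwa [hm] at h3
        exact (zpowers_le.mpr hpow) h2
      intro r hr hrd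
      exact hK.2.1 r hr (hrd.trans (Subgroup.orderOf_dvd_natCard K hx'K))
    · intro c hc
      by_contra hcM
      have h1 := h31 M hM K hK hK1 c hcM
      have h2 : x ∈ Ks ⊓ M.map (MulAut.conj c).toMonoidHom := by
        refine mem_inf.mpr ⟨hxKs, x, sigmaCore_le M hx, ?_⟩
        show c * x * c⁻¹ = x
        rw [mem_centralizer_singleton_iff.mp hc, mul_inv_cancel_right]
      rw [h1] at h2
      exact hx1 (mem_bot.mp h2)

end Cfsg.Agent.Lib.Helper30.BG14
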