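import Cfsg.Agent.Lib.Helper30.BGBeta1
import Cfsg.Agent.S1455

/-!
B-G 10.17-type statement (S1414), conditional on the texts of S1403 and S1410.
-/

set_option autoImplicit false

namespace Cfsg.Agent.Lib.Helper30

open Subgroup Cfsg.Agent.Lib.Helper2 Cfsg.Agent.Lib.Helper68

universe u

variable {G : Type u} [Group G]

/-- if `X` has a normal `p`-complement for all primes `p ∉ π`, the `π`-elements of `X` form a
subgroup. -/
theorem exists_piPart [Finite G] (X : Subgroup G) (π : Set ℕ)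
    (h : ∀ p : ℕ, p.Prime → p ∉ π → p ∣ Nat.card X → Cfsg.HasNormalPComplement p ↥X) :
    ∃ K : Subgroup G, ∀ g : G, g ∈ K ↔ g ∈ X ∧ ∀ q : ℕ, q.Prime → q ∣ orderOf g → q ∈ π := by
  refine ⟨(⨅ (q : {q : ℕ // q.Prime ∧ q ∉ π}), Cfsg.pResidual q.1 ↥X).map X.subtype, ?_⟩
  have hres : ∀ q : ℕ, q.Prime → q ∉ π → ∀ g ∈ Cfsg.pResidual q ↥X, (orderOf g).Coprime q := by
    intro q hq hqπ g hg
    have : Fact q.Prime := ⟨hq⟩
    by_cases hqd : q ∣ Nat.card X
    · obtain ⟨K, hK, -, -, h3⟩ :=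
        Cfsg.Agent.Lib.Helper40.HasNormalPComplement.exists_normal (h q hq hqπ hqd)
      have hle : Cfsg.pResidual q ↥X ≤ K := (closure_le _).mpr (fun x hx => (h3 x).mpr hx)
      exact (h3 g).mp (hle hg)
    · exact Nat.Coprime.coprime_dvd_left (orderOf_dvd_natCard g)
        ((Nat.Prime.coprime_iff_not_dvd hq).mpr hqd).symm
  intro g
  constructor
  · rintro ⟨x, hx, rfl⟩
    refine ⟨x.2, ?_⟩
    intro q hq hqd
    by_contra hqπ
    have h1 : x ∈ Cfsg.pResidual q ↥X := (mem_iInf.mp hx) ⟨q, hq, hqπ⟩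
    have h2 := hres q hq hqπ x h1
    have h3 : q ∣ orderOf x := by
      have e : orderOf (X.subtype x) = orderOf x := Subgroup.orderOf_coe x
      rwa [e] at hqd
    exact hq.one_lt.ne' (Nat.Coprime.eq_one_of_dvd h2.symm h3)
  · rintro ⟨hgX, hg⟩
    refine ⟨⟨g, hgX⟩, ?_, rfl⟩
    rw [SetLike.mem_coe, mem_iInf]
    rintro ⟨q, hq, hqπ⟩
    apply Subgroup.subset_closure
    show (orderOf (⟨g, hgX⟩ : ↥X)).Coprime q
    rw [Subgroup.orderOf_mk]
    exact ((Nat.Prime.coprime_iff_not_dvd hq).mpr (fun hd => hqπ (hg q hq hd))).symm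

theorem piNat_of_forall_orderOf [Finite G] {K : Subgroup G} {π : Set ℕ}
    (h : ∀ g ∈ K, ∀ q : ℕ, q.Prime → q ∣ orderOf g → q ∈ π) : PiNat π (Nat.card K) := by
  intro q hq hqd
  have : Fact q.Prime := ⟨hq⟩
  obtain ⟨x, hx⟩ := exists_prime_orderOf_dvd_card' q hqd
  refine h x.1 x.2 q hq ?_
  rw [Subgroup.orderOf_coe, hx]

/-- Hall `π'`-subgroups exist and are nilpotent in the situation of `exists_piPart`. -/
theorem exists_nilpotent_hall [Finite G] (X : Subgroup G) (π : Set ℕ)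
    (h : ∀ p : ℕ, p.Prime → p ∉ π → p ∣ Nat.card X → Cfsg.HasNormalPComplement p ↥X) :
    ∃ H : Subgroup G, Cfsg.IsPiHallOf {q | q.Prime ∧ q ∉ π} H X ∧ Group.IsNilpotent H := by
  obtain ⟨K, hK⟩ := exists_piPart X π h
  have hKX : K ≤ X := fun g hg => ((hK g).mp hg).1
  have hKπ : PiNat π (Nat.card K) := piNat_of_forall_orderOf (fun g hg => ((hK g).mp hg).2)
  have hKn : (K.subgroupOf X).Normal := by
    refine ⟨fun x hx y => ?_⟩
    rw [mem_subgroupOf] at hx ⊢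
    rw [hK] at hx ⊢
    refine ⟨(y * x * y⁻¹).2, ?_⟩
    have e : orderOf ((y * x * y⁻¹ : ↥X) : G) = orderOf (x : G) := by
      rw [Subgroup.orderOf_coe, Subgroup.orderOf_coe]
      exact Cfsg.Agent.Lib.Helper40.orderOf_conj y x
    rw [e]
    exact hx.2
  have hidx : ∀ q : ℕ, q.Prime → q ∈ π → ¬ q ∣ K.relIndex X := by
    intro q hq hqπ
    have : Fact q.Prime := ⟨hq⟩
    obtain ⟨Q, hQ⟩ := exists_isSylowIn q X
    have hQK : Q ≤ K := by
      intro g hg
      rw [hK]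
      refine ⟨hQ.le hg, ?_⟩
      intro r hr hrd
      obtain ⟨k, hk⟩ := (IsPGroup.iff_orderOf.mp hQ.isPGroup) ⟨g, hg⟩
      rw [Subgroup.orderOf_mk] at hk
      rw [hk] at hrd
      have := (Nat.prime_dvd_prime_iff_eq hr hq).mp (hr.dvd_of_dvd_pow hrd)
      exact this ▸ hqπ
    exact fun hd => hQ.not_dvd (hd.trans (relIndex_dvd_of_le_left X hQK))
  have hcop : (Nat.card (K.subgroupOf X)).Coprime (K.subgroupOf X).index := by
    rw [card_subgroupOf hKX]
    apply Nat.coprime_of_dvd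
    intro k hk hk1 hk2
    exact hidx k hk (hKπ k hk hk1) hk2
  obtain ⟨H', hH'⟩ := exists_right_complement'_of_coprime hcop
  have hcardH : Nat.card (H'.map X.subtype) = K.relIndex X := by
    rw [card_map_of_injective X.subtype_injective, ← hH'.symm.index_eq_card]
    rfl
  have hrelH : (H'.map X.subtype).relIndex X = Nat.card K := by
    rw [relIndex, subgroupOf, comap_map_eq_self_of_injective X.subtype_injective,
      hH'.index_eq_card, card_subgroupOf hKX]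
  have hHπ : ∀ q : ℕ, q.Prime → q ∣ Nat.card (H'.map X.subtype) → q ∉ π := by
    intro q hq hqd hqπ
    rw [hcardH] at hqd
    exact hidx q hq hqπ hqd
  refine ⟨H'.map X.subtype, ⟨map_subtype_le _, fun q hq hqd => ⟨hq, hHπ q hq hqd⟩, ?_⟩, ?_⟩
  · rintro q hq ⟨-, hqπ⟩ hqd
    rw [hrelH] at hqd
    exact hqπ (hKπ q hq hqd)
  · apply isNilpotent_of_forall_hasNormalPComplement
    intro q hq hqd
    have : Fact q.Prime := ⟨hq⟩
    exact hasNormalPComplement_of_le (map_subtype_le _)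
      (h q hq (hHπ q hq hqd) (hqd.trans (card_dvd_of_le (map_subtype_le _))))

/-- for `p ∉ β(M)` the Sylow `p`-subgroups of `M` are narrow. -/
theorem isNarrow_sylow_of_not_mem_beta [Finite G] (hG : Cfsg.IsMinSimpleOddOrder G) (hU : UT G)
    {M : Subgroup G} (hM : IsCoatom M) {p : ℕ} [hpp : Fact p.Prime] (hpM : p ∣ Nat.card M)
    (hβ : p ∉ Cfsg.beta M) (S : Sylow p ↥M) : Cfsg.IsNarrow p ↥(S : Subgroup ↥M) := by
  by_cases hα : p ∈ Cfsg.alpha M
  · have hp2 : p ≠ 2 := Cfsg.Agent.Lib.Helper40.BG12.ne_two_of_dvd_odd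
      (Cfsg.Agent.Lib.Helper58.BG9.odd_card_subgroup hG M) hpM
    have hid : ¬ Cfsg.IsIdealPrime p G := fun h => hβ ⟨hα, h⟩
    have hrG : ¬ Cfsg.PRankLE p 2 G := fun h =>
      hα.2 (Cfsg.Agent.Lib.Helper40.BG12.pRankLE_of_injective M.subtype M.subtype_injective h)
    unfold Cfsg.IsIdealPrime at hid
    push Not at hid
    obtain ⟨P, A, hAP, hA, hA2, hmax⟩ := hid hpp.out hrG
    have hS : IsSylowIn p ((S : Subgroup ↥M).map M.subtype) M := isSylowIn_of_sylow S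
    have hσ := mem_sigma_of_mem_alpha hG hU hM hα
    have hSt := isSylowIn_top_of_normalizer_le hS (normalizer_le_of_mem_sigma hσ hS)
    obtain ⟨g, -, hg⟩ := (isSylowIn_top_of_sylow P).conj hSt
    have hrange : (M.subtype.comp (S : Subgroup ↥M).subtype).range
        = (S : Subgroup ↥M).map M.subtype := by
      rw [MonoidHom.range_eq_map, ← map_map, ← MonoidHom.range_eq_map, range_subtype]
    refine isNarrow_of_injective p hp2 S.2 (M.subtype.comp (S : Subgroup ↥M).subtype)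
      (M.subtype_injective.comp (S : Subgroup ↥M).subtype_injective) (cj g A) ?_ (ea_cj hA g)
      (by rw [card_cj, hA2]) ?_
    · rw [hrange, hg]
      exact cj_mono g hAP
    · intro B hB hBe hAB
      rw [hrange, hg, ← cj_cj_inv g B] at hB
      have h1 : cj g⁻¹ B ≤ (P : Subgroup G) := by
        have := cj_mono g⁻¹ hB
        rwa [cj_inv_cj, cj_inv_cj] at this
      have h2 : A ≤ cj g⁻¹ B := cj_le_iff.mp hAB
      have h3 := hmax (cj g⁻¹ B) h1 (ea_cj hBe g⁻¹)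
      have h4 : A = cj g⁻¹ B := by
        by_contra hne
        exact h3 (lt_of_le_of_ne h2 hne)
      rw [h4, cj_cj_inv]
  · left
    have hr : Cfsg.PRankLE p 2 ↥M := by
      by_contra h
      exact hα ⟨hpp.out, h⟩
    exact Cfsg.Agent.Lib.Helper40.BG12.pRankLE_of_injective (S : Subgroup ↥M).subtype
      (S : Subgroup ↥M).subtype_injective hr

/-- the consequences of S1455 for a prime `p ∉ β(M)`. -/
theorem npc_of_not_mem_beta [Finite G] (hG : Cfsg.IsMinSimpleOddOrder G) (hU : UT G)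
    (hPL : T1410 G) {M : Subgroup G} (hM : IsCoatom M) {p : ℕ} (hpp : p.Prime)
    (hpM : p ∣ Nat.card M) (hβ : p ∉ Cfsg.beta M) :
    Cfsg.HasNormalPComplement p ↥⁅M, M⁆ ∧
      ∀ q : ℕ, q.Prime → q ∣ (Cfsg.pPrimeCore p ↥M).index → q ≤ p := by
  have : Fact p.Prime := ⟨hpp⟩
  have hsol : Group.IsSolvable ↥M := solvable_of_ne_top hG hM.1
  have hodd : Odd (Nat.card ↥M) := Cfsg.Agent.Lib.Helper58.BG9.odd_card_subgroup hG M
  obtain ⟨S⟩ : Nonempty (Sylow p ↥M) := inferInstance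
  obtain ⟨h1, -, h3, -⟩ := Cfsg.Agent.S1455.result hodd p hpM S
    (isNarrow_sylow_of_not_mem_beta hG hU hM hpM hβ S) (fun _ => hPL p M hM.1)
  refine ⟨?_, h1⟩
  have e : (commutator ↥M).map M.subtype = ⁅M, M⁆ := map_subtype_commutator M
  let f : ↥⁅M, M⁆ ≃* ↥(commutator ↥M) :=
    ((equivMapOfInjective (commutator ↥M) M.subtype M.subtype_injective).trans
      (MulEquiv.subgroupCongr e)).symm
  exact hasNormalPComplement_of_injective f.toMonoidHom f.injective h3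

theorem sigmaCore_le_commutator [Finite G] (hG : Cfsg.IsMinSimpleOddOrder G) (hU : UT G)
    {M : Subgroup G} (hM : IsCoatom M) : Cfsg.sigmaCore M ≤ ⁅M, M⁆ := by
  have hle : Cfsg.sigmaCore M ≤ M := map_subtype_le _
  have hpi : PiNat (Cfsg.sigma M) (Nat.card (Cfsg.sigmaCore M)) := piCoreOf_isPi _ M
  apply le_of_forall_isSylowIn
  intro q hq hqd
  obtain ⟨S, hS⟩ := exists_isSylowIn q (Cfsg.sigmaCore M)
  obtain ⟨P, hP, hSP⟩ := exists_isSylowIn_ge (hS.le.trans hle) hS.isPGroup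
  exact ⟨S, hS, hSP.trans (sylow_le_commutator_of_mem_sigma hG hU hM (hpi q hq.out hqd) hP)⟩

/-- statement S1414, conditional on the texts of S1403 and S1410. -/
theorem S1414_of [Finite G] (hG : Cfsg.IsMinSimpleOddOrder G) (hU : UT G) (hPL : T1410 G)
    (M : Subgroup G) (hM : IsCoatom M) :
    Cfsg.IsPiHallOf (Cfsg.beta M) (Cfsg.piCoreOf (Cfsg.beta M) M) M ∧ Cfsg.IsPiHall (Cfsg.beta M) (Cfsg.piCoreOf (Cfsg.beta M) M) ∧
      (∃ H : Subgroup G, Cfsg.IsPiHallOf {q | q.Prime ∧ q ∉ Cfsg.beta M} H ⁅M, M⁆ ∧ Group.IsNilpotent H) ∧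
      (∃ H : Subgroup G, Cfsg.IsPiHallOf {q | q.Prime ∧ q ∉ Cfsg.beta M} H (Cfsg.sigmaCore M) ∧ Group.IsNilpotent H) ∧
      ∀ p : ℕ, p.Prime → p ∣ Nat.card M → p ∉ Cfsg.beta M →
        Cfsg.HasNormalPComplement p ↥⁅M, M⁆ ∧ Cfsg.HasNormalPComplement p ↥(Cfsg.sigmaCore M) ∧
        ∀ q : ℕ, q.Prime → q ∣ (Cfsg.pPrimeCore p ↥M).index → q ≤ p := by
  have hDM : ⁅M, M⁆ ≤ M := commutator_le_self M
  have hSD := sigmaCore_le_commutator hG hU hM
  have hD : ∀ p : ℕ, p.Prime → p ∉ Cfsg.beta M → p ∣ Nat.card ↥⁅M, M⁆ →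
      Cfsg.HasNormalPComplement p ↥⁅M, M⁆ := fun p hp hβ hd =>
    (npc_of_not_mem_beta hG hU hPL hM hp (hd.trans (card_dvd_of_le hDM)) hβ).1
  have hSg : ∀ p : ℕ, p.Prime → p ∉ Cfsg.beta M → p ∣ Nat.card ↥(Cfsg.sigmaCore M) →
      Cfsg.HasNormalPComplement p ↥(Cfsg.sigmaCore M) := fun p hp hβ hd =>
    have : Fact p.Prime := ⟨hp⟩
    hasNormalPComplement_of_le hSD (hD p hp hβ (hd.trans (card_dvd_of_le hSD)))
  obtain ⟨K, hK⟩ := exists_piPart ⁅M, M⁆ (Cfsg.beta M) hD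
  have hKD : K ≤ ⁅M, M⁆ := fun g hg => ((hK g).mp hg).1
  have hKπ : PiNat (Cfsg.beta M) (Nat.card K) :=
    piNat_of_forall_orderOf (fun g hg => ((hK g).mp hg).2)
  have hKn : M ≤ normalizer (K : Set G) := by
    intro m hm
    apply mem_normalizer_of_cj_eq
    have hsub : ∀ m ∈ M, cj m K ≤ K := by
      rintro m hm _ ⟨x, hx, rfl⟩
      have hx' := (hK x).mp hx
      rw [hK]
      refine ⟨?_, ?_⟩
      · have hn : M ≤ normalizer ((⁅M, M⁆ : Subgroup G) : Set G) :=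
          le_normalizer_commutator le_normalizer le_normalizer
        have := cj_eq_of_mem_normalizer (hn hm)
        rw [← this]
        exact ⟨x, hx'.1, rfl⟩
      · have e : orderOf ((MulAut.conj m).toMonoidHom x) = orderOf x :=
          orderOf_injective _ (MulAut.conj m).injective x
        rw [e]
        exact hx'.2
    refine le_antisymm (hsub m hm) ?_
    have := cj_mono m (hsub m⁻¹ (inv_mem hm))
    rwa [cj_cj_inv] at this
  have hKB : K ≤ Cfsg.piCoreOf (Cfsg.beta M) M := le_piCoreOf (hKD.trans hDM) hKn hKπ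
  -- Sylow subgroups for primes in `β(M)`
  have hsyl : ∀ q : ℕ, q ∈ Cfsg.beta M → ∃ Q : Subgroup G, Q ≤ Cfsg.piCoreOf (Cfsg.beta M) M ∧
      ¬ q ∣ Q.relIndex M ∧ ¬ q ∣ Q.index := by
    intro q hq
    have hqp : q.Prime := hq.1.1
    have : Fact q.Prime := ⟨hqp⟩
    have hσ := mem_sigma_of_mem_alpha hG hU hM hq.1
    obtain ⟨Q, hQ⟩ := exists_isSylowIn q M
    have hQt := isSylowIn_top_of_normalizer_le hQ (normalizer_le_of_mem_sigma hσ hQ)
    refine ⟨Q, le_trans ?_ hKB, hQ.not_dvd, ?_⟩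
    · intro g hg
      rw [hK]
      refine ⟨sylow_le_commutator_of_mem_sigma hG hU hM hσ hQ hg, ?_⟩
      intro r hr hrd
      obtain ⟨k, hk⟩ := (IsPGroup.iff_orderOf.mp hQ.isPGroup) ⟨g, hg⟩
      rw [Subgroup.orderOf_mk] at hk
      rw [hk] at hrd
      have := (Nat.prime_dvd_prime_iff_eq hr hqp).mp (hr.dvd_of_dvd_pow hrd)
      exact this ▸ hq
    · have := hQt.not_dvd
      rwa [relIndex_top_right] at this
  refine ⟨⟨piCoreOf_le _ M, piCoreOf_isPi _ M, ?_⟩, ⟨piCoreOf_isPi _ M, ?_⟩,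
    exists_nilpotent_hall _ _ hD, exists_nilpotent_hall _ _ hSg, ?_⟩
  · intro q _ hq hd
    obtain ⟨Q, hQB, h1, -⟩ := hsyl q hq
    exact h1 (hd.trans (relIndex_dvd_of_le_left M hQB))
  · intro q _ hq hd
    obtain ⟨Q, hQB, -, h2⟩ := hsyl q hq
    exact h2 (hd.trans (index_dvd_of_le hQB))
  · intro p hp hpM hβ
    have : Fact p.Prime := ⟨hp⟩
    obtain ⟨h1, h2⟩ := npc_of_not_mem_beta hG hU hPL hM hp hpM hβ
    exact ⟨h1, hasNormalPComplement_of_le hSD h1, h2⟩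

end Cfsg.Agent.Lib.Helper30
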