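import Cfsg.Agent.Lib.Helper30.BG138
import Cfsg.Agent.Lib.Helper74.BG1311B
import Cfsg.Agent.Lib.Helper27.BG14e

/-!
Bender-Glauberman 13.10: the KEY step `G1` of the ladder P11, assembled from `Helper74.BG1311`
(steps 0-5c) and `Helper30.BG138.asym` (steps 5d, 5e).
-/

set_option autoImplicit false
set_option linter.unusedSectionVars false
set_option linter.unusedVariables false

namespace Cfsg.Agent.Lib.Helper30.BG1310b

open Subgroup Cfsg.Agent.Lib.Helper30 Cfsg.Agent.Lib.Helper2 Cfsg.Agent.Lib.Helper74.BG1311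
  Cfsg.Agent.Lib.Helper27.BG14
open Cfsg.Agent.Lib.Helper58.BG13 (isPGroup_of_card_prime ne_bot_of_card_prime texts0)

universe u

variable {G : Type u} [Group G]

theorem G1_of [Finite G] (hG : Cfsg.IsMinSimpleOddOrder G) (pb2 : Pb2 G) : G1 G := by
  intro M hM E hE p hp X hXE hX hD t ht P hPE hP
  by_contra hPX
  have hpp : Fact p.Prime := ⟨hp.1⟩
  have htp : Fact t.Prime := ⟨ht.1⟩
  have hX1 : X ≠ ⊥ := ne_bot_of_card_prime hX
  have hXtop : X ≠ ⊤ := fun h => hM.1 (top_le_iff.mp (h ▸ hXE.trans hE.1))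
  obtain ⟨H, hH, hNX⟩ := exists_coatom_ge (normalizer_ne_top hG hX1 hXtop)
  have h : Hyp M E X H p := ⟨hM, hE, hp, hXE, hX, hD, hH, hNX⟩
  by_cases hDP : Cfsg.sigmaCore M ⊓ centralizer (X : Set G) ≤ centralizer (P : Set G)
  · exact h.step5a hG pb2 ht hPE hP hPX hDP
  · obtain ⟨htH, l, EH, Y₁, h', hPEH, hY₁M, hY₁f⟩ := h.swap hG pb2 ht.1 hPE hP hDP
    have hlp : Fact l.Prime := ⟨h'.hp.1⟩
    have hXf : X ⊓ centralizer (P : Set G) = ⊥ := by
      rcases inf_eq_bot_or_le_of_card_prime (K := centralizer (P : Set G))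
        (by rw [hX]; exact hpp.out) with h1 | h1
      · exact h1
      · exact absurd (le_centralizer_iff.mp h1) hPX
    exact Cfsg.Agent.Lib.Helper30.BG138.asym (texts0 hG) hM hH
      (fun q h1 h2 => h.sigma_disj hG pb2 q h1 h2) hE (h.EH hG) h'.hE (h'.EH hG) ht htH hPE hPEH hP
      h.XM (h.X_le_sigmaCore hG pb2) (Cfsg.Agent.Lib.Helper58.BG13.isPGroup_of_card_prime hX) (tau1_ne_tau3 ht hp)
      (not_alpha_of_rank_one hp.1 hp.2.2.2) (hPE.trans (h.step0 hG).1) hXf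
      (fun hu => h.ne hG pb2 (hu H hH hNX))
      h'.XM hY₁M (Cfsg.Agent.Lib.Helper58.BG13.isPGroup_of_card_prime h'.hX) (tau1_ne_tau3 htH h'.hp)
      (not_alpha_of_rank_one h'.hp.1 h'.hp.2.2.2) (hPEH.trans (h'.step0 hG).1) hY₁f
      (fun hu => h'.ne hG pb2 (hu M hM h'.hNX))
      (h.alphaCore_ne_bot hG pb2) (h'.alphaCore_ne_bot hG pb2)
      (h.alpha_sub_beta hG pb2) (h'.alpha_sub_beta hG pb2)

end Cfsg.Agent.Lib.Helper30.BG1310b
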