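import Cfsg.Agent.Lib.Helper30.Puig2
import Cfsg.Agent.Lib.Helper30.Transitivity3
import Cfsg.Agent.S1960

set_option autoImplicit false

namespace Cfsg.Agent.Lib.Helper30

open Subgroup
open scoped Pointwise commutatorElement

variable {G : Type*} [Group G]

/-- `Z(L(P))` inside `G`. -/
def zL (P : Subgroup G) : Subgroup G := pL P ⊓ centralizer (pL P : Set G)

theorem zL_le (P : Subgroup G) : zL P ≤ P := inf_le_left.trans (pL_le P)

theorem cj_zL [Finite G] (g : G) (P : Subgroup G) : cj g (zL P) = zL (cj g P) := by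
  unfold zL
  rw [cj_inf, ← centralizer_cj, cj_pL]

theorem normalizer_le_normalizer_zL [Finite G] (P : Subgroup G) :
    normalizer (P : Set G) ≤ normalizer (zL P : Set G) :=
  (normalizer_le_normalizer_pL P).trans (normalizer_le_normalizer_inf_centralizer _)

theorem pL_ne_bot [Finite G] {p : ℕ} [Fact p.Prime] {P : Subgroup G} (hP : IsPGroup p P) (hne : P ≠ ⊥) :
    pL P ≠ ⊥ := by
  intro h
  have h1 := inf_centralizer_pStep_le hP (pLs_le P)
  rw [pStep_pLs, h] at h1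
  apply hne
  rw [eq_bot_iff]
  intro x hx
  apply h1
  refine mem_inf.mpr ⟨hx, ?_⟩
  rw [mem_centralizer_iff]
  intro y hy
  have : y = 1 := by simpa using hy
  rw [this]; simp

theorem zL_ne_bot [Finite G] {p : ℕ} [Fact p.Prime] {P : Subgroup G} (hP : IsPGroup p P) (hne : P ≠ ⊥) :
    zL P ≠ ⊥ := by
  have h1 := pL_ne_bot hP hne
  have hLp : IsPGroup p (pL P) := hP.to_le (pL_le P)
  have : Nontrivial (pL P) := (Subgroup.nontrivial_iff_ne_bot _).mpr h1
  have := hLp.center_nontrivial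
  obtain ⟨z, hz⟩ := exists_ne (1 : center (pL P))
  intro h
  apply hz
  have hmem : (z.1.1 : G) ∈ zL P := by
    refine mem_inf.mpr ⟨z.1.2, ?_⟩
    rw [mem_centralizer_iff]
    intro y hy
    have := mem_center_iff.mp z.2 ⟨y, hy⟩
    exact congrArg Subtype.val this
  rw [h, mem_bot] at hmem
  exact Subtype.ext (Subtype.ext hmem)

theorem zL_isConjugacyFunctor [Finite G] (p : ℕ) [Fact p.Prime] :
    Cfsg.IsConjugacyFunctor p (zL : Subgroup G → Subgroup G) := by
  intro P hP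
  exact ⟨zL_le P, zL_ne_bot hP, fun g => (cj_zL g P).symm⟩

/-- transport of `zL` from a subgroup. -/
theorem map_zL [Finite G] (H : Subgroup G) (P : Subgroup H) :
    (zL P).map H.subtype = zL (P.map H.subtype) := by
  unfold zL
  have h1 : (pL P).map H.subtype = pL (P.map H.subtype) := map_pL _ (fun h _ hh => Subtype.ext hh)
  rw [← h1]
  ext x
  constructor
  · rintro ⟨y, ⟨hy1, hy2⟩, rfl⟩
    refine mem_inf.mpr ⟨mem_map_of_mem _ hy1, ?_⟩
    rw [mem_centralizer_iff]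
    rintro _ ⟨w, hw, rfl⟩
    exact congrArg Subtype.val (mem_centralizer_iff.mp hy2 w hw)
  · rintro ⟨⟨y, hy, rfl⟩, hx2⟩
    refine ⟨y, mem_inf.mpr ⟨hy, ?_⟩, rfl⟩
    rw [mem_centralizer_iff]
    intro w hw
    exact Subtype.ext (mem_centralizer_iff.mp hx2 _ (mem_map_of_mem _ hw))

/-- Relative Puig factorization. -/
theorem puig_factorization_rel [Finite G] {p : ℕ} [Fact p.Prime] (hp : p ≠ 2) {H T : Subgroup G}
    (hsol : Group.IsSolvable H) (hodd : Odd (Nat.card H)) (hT : IsSylowIn p T H) :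
    ∃ K : Subgroup G, K ≤ H ∧ H ≤ normalizer (K : Set G) ∧ (Nat.card K).Coprime p ∧
      ∀ h ∈ H, ∃ k ∈ K, ∃ n ∈ H ⊓ normalizer (zL T : Set G), h = k * n := by
  obtain ⟨P', hP'⟩ := hT.exists_sylow
  have hfac := puig_factorization (G := H) hodd hp P'
  haveI hKn : (Cfsg.pPrimeCore p H).Normal := by
    haveI := Cfsg.Agent.Lib.Helper14.pPrimeCore_characteristic p H
    infer_instance
  refine ⟨(Cfsg.pPrimeCore p H).map H.subtype, map_subtype_le _, ?_, ?_, ?_⟩
  · apply le_normalizer_of_conj_mem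
    rintro x hx _ ⟨k, hk, rfl⟩
    exact ⟨⟨x, hx⟩ * k * ⟨x, hx⟩⁻¹, hKn.conj_mem k hk _, rfl⟩
  · rw [Nat.card_congr (Subgroup.equivMapOfInjective _ _ H.subtype_injective).toEquiv.symm]
    exact Cfsg.Agent.Lib.Helper14.card_pPrimeCore_coprime
  · intro h hh
    have hmem : (⟨h, hh⟩ : H) ∈ Cfsg.pPrimeCore p H ⊔
      normalizer ((pL (P' : Subgroup H) ⊓ centralizer (pL (P' : Subgroup H) : Set H) : Subgroup H) : Set H) := by
      rw [hfac]; exact mem_top _
    rw [mem_sup_normal_left] at hmem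
    obtain ⟨k, hk, n, hn, hkn⟩ := hmem
    refine ⟨k, mem_map_of_mem _ hk, n, ⟨n.2, ?_⟩, ?_⟩
    · rw [← hP', ← map_zL]
      apply mem_normalizer_of_cj_eq
      have h2 := cj_eq_of_mem_normalizer hn
      have h3 := map_cj H.subtype n (zL (P' : Subgroup H))
      change cj (H.subtype n) _ = _
      rw [← h3]
      exact congrArg _ h2
    · exact congrArg Subtype.val hkn

/-- `H = K L`, `K` a normal `p'`-subgroup of `H`, `T ≤ L` a `p`-group: `T ∩ H' ≤ L'`. -/
theorem inf_commutator_le_of_factorization [Finite G] {p : ℕ} [hp : Fact p.Prime] {H K L T : Subgroup G}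
    (hKH : K ≤ H) (hKn : H ≤ normalizer (K : Set G)) (hKp : (Nat.card K).Coprime p) (hLH : L ≤ H)
    (hfac : ∀ h ∈ H, ∃ k ∈ K, ∃ n ∈ L, h = k * n) (hTL : T ≤ L) (hT : IsPGroup p T) :
    T ⊓ ⁅H, H⁆ ≤ ⁅L, L⁆ := by
  have hLL : ⁅L, L⁆ ≤ L := commutator_le_of_le_normalizer le_normalizer
  have hA : ⁅H, H⁆ ≤ K ⊔ ⁅L, L⁆ := by
    rw [commutator_le]
    intro h₁ hh₁ h₂ hh₂
    obtain ⟨k₁, hk₁, l₁, hl₁, rfl⟩ := hfac h₁ hh₁
    obtain ⟨k₂, hk₂, l₂, hl₂, rfl⟩ := hfac h₂ hh₂
    haveI : (K.subgroupOf H).Normal := (normal_subgroupOf_iff_le_normalizer hKH).mpr hKn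
    have key : ∀ (k l : G) (hk : k ∈ K) (hl : l ∈ L),
        (QuotientGroup.mk' (K.subgroupOf H)) ⟨k * l, H.mul_mem (hKH hk) (hLH hl)⟩ =
          (QuotientGroup.mk' (K.subgroupOf H)) ⟨l, hLH hl⟩ := by
      intro k l hk hl
      have : (⟨k * l, H.mul_mem (hKH hk) (hLH hl)⟩ : H) = ⟨k, hKH hk⟩ * ⟨l, hLH hl⟩ := rfl
      rw [this, map_mul]
      have h1 : (QuotientGroup.mk' (K.subgroupOf H)) ⟨k, hKH hk⟩ = 1 := by
        rw [QuotientGroup.mk'_apply, QuotientGroup.eq_one_iff, mem_subgroupOf]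
        exact hk
      rw [h1, one_mul]
    have h3 : (QuotientGroup.mk' (K.subgroupOf H))
        ⁅(⟨l₁, hLH hl₁⟩ : H), ⟨l₂, hLH hl₂⟩⁆ = (QuotientGroup.mk' (K.subgroupOf H))
        ⁅(⟨k₁ * l₁, H.mul_mem (hKH hk₁) (hLH hl₁)⟩ : H), ⟨k₂ * l₂, H.mul_mem (hKH hk₂) (hLH hl₂)⟩⁆ := by
      rw [map_commutatorElement, map_commutatorElement, key k₁ l₁ hk₁ hl₁, key k₂ l₂ hk₂ hl₂]
    rw [QuotientGroup.mk'_apply, QuotientGroup.mk'_apply, QuotientGroup.eq, mem_subgroupOf] at h3
    have h4 : ⁅l₁, l₂⁆⁻¹ * ⁅k₁ * l₁, k₂ * l₂⁆ ∈ K := h3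
    have h5 : ⁅k₁ * l₁, k₂ * l₂⁆ = ⁅l₁, l₂⁆ * (⁅l₁, l₂⁆⁻¹ * ⁅k₁ * l₁, k₂ * l₂⁆) := by group
    rw [h5]
    exact mul_mem (mem_sup_right (commutator_mem_commutator hl₁ hl₂)) (mem_sup_left h4)
  rintro x ⟨hxT, hxH⟩
  have hx2 := hA hxH
  rw [mem_sup_of_le_normalizer (hLL.trans (hLH.trans hKn))] at hx2
  obtain ⟨k, hk, c, hc, hxkc⟩ := hx2
  have hxL : x ∈ L := hTL hxT
  have hcL : c ∈ L := hLL hc
  have hkL : k ∈ L := by
    have : k = x * c⁻¹ := by rw [hxkc]; group
    rw [this]; exact mul_mem hxL (inv_mem hcL)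
  rw [← map_subtype_commutator] at hc ⊢
  obtain ⟨c', hc', hcc'⟩ := hc
  have hfc : Abelianization.of c' = 1 := by
    rw [← MonoidHom.mem_ker, Abelianization.ker_of]; exact hc'
  have hfx : Abelianization.of (⟨x, hxL⟩ : L) = Abelianization.of (⟨k, hkL⟩ : L) := by
    have : (⟨x, hxL⟩ : L) = ⟨k, hkL⟩ * c' := Subtype.ext (by
      show x = k * (L.subtype c')
      rw [hcc', hxkc])
    rw [this, map_mul, hfc, mul_one]
  obtain ⟨a, ha⟩ := hT ⟨x, hxT⟩
  have h1 : (Abelianization.of (⟨x, hxL⟩ : L)) ^ (p ^ a) = 1 := by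
    rw [← map_pow]
    have : (⟨x, hxL⟩ : L) ^ (p ^ a) = 1 := Subtype.ext (by simpa using congrArg Subtype.val ha)
    rw [this, map_one]
  have h2 : (Abelianization.of (⟨x, hxL⟩ : L)) ^ (Nat.card K) = 1 := by
    rw [hfx, ← map_pow]
    have : (⟨k, hkL⟩ : L) ^ (Nat.card K) = 1 := by
      have h0 : (⟨k, hk⟩ : K) ^ (Nat.card K) = 1 := pow_card_eq_one'
      have h00 : k ^ (Nat.card K) = 1 := by
        have := congrArg Subtype.val h0
        rwa [SubgroupClass.coe_pow] at this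
      exact Subtype.ext (by simpa using h00)
    rw [this, map_one]
  have h3 : Abelianization.of (⟨x, hxL⟩ : L) = 1 := by
    have hd1 := orderOf_dvd_of_pow_eq_one h1
    have hd2 := orderOf_dvd_of_pow_eq_one h2
    have hcop : (Nat.card K).Coprime (p ^ a) := hKp.pow_right a
    have := Nat.eq_one_of_dvd_coprimes hcop hd2 hd1
    exact orderOf_eq_one_iff.mp this
  rw [← MonoidHom.mem_ker, Abelianization.ker_of] at h3
  exact ⟨⟨x, hxL⟩, h3, rfl⟩

/-- `Z(L(S))` controls transfer in a group of odd order with solvable `p`-locals. -/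
theorem puig_controls_transfer [Finite G] (hodd : Odd (Nat.card G)) {p : ℕ} [hp : Fact p.Prime]
    (hloc : ∀ T : Subgroup G, IsPGroup p T → T ≠ ⊥ → Group.IsSolvable (normalizer (T : Set G)))
    (S : Sylow p G) : (S : Subgroup G) ⊓ ⁅(⊤ : Subgroup G), (⊤ : Subgroup G)⁆ ≤
      ⁅normalizer (zL (S : Subgroup G) : Set G), normalizer (zL (S : Subgroup G) : Set G)⁆ := by
  have hmain : Cfsg.FamilyControlsTransferIn p {(zL : Subgroup G → Subgroup G)} ⊤ := by
    apply Cfsg.Agent.S1960.result S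
    · intro W hW
      rw [Set.mem_singleton_iff] at hW
      rw [hW]; exact zL_isConjugacyFunctor p
    · intro T₀ hT₀S hT₀ _
      have hT₀p : IsPGroup p T₀ := S.2.to_le hT₀S
      have hp2 : p ≠ 2 := by
        rintro rfl
        apply hT₀
        have h1 : Nat.card T₀ ∣ Nat.card G := card_dvd_of_le le_top |>.trans (by simp)
        obtain ⟨n, hn⟩ := IsPGroup.iff_card.mp hT₀p
        have h2 : Odd (Nat.card T₀) := Odd.of_dvd_nat hodd h1
        rw [hn] at h2
        have hn0 : n = 0 := by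
          by_contra h0
          exact (Nat.not_even_iff_odd.mpr h2) ((Nat.even_pow).mpr ⟨even_two, h0⟩)
        rw [hn0, pow_zero] at hn
        exact (card_eq_one).mp hn
      obtain ⟨T, hT⟩ := exists_isSylowIn p (normalizer (T₀ : Set G))
      have hsol := hloc T₀ hT₀p hT₀
      have hoddH : Odd (Nat.card (normalizer (T₀ : Set G))) :=
        Odd.of_dvd_nat hodd (card_dvd_of_le le_top |>.trans (by simp))
      obtain ⟨K, hKH, hKn, hKp, hfac⟩ := puig_factorization_rel hp2 hsol hoddH hT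
      refine ⟨T, hT.le, hT.isPGroup, hT.not_dvd, ?_⟩
      rw [iSup_singleton]
      apply le_antisymm
      · apply le_inf inf_le_left
        apply inf_commutator_le_of_factorization hKH hKn hKp inf_le_left hfac _ hT.isPGroup
        exact le_inf hT.le (le_normalizer.trans (normalizer_le_normalizer_zL T))
      · exact inf_le_inf le_rfl (commutator_mono inf_le_left inf_le_left)
  obtain ⟨T, _, hTp, hTi, hTeq⟩ := hmain
  rw [iSup_singleton] at hTeq
  have hT : IsSylowIn p T ⊤ := ⟨le_top, hTp, hTi⟩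
  have hS : IsSylowIn p (S : Subgroup G) ⊤ := ⟨le_top, S.2, by
    rw [relIndex_top_right]; exact S.not_dvd_index⟩
  obtain ⟨g, _, hg⟩ := hT.conj hS
  have h1 := congrArg (cj g) hTeq
  rw [cj_inf, cj_inf, cj_commutator, cj_commutator, cj_inf, ← hg] at h1
  have htop : cj g (⊤ : Subgroup G) = ⊤ := cj_normal g ⊤
  rw [htop, ← normalizer_cj, cj_zL, ← hg, top_inf_eq] at h1
  rw [h1]
  exact inf_le_right

/-- In a minimal simple group of odd order, `S ≤ N_G(Z(L(S)))'`. -/
theorem sylow_le_commutator_normalizer_zL [Finite G] (hG : Cfsg.IsMinSimpleOddOrder G) {p : ℕ}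
    [hp : Fact p.Prime] (S : Sylow p G) : (S : Subgroup G) ≤
      ⁅normalizer (zL (S : Subgroup G) : Set G), normalizer (zL (S : Subgroup G) : Set G)⁆ := by
  have hperf : ⁅(⊤ : Subgroup G), (⊤ : Subgroup G)⁆ = ⊤ := by
    have hs := hG.2.1
    have hn : (⁅(⊤ : Subgroup G), (⊤ : Subgroup G)⁆).Normal := inferInstance
    rcases hn.eq_bot_or_eq_top with h | h
    · exfalso
      apply hG.2.2.1
      refine ⟨⟨fun a b => ?_⟩⟩
      have : ⁅a, b⁆ ∈ ⁅(⊤ : Subgroup G), (⊤ : Subgroup G)⁆ := commutator_mem_commutator (mem_top a) (mem_top b)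
      rw [h, mem_bot] at this
      exact commutatorElement_eq_one_iff_mul_comm.mp this
    · exact h
  have h1 := puig_controls_transfer hG.1 (p := p) (fun (T : Subgroup G) hT hne => by
    apply solvable_of_ne_top hG
    apply normalizer_ne_top hG hne
    rintro rfl
    have : Group.IsSolvable G := by
      have : Group.IsNilpotent (⊤ : Subgroup G) := hT.isNilpotent
      have h2 : Group.IsSolvable (⊤ : Subgroup G) := inferInstance
      exact solvable_of_surjective (f := (⊤ : Subgroup G).subtype) (fun x => ⟨⟨x, mem_top x⟩, rfl⟩)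
    have h3 := commutator_lt_of_solvable (N := (⊤ : Subgroup G)) inferInstance (by
      intro h
      apply hG.2.2.1
      refine ⟨⟨fun a b => ?_⟩⟩
      have ha : a ∈ (⊤ : Subgroup G) := mem_top a
      have hb : b ∈ (⊤ : Subgroup G) := mem_top b
      rw [h, mem_bot] at ha hb
      rw [ha, hb])
    rw [hperf] at h3
    exact lt_irrefl _ h3) S
  rw [hperf, inf_top_eq] at h1
  exact h1

end Cfsg.Agent.Lib.Helper30
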