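import Cfsg.Agent.Lib.Helper29.BG139R11z
import Cfsg.Agent.Lib.Helper31.BG134A
import Cfsg.Agent.Lib.Helper28.BG12b

/-!
Bender-Glauberman Lemma 13.8 (asymmetry), in the form needed for 13.10/13.11 (ladder P11, steps 5d-5e).
-/

set_option autoImplicit false
set_option linter.unusedSectionVars false
set_option linter.unusedVariables false

namespace Cfsg.Agent.Lib.Helper30.BG138

open Subgroup Cfsg.Agent.Lib.Helper30 Cfsg.Agent.Lib.Helper2 Cfsg.Agent.Lib.Helper2.BG12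
  Cfsg.Agent.Lib.Helper68 Cfsg.Agent.Lib.Helper2.BG139 Cfsg.Agent.Lib.Helper29.BG139

universe u

variable {G : Type u} [Group G]

/-- HALL step (step 11 of the proof of 13.9), for arbitrary maximal subgroups `M`, `N`. -/
theorem exists_cross [Finite G] (T : Texts0 G) {p : ℕ} {M N P : Subgroup G}
    (hM : IsCoatom M) (hN : IsCoatom N) (hP : Nat.card P = p) (hpp : p.Prime)
    (hcM : Cfsg.piCoreOf (Cfsg.beta M) M ⊓ centralizer (P : Set G) ≠ ⊥)
    (hcN : Cfsg.piCoreOf (Cfsg.beta N) N ⊓ centralizer (P : Set G) ≠ ⊥) :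
    (∃ y ∈ M ⊓ centralizer (P : Set G), orderOf y ∈ Cfsg.beta N) ∨
      (∃ y ∈ N ⊓ centralizer (P : Set G), orderOf y ∈ Cfsg.beta M) := by
  obtain ⟨x, hx, hxr⟩ := exists_prime_orderOf_of_ne_bot hcM
  obtain ⟨y, hy, hys⟩ := exists_prime_orderOf_of_ne_bot hcN
  have hMb := (T.t14 M hM).1
  have hNb := (T.t14 N hN).1
  have hrβ : orderOf x ∈ Cfsg.beta M := hMb.2.1 _ hxr (orderOf_dvd_natCard _ hx.1)
  have hsβ : orderOf y ∈ Cfsg.beta N := hNb.2.1 _ hys (orderOf_dvd_natCard _ hy.1)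
  have hxM : x ∈ M := hMb.1 hx.1
  have hyN : y ∈ N := hNb.1 hy.1
  have hP1 : P ≠ ⊥ := by
    intro hb
    have := hP
    rw [hb, card_bot] at this
    exact hpp.one_lt.ne this
  have hCs : Group.IsSolvable (centralizer (P : Set G)) :=
    solvable_of_ne_top T.hG (centralizer_ne_top' T.hG hP1)
  set π : Set ℕ := {orderOf x, orderOf y} with hπ
  have hbotN : ∀ K : Subgroup G, (⊥ : Subgroup G) ≤ normalizer (K : Set G) := fun K => bot_le
  have hbotc : (Nat.card (⊥ : Subgroup G)).Coprime (Nat.card (centralizer (P : Set G))) := by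
    rw [card_bot]; exact Nat.coprime_one_left _
  obtain ⟨W, hW, -, hxW⟩ := Cfsg.Agent.Lib.Helper66.exists_invariant_isPiHallOf_ge (π := π)
    (hbotN _) hbotc hCs (U := zpowers x) (by rw [zpowers_le]; exact hx.2) (hbotN _)
    (by
      intro t ht htd
      rw [Nat.card_zpowers] at htd
      left
      exact (Nat.prime_dvd_prime_iff_eq ht hxr).mp htd)
  obtain ⟨W₂, hW₂, -, hyW₂⟩ := Cfsg.Agent.Lib.Helper66.exists_invariant_isPiHallOf_ge (π := π)
    (hbotN _) hbotc hCs (U := zpowers y) (by rw [zpowers_le]; exact hy.2) (hbotN _)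
    (by
      intro t ht htd
      rw [Nat.card_zpowers] at htd
      right
      exact (Nat.prime_dvd_prime_iff_eq ht hys).mp htd)
  obtain ⟨c, hc, hcW⟩ := Cfsg.Agent.Lib.Helper66.isPiHallOf_exists_conj hCs hW hW₂
  have hxW' : x ∈ W := hxW (mem_zpowers x)
  have hyW' : y ∈ Helper30.cj c W := hcW ▸ hyW₂ (mem_zpowers y)
  have hW1 : W ≠ ⊥ := by
    intro hb
    rw [hb, mem_bot] at hxW'
    rw [hxW', orderOf_one] at hxr
    exact Nat.not_prime_one hxr
  obtain ⟨t, T₀, ht, hT₀, hT₁, hT₀W, hWT₀⟩ :=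
    exists_normal_pgroup_sub hW1 (Cfsg.Agent.Lib.Helper1.isSolvable_of_le hW.1 hCs)
  have htπ : t ∈ π := by
    have : Fact t.Prime := ⟨ht⟩
    obtain ⟨z, hz, hzo⟩ := exists_orderOf_eq_of_ne_bot hT₀ hT₁
    exact hW.2.1 t ht (hzo ▸ orderOf_dvd_natCard _ (hT₀W hz))
  rcases htπ with rfl | htπ
  · left
    have : Fact (orderOf x).Prime := ⟨hxr⟩
    have hWM : W ≤ M := le_of_opIn_ne_bot0 T hM hrβ hT₀ hT₁ hT₀W hWT₀ hxW' hxM rfl
    refine ⟨c⁻¹ * y * c, mem_inf.mpr ⟨hWM (mem_cj.mp hyW'), ?_⟩, ?_⟩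
    · exact mul_mem (mul_mem (inv_mem hc) hy.2) hc
    · have : orderOf (c⁻¹ * y * c) = orderOf y := by
        have := orderOf_injective (MulAut.conj c⁻¹).toMonoidHom (MulAut.conj c⁻¹).injective y
        simpa using this
      rw [this]; exact hsβ
  · right
    rw [Set.mem_singleton_iff] at htπ
    subst htπ
    have : Fact (orderOf y).Prime := ⟨hys⟩
    have hWN : Helper30.cj c W ≤ N := le_of_opIn_ne_bot0 T hN hsβ (isPGroup_cj c hT₀)
      (by
        intro hb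
        apply hT₁
        have h1 := card_cj c T₀
        rw [hb, card_bot] at h1
        exact card_eq_one.mp h1.symm)
      (cj_mono c hT₀W)
      (by rw [normalizer_cj]; exact cj_mono c hWT₀) hyW' hyN rfl
    refine ⟨c * x * c⁻¹, mem_inf.mpr ⟨hWN (conj_mem_cj hxW'), ?_⟩, ?_⟩
    · exact mul_mem (mul_mem hc hx.2) (inv_mem hc)
    · have : orderOf (c * x * c⁻¹) = orderOf x := by
        have := orderOf_injective (MulAut.conj c).toMonoidHom (MulAut.conj c).injective x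
        simpa using this
      rw [this]; exact hrβ

/-- powers in a semidirect decomposition. -/
theorem pow_mul_decomp {N : Subgroup G} {a b : G} (ha : a ∈ normalizer (N : Set G)) (hb : b ∈ N)
    (n : ℕ) : ∃ b' ∈ N, (a * b) ^ n = a ^ n * b' := by
  induction n with
  | zero => exact ⟨1, one_mem _, by simp⟩
  | succ n ih =>
    obtain ⟨b', hb', h⟩ := ih
    refine ⟨a⁻¹ * b' * a * b, mul_mem ?_ hb, ?_⟩
    · have := (mem_normalizer_iff.mp (inv_mem ha) b').mp hb'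
      simpa using this
    · rw [pow_succ, h, pow_succ]; group

/-- LIFT (trivial form): `M = E M_σ`, `P ≤ E`, `y ∈ C_M(P)` of prime order `s` not dividing `#M_σ`:
there is `a ∈ C_E(P)` of order `s`. -/
theorem exists_lift [Finite G] {M E S P : Subgroup G} (hE : Cfsg.IsComplIn E S M)
    (hn : M ≤ normalizer (S : Set G)) (hPE : P ≤ E) {y : G}
    (hy : y ∈ M ⊓ centralizer (P : Set G)) (hs : (orderOf y).Prime)
    (hsS : ¬ orderOf y ∣ Nat.card S) :
    ∃ a ∈ E ⊓ centralizer (P : Set G), orderOf a = orderOf y := by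
  obtain ⟨hEM, hSM, hES, hdec⟩ := hE
  obtain ⟨a, ha, b, hb, hab⟩ := hdec y hy.1
  have haC : a ∈ centralizer (P : Set G) := by
    rw [mem_centralizer_iff]
    intro x hx
    have hxy : x * y = y * x := (mem_centralizer_iff.mp hy.2) x hx
    have hxM : x ∈ M := hEM (hPE hx)
    -- x⁻¹ * a⁻¹ * x * a lies in E and in S
    have h1 : x⁻¹ * a⁻¹ * x * a ∈ E :=
      mul_mem (mul_mem (mul_mem (inv_mem (hPE hx)) (inv_mem ha)) (hPE hx)) ha
    have h2 : x⁻¹ * a⁻¹ * x * a = x⁻¹ * b * x * b⁻¹ := by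
      have h3 : x * (a * b) = (a * b) * x := by rw [← hab]; exact hxy
      have h4 : a⁻¹ * x * a = b * x * b⁻¹ := by
        have : x * a * b = a * b * x := by simpa [mul_assoc] using h3
        calc a⁻¹ * x * a = a⁻¹ * (x * a * b) * b⁻¹ := by group
          _ = a⁻¹ * (a * b * x) * b⁻¹ := by rw [this]
          _ = b * x * b⁻¹ := by group
      calc x⁻¹ * a⁻¹ * x * a = x⁻¹ * (a⁻¹ * x * a) := by group
        _ = x⁻¹ * (b * x * b⁻¹) := by rw [h4]
        _ = x⁻¹ * b * x * b⁻¹ := by group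
    have h5 : x⁻¹ * b * x * b⁻¹ ∈ S := by
      refine mul_mem ?_ (inv_mem hb)
      have := (mem_normalizer_iff.mp (inv_mem (hn hxM)) b).mp hb
      simpa using this
    have h6 : x⁻¹ * a⁻¹ * x * a ∈ E ⊓ S := ⟨h1, h2 ▸ h5⟩
    rw [hES, mem_bot] at h6
    have : x * a = a * x := by
      calc x * a = a * x * (x⁻¹ * a⁻¹ * x * a) := by group
        _ = a * x := by rw [h6, mul_one]
    exact this
  refine ⟨a, ⟨ha, haC⟩, ?_⟩
  obtain ⟨b', hb', hpow⟩ := pow_mul_decomp (hn (hEM ha)) hb (orderOf y)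
  have h1 : a ^ orderOf y = 1 := by
    have h2 : a ^ orderOf y * b' = 1 := by rw [← hpow, ← hab, pow_orderOf_eq_one]
    have h3 : a ^ orderOf y ∈ E ⊓ S := by
      refine ⟨pow_mem ha _, ?_⟩
      have h4 : a ^ orderOf y = b'⁻¹ := eq_inv_of_mul_eq_one_left h2
      rw [h4]; exact S.inv_mem hb'
    rw [hES, mem_bot] at h3
    exact h3
  have h2 : a ≠ 1 := by
    intro h
    apply hsS
    rw [hab, h, one_mul]
    exact orderOf_dvd_natCard _ hb
  have : Fact (orderOf y).Prime := ⟨hs⟩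
  exact orderOf_eq_prime h1 h2

/-- One half of the final contradiction. -/
theorem no_cross [Finite G] (T : Texts0 G) {M H E P Qs : Subgroup G}
    (hM : IsCoatom M) (hH : IsCoatom H)
    (hSP : ∀ q : ℕ, q ∈ Cfsg.sigma M → q ∈ Cfsg.sigma H → False)
    (hE : Cfsg.IsComplIn E (Cfsg.sigmaCore M) M) (hEH : E ≤ H) (hPE : P ≤ E)
    (hQsH : Qs ≤ H) (hQsM : Qs ≤ Cfsg.sigmaCore M)
    (hc : Cfsg.alphaCore H ⊓ centralizer (Qs : Set G) ⊓ centralizer (P : Set G) = ⊥)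
    {y : G} (hy : y ∈ M ⊓ centralizer (P : Set G)) (hs : orderOf y ∈ Cfsg.beta H) : False := by
  have hsp : (orderOf y).Prime := hs.1.1
  have : Fact (orderOf y).Prime := ⟨hsp⟩
  have hsσ : orderOf y ∈ Cfsg.sigma H := mem_sigma_of_mem_alpha T.hG T.hU hH hs.1
  have hMσ := T.t50 M hM
  have hHσ := T.t50 H hH
  have hsS : ¬ orderOf y ∣ Nat.card (Cfsg.sigmaCore M) := fun hd =>
    hSP _ (hMσ.2.1 _ hsp hd) hsσ
  obtain ⟨a, ha, hao⟩ := exists_lift hE (Cfsg.Agent.Lib.Helper28.BG12.le_normalizer_sigmaCore M)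
    hPE hy hsp hsS
  have haH : a ∈ H := hEH ha.1
  have haM : a ∈ M := hE.1 ha.1
  have hαhall := T.t05 H hH
  have hza : IsPGroup (orderOf y) (zpowers a) :=
    IsPGroup.of_card (n := 1) (by rw [Nat.card_zpowers, hao, pow_one])
  have haα : zpowers a ≤ Cfsg.alphaCore H := by
    apply le_of_coprime_relIndex hαhall.1 (le_normalizer_piCoreOf _ H) (by rwa [zpowers_le])
    rw [Nat.card_zpowers, hao]
    exact (Nat.Prime.coprime_iff_not_dvd hsp).mpr (hαhall.2.2 _ hsp hs.1)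
  have haα' : a ∈ Cfsg.alphaCore H := haα (mem_zpowers a)
  have haσ : a ∈ Cfsg.sigmaCore H :=
    Cfsg.Agent.Lib.Helper28.BG12.isPGroup_le_sigmaCore T.hG hH hsσ (by rwa [zpowers_le]) hza
      (mem_zpowers a)
  have hinf : Cfsg.sigmaCore M ⊓ Cfsg.sigmaCore H = ⊥ := by
    apply (Subgroup.disjoint_of_coprime_natCard ?_).eq_bot
    rw [Nat.coprime_iff_gcd_eq_one]
    by_contra hne
    obtain ⟨q, hq, hqd⟩ := Nat.exists_prime_and_dvd hne
    exact hSP q (hMσ.2.1 q hq (hqd.trans (Nat.gcd_dvd_left _ _)))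
      (hHσ.2.1 q hq (hqd.trans (Nat.gcd_dvd_right _ _)))
  have haQ : a ∈ centralizer (Qs : Set G) := by
    rw [mem_centralizer_iff]
    intro z hz
    have h1 : a * z * a⁻¹ * z⁻¹ ∈ Cfsg.sigmaCore M := by
      refine mul_mem ?_ (inv_mem (hQsM hz))
      exact (mem_normalizer_iff.mp
        (Cfsg.Agent.Lib.Helper28.BG12.le_normalizer_sigmaCore M haM) z).mp (hQsM hz)
    have h2 : a * z * a⁻¹ * z⁻¹ ∈ Cfsg.sigmaCore H := by
      have h3 : z * a⁻¹ * z⁻¹ ∈ Cfsg.sigmaCore H :=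
        (mem_normalizer_iff.mp
          (Cfsg.Agent.Lib.Helper28.BG12.le_normalizer_sigmaCore H (hQsH hz)) a⁻¹).mp (inv_mem haσ)
      have : a * z * a⁻¹ * z⁻¹ = a * (z * a⁻¹ * z⁻¹) := by group
      rw [this]; exact mul_mem haσ h3
    have h4 : a * z * a⁻¹ * z⁻¹ ∈ Cfsg.sigmaCore M ⊓ Cfsg.sigmaCore H := ⟨h1, h2⟩
    rw [hinf, mem_bot] at h4
    calc z * a = (a * z * a⁻¹ * z⁻¹)⁻¹ * (a * z) := by group
      _ = a * z := by rw [h4, inv_one, one_mul]
  have h1 : a ∈ Cfsg.alphaCore H ⊓ centralizer (Qs : Set G) ⊓ centralizer (P : Set G) :=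
    ⟨⟨haα', haQ⟩, ha.2⟩
  rw [hc, mem_bot] at h1
  rw [h1, orderOf_one] at hao
  rw [← hao] at hsp
  exact Nat.not_prime_one hsp

/-- B-G Lemma 13.8 in the form needed for 13.10 (steps 5d, 5e of the ladder P11). -/
theorem asym [Finite G] (T : Texts0 G) {M H E EH P Q Qs : Subgroup G} {t p l : ℕ}
    [Fact t.Prime] [Fact p.Prime] [Fact l.Prime]
    (hM : IsCoatom M) (hH : IsCoatom H)
    (hSP : ∀ q : ℕ, q ∈ Cfsg.sigma M → q ∈ Cfsg.sigma H → False)
    (hE : Cfsg.IsComplIn E (Cfsg.sigmaCore M) M) (hEH : E ≤ H)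
    (hEH' : Cfsg.IsComplIn EH (Cfsg.sigmaCore H) H) (hEHM : EH ≤ M)
    (htM : t ∈ Cfsg.tau1 M) (htH : t ∈ Cfsg.tau1 H)
    (hPE : P ≤ E) (hPEH : P ≤ EH) (hP : Nat.card P = t)
    (hQM : Q ≤ M) (hQH : Q ≤ Cfsg.sigmaCore H) (hQp : IsPGroup p Q) (hpt : p ≠ t)
    (hpα : p ∉ Cfsg.alpha M) (hPQ : P ≤ normalizer (Q : Set G))
    (hQf : Q ⊓ centralizer (P : Set G) = ⊥)
    (hQN : ¬ (∀ L : Subgroup G, IsCoatom L → normalizer (Q : Set G) ≤ L → L = M))
    (hQsH : Qs ≤ H) (hQsM : Qs ≤ Cfsg.sigmaCore M) (hQsl : IsPGroup l Qs) (hlt : l ≠ t)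
    (hlα : l ∉ Cfsg.alpha H) (hPQs : P ≤ normalizer (Qs : Set G))
    (hQsf : Qs ⊓ centralizer (P : Set G) = ⊥)
    (hQsN : ¬ (∀ L : Subgroup G, IsCoatom L → normalizer (Qs : Set G) ≤ L → L = H))
    (hαM : Cfsg.alphaCore M ≠ ⊥) (hαH : Cfsg.alphaCore H ≠ ⊥)
    (hαβM : ∀ q ∈ Cfsg.alpha M, q ∈ Cfsg.beta M) (hαβH : ∀ q ∈ Cfsg.alpha H, q ∈ Cfsg.beta H) :
    False := by
  have hPM : P ≤ M := hPE.trans hE.1
  have hPH : P ≤ H := hPE.trans hEH
  obtain ⟨h1, h2⟩ := Cfsg.Agent.Lib.Helper31.BG134.bg1218a T hM htM hpt hpα hPM hP hQM hQp hPQ hQf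
    hαM hQN
  obtain ⟨h3, h4⟩ := Cfsg.Agent.Lib.Helper31.BG134.bg1218a T hH htH hlt hlα hPH hP hQsH hQsl hPQs
    hQsf hαH hQsN
  have heM : Cfsg.alpha M = Cfsg.beta M := Set.ext fun q => ⟨hαβM q, fun h => h.1⟩
  have heH : Cfsg.alpha H = Cfsg.beta H := Set.ext fun q => ⟨hαβH q, fun h => h.1⟩
  have hcM : Cfsg.piCoreOf (Cfsg.beta M) M ⊓ centralizer (P : Set G) ≠ ⊥ := by
    rw [← heM]; exact h1
  have hcH : Cfsg.piCoreOf (Cfsg.beta H) H ⊓ centralizer (P : Set G) ≠ ⊥ := by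
    rw [← heH]; exact h3
  rcases exists_cross T hM hH hP Fact.out hcM hcH with ⟨y, hy, hs⟩ | ⟨y, hy, hs⟩
  · exact no_cross T hM hH hSP hE hEH hPE hQsH hQsM h4 hy hs
  · exact no_cross T hH hM (fun q h h' => hSP q h' h) hEH' hEHM hPEH hQM hQH h2 hy hs

end Cfsg.Agent.Lib.Helper30.BG138
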