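import Cfsg.Agent.Lib.Helper30.PuigTransfer
import Cfsg.Agent.Lib.Helper31.CNSolv
import Cfsg.Agent.S1474

/-!
Local analysis in CN-groups of odd order: Frobenius type subgroups, three-step groups.
-/

set_option autoImplicit false

namespace Cfsg.Agent.Lib.Helper30

open Subgroup Cfsg.Agent.Lib.Helper31 Cfsg.Agent.Lib.Helper1
open scoped Pointwise commutatorElement

variable {G : Type*} [Group G]

theorem isCNGroup_subgroup (hCN : Cfsg.IsCNGroup G) (M : Subgroup G) : Cfsg.IsCNGroup M := by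
  intro g hg
  have hg1 : (g : G) ≠ 1 := fun h => hg (Subtype.ext h)
  have := hCN g hg1
  let f : centralizer ({g} : Set M) →* centralizer ({(g : G)} : Set G) :=
    { toFun := fun x => ⟨x.1.1, by
        have hx := mem_centralizer_singleton_iff.mp x.2
        exact mem_centralizer_singleton_iff.mpr (congrArg Subtype.val hx)⟩
      map_one' := rfl
      map_mul' := fun _ _ => rfl }
  have hf : Function.Injective f := by
    intro a b hab
    apply Subtype.ext
    apply Subtype.ext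
    exact congrArg (fun z : centralizer ({(g : G)} : Set G) => (z : G)) hab
  exact Subgroup.isNilpotent_of_ker_le_center f
    (by rw [(MonoidHom.ker_eq_bot_iff f).2 hf]; exact bot_le)

/-- the commutator map with a fixed-point-free element is onto. -/
theorem exists_commutator_eq_of_fpf [Finite G] {K : Subgroup G} {b : G}
    (hb : b ∈ normalizer (K : Set G)) (hfpf : K ⊓ centralizer ({b} : Set G) = ⊥) {n : G} (hn : n ∈ K) :
    ∃ m ∈ K, m * b * m⁻¹ * b⁻¹ = n := by
  have hmem : ∀ m : K, (m : G) * b * (m : G)⁻¹ * b⁻¹ ∈ K := by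
    intro m
    have h1 : b * (m : G)⁻¹ * b⁻¹ ∈ K := (mem_normalizer_iff.mp hb _).mp (K.inv_mem m.2)
    have : (m : G) * b * (m : G)⁻¹ * b⁻¹ = m * (b * (m : G)⁻¹ * b⁻¹) := by group
    rw [this]
    exact K.mul_mem m.2 h1
  let f : K → K := fun m => ⟨(m : G) * b * (m : G)⁻¹ * b⁻¹, hmem m⟩
  have hinj : Function.Injective f := by
    intro m₁ m₂ h
    have h1 : (m₁ : G) * b * (m₁ : G)⁻¹ * b⁻¹ = (m₂ : G) * b * (m₂ : G)⁻¹ * b⁻¹ := congrArg Subtype.val h
    have h2 : (m₂ : G)⁻¹ * m₁ ∈ K ⊓ centralizer ({b} : Set G) := by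
      refine mem_inf.mpr ⟨K.mul_mem (K.inv_mem m₂.2) m₁.2, ?_⟩
      rw [mem_centralizer_singleton_iff]
      have h3 : (m₁ : G) * b * (m₁ : G)⁻¹ = (m₂ : G) * b * (m₂ : G)⁻¹ := mul_right_cancel h1
      calc (m₂ : G)⁻¹ * m₁ * b = (m₂ : G)⁻¹ * ((m₁ : G) * b * (m₁ : G)⁻¹) * m₁ := by group
        _ = (m₂ : G)⁻¹ * ((m₂ : G) * b * (m₂ : G)⁻¹) * m₁ := by rw [h3]
        _ = b * ((m₂ : G)⁻¹ * m₁) := by group
    rw [hfpf, mem_bot] at h2
    apply Subtype.ext
    exact (inv_mul_eq_one.mp h2).symm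
  obtain ⟨m, hm⟩ := (Finite.injective_iff_surjective.mp hinj) ⟨n, hn⟩
  exact ⟨m, m.2, congrArg Subtype.val hm⟩

theorem inf_centralizer_conj_eq_bot {K : Subgroup G} {b m : G} (hm : m ∈ normalizer (K : Set G))
    (hfpf : K ⊓ centralizer ({b} : Set G) = ⊥) : K ⊓ centralizer ({m * b * m⁻¹} : Set G) = ⊥ := by
  rw [eq_bot_iff]
  intro x hx
  obtain ⟨hxK, hxc⟩ := mem_inf.mp hx
  rw [mem_centralizer_singleton_iff] at hxc
  have h1 : m⁻¹ * x * m ∈ K ⊓ centralizer ({b} : Set G) := by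
    refine mem_inf.mpr ⟨(mem_normalizer_iff''.mp hm x).mp hxK, ?_⟩
    rw [mem_centralizer_singleton_iff]
    calc m⁻¹ * x * m * b = m⁻¹ * (x * (m * b * m⁻¹)) * m := by group
      _ = m⁻¹ * (m * b * m⁻¹ * x) * m := by rw [hxc]
      _ = b * (m⁻¹ * x * m) := by group
  rw [hfpf, mem_bot] at h1
  rw [mem_bot]
  have : x = m * (m⁻¹ * x * m) * m⁻¹ := by group
  rw [this, h1]; group

/-- A three-step group has a non-nilpotent derived subgroup. -/
theorem threeStep_commutator_not_nilpotent {X : Type*} [Group X] [Finite X] {p : ℕ}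
    (h : Cfsg.IsThreeStepGroup p X) : ¬ Group.IsNilpotent (commutator X) := by
  obtain ⟨hN1, A, hA1, -, -, hAp, hn, hne, -, hfpf, hlast⟩ := h
  intro hnil
  have hNn : (Cfsg.pCore p X).Normal := pCore_normal p X
  have hNp : IsPGroup p (Cfsg.pCore p X) := pCore_isPGroup p X
  obtain ⟨N, hN⟩ : ∃ N, N = Cfsg.pCore p X := ⟨_, rfl⟩
  rw [← hN] at hN1 hn hne hfpf hlast hNn hNp
  have hnorm : ∀ x : X, x ∈ normalizer (N : Set X) := by
    intro x; rw [normalizer_eq_top]; trivial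
  obtain ⟨⟨a, ha⟩, ha1'⟩ := Subgroup.ne_bot_iff_exists_ne_one.1 hA1
  have ha1 : a ≠ 1 := fun h0 => ha1' (Subtype.ext h0)
  obtain ⟨x, hx⟩ : ∃ x, x ∉ N ⊔ A := by
    by_contra hcon
    push Not at hcon
    exact hne (eq_top_iff.mpr (fun x _ => hcon x))
  obtain ⟨⟨n₀, hn₀⟩, hn₀1'⟩ := Subgroup.ne_bot_iff_exists_ne_one.1 hN1
  have hn₀1 : n₀ ≠ 1 := fun h0 => hn₀1' (Subtype.ext h0)
  have hyN := hlast x hx a ha ha1
  have hyNA : x * a * x⁻¹ * a⁻¹ ∈ N ⊔ A :=
    (N ⊔ A).mul_mem (hn.conj_mem a (mem_sup_right ha) x) ((N ⊔ A).inv_mem (mem_sup_right ha))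
  have hyC : x * a * x⁻¹ * a⁻¹ ∈ commutator X :=
    Subgroup.commutator_mem_commutator (mem_top x) (mem_top a)
  obtain ⟨y, hy⟩ : ∃ y, y = x * a * x⁻¹ * a⁻¹ := ⟨_, rfl⟩
  rw [← hy] at hyN hyNA hyC
  obtain ⟨n, hnN, b, hbA, hynb⟩ := mem_sup_normal_left.mp hyNA
  have hb1 : b ≠ 1 := by
    rintro rfl
    rw [mul_one] at hynb
    exact hyN (hynb ▸ hnN)
  obtain ⟨m, hmN, hm⟩ := exists_commutator_eq_of_fpf (hnorm b) (hfpf b hbA hb1) hnN
  have hymb : y = m * b * m⁻¹ := by
    rw [hynb, ← hm]; group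
  have hfy : N ⊓ centralizer ({y} : Set X) = ⊥ := by
    rw [hymb]
    exact inf_centralizer_conj_eq_bot (hnorm m) (hfpf b hbA hb1)
  have hn₀C : n₀ ∈ commutator X := by
    obtain ⟨m', -, hm'⟩ := exists_commutator_eq_of_fpf (hnorm a) (hfpf a ha ha1) hn₀
    rw [← hm']
    exact Subgroup.commutator_mem_commutator (mem_top m') (mem_top a)
  have hoy : orderOf y ∣ Nat.card A := by
    have h1 : orderOf y = orderOf b := by
      rw [hymb]
      exact orderOf_injective (MulAut.conj m).toMonoidHom (MulAut.conj m).injective b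
    rw [h1]
    exact orderOf_dvd_card_of_mem hbA
  obtain ⟨k, hk⟩ := hNp ⟨n₀, hn₀⟩
  have hon : orderOf n₀ ∣ p ^ k := by
    apply orderOf_dvd_of_pow_eq_one
    exact congrArg Subtype.val hk
  have hcop : (orderOf n₀).Coprime (orderOf y) :=
    Nat.Coprime.coprime_dvd_left hon (Nat.Coprime.coprime_dvd_right hoy (Nat.Coprime.pow_left k hAp.symm))
  have hcomm := commute_of_mem_nilpotent _ hnil hn₀C hyC hcop
  have : n₀ ∈ N ⊓ centralizer ({y} : Set X) :=
    mem_inf.mpr ⟨hn₀, by rw [mem_centralizer_singleton_iff]; exact hcomm⟩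
  rw [hfy, mem_bot] at this
  exact hn₀1 this

/-- `M = K ⋊ E` with nilpotent kernel `K` and abelian complement `E` acting without fixed points. -/
structure FrobType (M K E : Subgroup G) : Prop where
  K_le : K ≤ M
  E_le : E ≤ M
  norm : M ≤ normalizer (K : Set G)
  K_ne : K ≠ ⊥
  E_ne : E ≠ ⊥
  inf_eq : K ⊓ E = ⊥
  fac : ∀ m ∈ M, ∃ a ∈ K, ∃ b ∈ E, m = a * b
  nil : Group.IsNilpotent K
  comm : ∀ a ∈ E, ∀ b ∈ E, a * b = b * a
  fpf : ∀ e ∈ E, e ≠ 1 → K ⊓ centralizer ({e} : Set G) = ⊥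

namespace FrobType

variable {M K E : Subgroup G}

theorem isComplIn (h : FrobType M K E) : Cfsg.IsComplIn K E M :=
  ⟨h.K_le, h.E_le, h.inf_eq, h.fac⟩

theorem fpf_of_not_mem [Finite G] (h : FrobType M K E) {x : G} (hx : x ∈ M) (hxK : x ∉ K) :
    K ⊓ centralizer ({x} : Set G) = ⊥ := by
  obtain ⟨a, ha, b, hb, rfl⟩ := h.fac x hx
  have hb1 : b ≠ 1 := by
    rintro rfl
    rw [mul_one] at hxK
    exact hxK ha
  obtain ⟨m, hmK, hm⟩ := exists_commutator_eq_of_fpf (h.norm (h.E_le hb)) (h.fpf b hb hb1) ha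
  have : a * b = m * b * m⁻¹ := by rw [← hm]; group
  rw [this]
  exact inf_centralizer_conj_eq_bot (h.norm (h.K_le hmK)) (h.fpf b hb hb1)

theorem centralizer_le [Finite G] (h : FrobType M K E) {k : G} (hk : k ∈ K) (hk1 : k ≠ 1) :
    M ⊓ centralizer ({k} : Set G) ≤ K := by
  intro x hx
  obtain ⟨hxM, hxc⟩ := mem_inf.mp hx
  by_contra hxK
  have h1 := h.fpf_of_not_mem hxM hxK
  have h2 : k ∈ K ⊓ centralizer ({x} : Set G) := by
    refine mem_inf.mpr ⟨hk, ?_⟩
    rw [mem_centralizer_singleton_iff] at hxc ⊢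
    exact hxc.symm
  rw [h1, mem_bot] at h2
  exact hk1 h2

theorem commutator_le (h : FrobType M K E) : ⁅M, M⁆ ≤ K := by
  rw [Subgroup.commutator_le]
  intro m₁ hm₁ m₂ hm₂
  obtain ⟨a₁, ha₁, b₁, hb₁, rfl⟩ := h.fac m₁ hm₁
  obtain ⟨a₂, ha₂, b₂, hb₂, rfl⟩ := h.fac m₂ hm₂
  have h1 : b₁ * a₂ * b₁⁻¹ ∈ K := (mem_normalizer_iff.mp (h.norm (h.E_le hb₁)) _).mp ha₂
  have h2 : b₂ * a₁⁻¹ * b₂⁻¹ ∈ K := (mem_normalizer_iff.mp (h.norm (h.E_le hb₂)) _).mp (K.inv_mem ha₁)
  have h3 : b₁ * b₂ * b₁⁻¹ = b₂ := by rw [h.comm b₁ hb₁ b₂ hb₂]; group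
  have : ⁅a₁ * b₁, a₂ * b₂⁆ = a₁ * (b₁ * a₂ * b₁⁻¹) * (b₂ * a₁⁻¹ * b₂⁻¹) * a₂⁻¹ := by
    rw [commutatorElement_def]
    calc a₁ * b₁ * (a₂ * b₂) * (a₁ * b₁)⁻¹ * (a₂ * b₂)⁻¹
        = a₁ * (b₁ * a₂ * b₁⁻¹) * ((b₁ * b₂ * b₁⁻¹) * a₁⁻¹ * b₂⁻¹) * a₂⁻¹ := by group
      _ = _ := by rw [h3]
  rw [this]
  exact K.mul_mem (K.mul_mem (K.mul_mem ha₁ h1) h2) (K.inv_mem ha₂)

theorem le_commutator [Finite G] (h : FrobType M K E) : K ≤ ⁅M, M⁆ := by
  obtain ⟨⟨e, he⟩, he1'⟩ := Subgroup.ne_bot_iff_exists_ne_one.1 h.E_ne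
  have he1 : e ≠ 1 := fun h0 => he1' (Subtype.ext h0)
  intro n hn
  obtain ⟨m, hmK, hm⟩ := exists_commutator_eq_of_fpf (h.norm (h.E_le he)) (h.fpf e he he1) hn
  rw [← hm]
  exact Subgroup.commutator_mem_commutator (h.K_le hmK) (h.E_le he)

/-- a nilpotent subgroup of `M` meeting the kernel lies in the kernel. -/
theorem nilpotent_le [Finite G] (h : FrobType M K E) {T : Subgroup G} (hT : T ≤ M)
    (hTnil : Group.IsNilpotent T) (hne : T ⊓ K ≠ ⊥) : T ≤ K := by
  have hn : (K.subgroupOf T).Normal := normal_subgroupOf_of_le_normalizer (hT.trans h.norm)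
  have hne' : K.subgroupOf T ≠ ⊥ := by
    intro h0
    apply hne
    rw [subgroupOf_eq_bot, disjoint_iff] at h0
    rw [inf_comm]; exact h0
  obtain ⟨z, hzK, hzc, hz1⟩ := exists_mem_center_of_normal_of_nilpotent (K.subgroupOf T) hne'
  have hz1' : (z : G) ≠ 1 := fun h0 => hz1 (Subtype.ext h0)
  intro t ht
  apply h.centralizer_le (mem_subgroupOf.mp hzK) hz1'
  refine mem_inf.mpr ⟨hT ht, ?_⟩
  rw [mem_centralizer_singleton_iff]
  exact congrArg Subtype.val (mem_center_iff.mp hzc ⟨t, ht⟩)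

theorem not_nilpotent [Finite G] (h : FrobType M K E) : ¬ Group.IsNilpotent M := by
  intro hnil
  have h1 := h.nilpotent_le le_rfl hnil (by rw [inf_eq_right.mpr h.K_le]; exact h.K_ne)
  apply h.E_ne
  rw [← h.inf_eq]
  exact (inf_eq_right.mpr (h.E_le.trans h1)).symm

end FrobType

/-- the dichotomy for non-nilpotent solvable CN-groups (from the proof of the trichotomy). -/
theorem cn_dichotomy {X : Type*} [Group X] [Finite X] [Group.IsSolvable X] (hCN : Cfsg.IsCNGroup X)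
    (hnil : ¬ Group.IsNilpotent X) :
    (∃ (p : ℕ) (_ : p.Prime) (P : Sylow p X), (P : Subgroup X) ≠ ⊥ ∧ (P : Subgroup X).Normal) ∨
    ∃ q : ℕ, q.Prime ∧ Cfsg.pCore q X ≠ ⊥ ∧ centralizer (Cfsg.pCore q X : Set X) ≤ Cfsg.pCore q X ∧
      Cfsg.IsThreeStepGroup q X := by
  by_cases hS : ∃ (p : ℕ) (_ : p.Prime) (P : Sylow p X), (P : Subgroup X) ≠ ⊥ ∧ (P : Subgroup X).Normal
  · exact Or.inl hS
  · right
    push Not at hS
    have hFC : Subgroup.centralizer (Cfsg.fittingSubgroup X : Set X) ≤ Cfsg.fittingSubgroup X :=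
      Cfsg.Agent.S0044.result
    have hF1 : Cfsg.fittingSubgroup X ≠ ⊥ := by
      intro h
      rw [h] at hFC
      apply hnil
      have h1 : ∀ x : X, x = 1 := by
        intro x
        have : x ∈ Subgroup.centralizer (((⊥ : Subgroup X) : Subgroup X) : Set X) := by
          rw [Subgroup.mem_centralizer_iff]
          intro y hy
          rw [SetLike.mem_coe, Subgroup.mem_bot] at hy
          rw [hy, one_mul, mul_one]
        exact Subgroup.mem_bot.1 (hFC this)
      have : Subsingleton X := ⟨fun a b => by rw [h1 a, h1 b]⟩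
      infer_instance
    have hex : ∃ p : Nat.Primes, Cfsg.pCore (p : ℕ) X ≠ ⊥ := by
      by_contra hcon
      push Not at hcon
      apply hF1
      rw [fitting_eq_iSup_pCore]
      simp [hcon]
    obtain ⟨p, hp1⟩ := hex
    have := Fact.mk p.2
    have hother : ∀ q : Nat.Primes, q ≠ p → Cfsg.pCore (q : ℕ) X = ⊥ := by
      intro q hq
      by_contra hq1
      have := Fact.mk q.2
      obtain ⟨P⟩ : Nonempty (Sylow (p : ℕ) X) := inferInstance
      have hne : (p : ℕ) ≠ q := fun h => hq (Subtype.ext h.symm)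
      have h1 := sylow_normal_of_two_cores hCN hne hp1 hq1 P
      refine hS p p.2 P ?_ h1
      intro h
      have h2 := Cfsg.Agent.Lib.Helper14.pCore_le_sylow P
      rw [h, le_bot_iff] at h2
      exact hp1 h2
    have hFeq : Cfsg.fittingSubgroup X = Cfsg.pCore (p : ℕ) X := by
      rw [fitting_eq_iSup_pCore]
      apply le_antisymm
      · apply iSup_le
        intro q
        by_cases hq : q = p
        · rw [hq]
        · rw [hother q hq]; exact bot_le
      · exact le_iSup (fun q : Nat.Primes => Cfsg.pCore (q : ℕ) X) p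
    rw [hFeq] at hFC
    refine ⟨p, p.2, hp1, hFC, isThreeStepGroup_of_cn hCN p hp1 hFC ?_⟩
    by_contra hnd
    have h1 := hS p p.2 ((pCore_isPGroup (p : ℕ) X).toSylow hnd)
      (by rw [IsPGroup.toSylow_coe]; exact hp1)
    apply h1
    rw [IsPGroup.toSylow_coe]
    infer_instance

theorem le_normalizer_map_subtype' {M : Subgroup G} {N : Subgroup ↥M} (hN : N.Normal) :
    M ≤ Subgroup.normalizer ((N.map M.subtype : Subgroup G) : Set G) := by
  have h := (Subgroup.normal_subgroupOf_iff_le_normalizer (Subgroup.map_subtype_le N)).mp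
  apply h
  rw [Subgroup.subgroupOf, Subgroup.comap_map_eq_self_of_injective M.subtype_injective]
  exact hN

/-- ambient form of the structure of a CN-subgroup with a normal Sylow subgroup. -/
theorem frobType_of_normal_sylow [Finite G] (hCN : Cfsg.IsCNGroup G) {M : Subgroup G}
    (hsol : Group.IsSolvable M) (hodd : Odd (Nat.card M)) (hnil : ¬ Group.IsNilpotent M)
    (hS : ∃ (p : ℕ) (_ : p.Prime) (P : Sylow p M), (P : Subgroup M) ≠ ⊥ ∧ (P : Subgroup M).Normal) :
    ∃ E, FrobType M (Cfsg.fittingHallOf M) E := by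
  obtain ⟨p, hp, P, hP1, hPn⟩ := hS
  have := Fact.mk hp
  have hCNM := isCNGroup_subgroup hCN M
  obtain ⟨hF1, hF2, ⟨E, hc, -, hfpf⟩, -⟩ := Cfsg.Agent.S1474.result hCNM hnil p P hP1 hPn
  have hEN : E ≤ Subgroup.normalizer (Cfsg.fittingHall M : Set M) := by
    rw [Subgroup.normalizer_eq_top]; exact le_top
  have hEnil : Group.IsNilpotent E :=
    nilpotent_of_fpf_cn hCNM E (Cfsg.fittingHall M) hEN hF1 inferInstance hfpf
  have hEodd : Odd (Nat.card E) := hodd.of_dvd_nat (Subgroup.card_subgroup_dvd_card E)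
  have hEcyc : IsCyclic E := fpf_odd_nilpotent_isCyclic E _ hEN hF1 hfpf hEnil hEodd
  refine ⟨E.map M.subtype, map_subtype_le _, map_subtype_le _, le_normalizer_map_subtype' inferInstance,
    ?_, ?_, ?_, ?_, ?_, ?_, ?_⟩
  · intro h
    exact hF1 ((map_eq_bot_iff_of_injective _ M.subtype_injective).mp h)
  · intro h
    have hE : E = ⊥ := (map_eq_bot_iff_of_injective _ M.subtype_injective).mp h
    apply hF2
    have h1 := hc.card_mul_card
    rw [hE, card_bot, mul_one] at h1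
    exact Subgroup.eq_top_of_card_eq _ h1
  · unfold Cfsg.fittingHallOf
    rw [← map_inf _ _ _ M.subtype_injective, hc.disjoint.eq_bot, Subgroup.map_bot]
  · intro m hm
    obtain ⟨⟨a, b⟩, hab, -⟩ := (isComplement_iff_existsUnique.mp hc) ⟨m, hm⟩
    exact ⟨a.1.1, ⟨a.1, a.2, rfl⟩, b.1.1, ⟨b.1, b.2, rfl⟩, (congrArg Subtype.val hab).symm⟩
  · exact nilpotent_map _ (Cfsg.Agent.S1474.fittingHall_nilpotent M)
  · rintro _ ⟨a, ha, rfl⟩ _ ⟨b, hb, rfl⟩
    have := mul_comm_of_isCyclic (⟨a, ha⟩ : E) ⟨b, hb⟩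
    exact congrArg (fun z : E => ((z : M) : G)) this
  · rintro _ ⟨e, he, rfl⟩ he1
    have he1' : e ≠ 1 := by
      rintro rfl
      exact he1 rfl
    have h1 := hfpf e he he1'
    rw [eq_bot_iff]
    intro x hx
    obtain ⟨hxK, hxc⟩ := mem_inf.mp hx
    obtain ⟨y, hy, rfl⟩ := hxK
    have h2 : y ∈ Cfsg.fittingHall M ⊓ centralizer ({e} : Set M) := by
      refine mem_inf.mpr ⟨hy, ?_⟩
      rw [mem_centralizer_singleton_iff] at hxc ⊢
      exact Subtype.ext hxc
    rw [h1, mem_bot] at h2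
    rw [h2]; exact one_mem _

theorem isNilpotent_commutator_of_map {H : Subgroup G} (h : Group.IsNilpotent (⁅H, H⁆ : Subgroup G)) :
    Group.IsNilpotent (commutator H) := by
  rw [← map_subtype_commutator] at h
  exact Group.nilpotent_of_mulEquiv ((commutator H).equivMapOfInjective _ H.subtype_injective).symm

/-- a solvable group is not generated by a proper normal subgroup and its derived subgroup. -/
theorem sup_commutator_ne_top {X : Type*} [Group X] [Group.IsSolvable X] (L : Subgroup X) [L.Normal]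
    (hL : L ≠ ⊤) : L ⊔ commutator X ≠ ⊤ := by
  intro h
  have hnt : Nontrivial (X ⧸ L) := by
    by_contra hcon
    rw [not_nontrivial_iff_subsingleton] at hcon
    exact hL (QuotientGroup.subgroup_eq_top_of_subsingleton L hcon)
  have h1 := Group.IsSolvable.commutator_lt_top_of_nontrivial (G := X ⧸ L)
  apply h1.ne
  have h2 := congrArg (Subgroup.map (QuotientGroup.mk' L)) h
  rw [Subgroup.map_sup, QuotientGroup.map_mk'_self, bot_sup_eq,
    Subgroup.map_top_of_surjective _ (QuotientGroup.mk'_surjective L), _root_.commutator_def,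
    Subgroup.map_commutator, Subgroup.map_top_of_surjective _ (QuotientGroup.mk'_surjective L)] at h2
  rw [_root_.commutator_def]
  exact h2

theorem pPrimeCore_eq_bot_of_centralizer_le {X : Type*} [Group X] [Finite X] {q : ℕ}
    (hC : centralizer (Cfsg.pCore q X : Set X) ≤ Cfsg.pCore q X) : Cfsg.pPrimeCore q X = ⊥ := by
  have hKn := pPrimeCore_normal q X
  have hNn := pCore_normal q X
  have hcop := pPrimeCore_coprime q X
  have hdisj : Disjoint (Cfsg.pPrimeCore q X) (Cfsg.pCore q X) := by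
    rw [disjoint_iff, eq_bot_iff]
    intro x hx
    obtain ⟨hx1, hx2⟩ := mem_inf.mp hx
    obtain ⟨k, hk⟩ := pCore_isPGroup q X ⟨x, hx2⟩
    have h1 : orderOf x ∣ q ^ k := orderOf_dvd_of_pow_eq_one (congrArg Subtype.val hk)
    have h2 : orderOf x ∣ Nat.card (Cfsg.pPrimeCore q X) := orderOf_dvd_card_of_mem hx1
    have h3 : orderOf x = 1 := Nat.eq_one_of_dvd_coprimes (Nat.Coprime.pow_right k hcop) h2 h1
    exact mem_bot.mpr (orderOf_eq_one_iff.mp h3)
  have h1 : Cfsg.pPrimeCore q X ≤ centralizer (Cfsg.pCore q X : Set X) := by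
    intro x hx
    rw [mem_centralizer_iff]
    intro y hy
    exact (Subgroup.commute_of_normal_of_disjoint _ _ hKn hNn hdisj x y hx hy).eq.symm
  exact le_bot_iff.mp (hdisj.eq_bot ▸ le_inf le_rfl (h1.trans hC))

/-- No subgroup of a minimal simple CN-group of odd order is a three-step group. -/
theorem not_isThreeStepGroup [Finite G] (hG : Cfsg.IsMinSimpleOddOrder G) (hCN : Cfsg.IsCNGroup G)
    (H : Subgroup G) (p : ℕ) : ¬ Cfsg.IsThreeStepGroup p H := by
  intro hts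
  have hnotnil := threeStep_commutator_not_nilpotent hts
  have hsimple := hG.2.1
  have hHtop : H ≠ ⊤ := by
    rintro rfl
    obtain ⟨hN1, A, -, -, -, -, -, hne, -⟩ := hts
    have hn : ((Cfsg.pCore p (⊤ : Subgroup G)).map (⊤ : Subgroup G).subtype).Normal :=
      normalizer_eq_top_iff.mp (top_le_iff.mp (le_normalizer_map_subtype' (pCore_normal _ _)))
    rcases hn.eq_bot_or_eq_top with h | h
    · exact hN1 ((map_eq_bot_iff_of_injective _ (Subgroup.subtype_injective _)).mp h)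
    · apply hne
      have h2 : Cfsg.pCore p (⊤ : Subgroup G) = ⊤ := by
        rw [eq_top_iff]
        intro x _
        have hx : (x : G) ∈ (Cfsg.pCore p (⊤ : Subgroup G)).map (⊤ : Subgroup G).subtype := by
          rw [h]; trivial
        obtain ⟨y, hy, hyx⟩ := hx
        have : y = x := Subtype.ext hyx
        rwa [← this]
      rw [h2, top_sup_eq]
  obtain ⟨M, hM, hHM⟩ := (eq_top_or_exists_le_coatom H).resolve_left hHtop
  have hMsol := solvable_of_ne_top hG hM.1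
  have hModd : Odd (Nat.card M) := hG.1.of_dvd_nat (card_subgroup_dvd_card M)
  have hMM : ¬ Group.IsNilpotent (⁅M, M⁆ : Subgroup G) := fun h =>
    hnotnil (isNilpotent_commutator_of_map (nilpotent_of_le (commutator_mono hHM hHM) h))
  have hMnil : ¬ Group.IsNilpotent M := fun h =>
    hMM (nilpotent_of_le (commutator_le_of_le_normalizer le_normalizer) h)
  rcases cn_dichotomy (isCNGroup_subgroup hCN M) hMnil with hS | ⟨q, hq, hq1, hqC, hq3⟩
  · obtain ⟨E, hE⟩ := frobType_of_normal_sylow hCN hMsol hModd hMnil hS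
    exact hMM (nilpotent_of_le hE.commutator_le hE.nil)
  have := Fact.mk hq
  have hq2 : q ≠ 2 := by
    rintro rfl
    apply hq1
    obtain ⟨n, hn⟩ := IsPGroup.iff_card.mp (pCore_isPGroup 2 M)
    have hodd' : Odd (Nat.card (Cfsg.pCore 2 M)) := hModd.of_dvd_nat (card_subgroup_dvd_card _)
    rw [hn] at hodd'
    have hn0 : n = 0 := by
      by_contra h0
      exact (Nat.not_even_iff_odd.mpr hodd') ((Nat.even_pow.mpr ⟨even_two, h0⟩))
    rw [hn0, pow_zero] at hn
    exact Subgroup.card_eq_one.mp hn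
  have hO := pPrimeCore_eq_bot_of_centralizer_le hqC
  obtain ⟨T⟩ : Nonempty (Sylow q M) := inferInstance
  have hZn : (zL (T : Subgroup M)).Normal := puig_center_normal hModd hq2 hO T
  obtain ⟨P₁, hP₁⟩ : ∃ P₁, P₁ = (T : Subgroup M).map M.subtype := ⟨_, rfl⟩
  have hP₁S : IsSylowIn q P₁ M := hP₁ ▸ isSylowIn_of_sylow T
  have hMN : M ≤ normalizer (zL P₁ : Set G) := by
    rw [hP₁, ← map_zL]
    exact le_normalizer_map_subtype' hZn
  have hP₁ne : P₁ ≠ ⊥ := by
    intro h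
    rw [hP₁] at h
    have h1 := (map_eq_bot_iff_of_injective _ M.subtype_injective).mp h
    have h2 := Cfsg.Agent.Lib.Helper14.pCore_le_sylow T
    rw [h1, le_bot_iff] at h2
    exact hq1 h2
  have hZne : zL P₁ ≠ ⊥ := zL_ne_bot hP₁S.isPGroup hP₁ne
  have hZtop : zL P₁ ≠ ⊤ := by
    intro h
    apply hM.1
    rw [eq_top_iff, ← h]
    exact (zL_le P₁).trans hP₁S.le
  have hNM : normalizer (zL P₁ : Set G) = M := by
    by_contra hne
    exact normalizer_ne_top hG hZne hZtop (hM.2 _ (lt_of_le_of_ne hMN (Ne.symm hne)))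
  obtain ⟨S, hS⟩ := hP₁S.isPGroup.exists_le_sylow
  have hP₁eq : P₁ = (S : Subgroup G) := by
    by_contra hne
    obtain ⟨t, htS, htN, htP⟩ := exists_mem_normalizer_not_mem S.2 (lt_of_le_of_ne hS hne)
    have htM : t ∈ M := hNM ▸ normalizer_le_normalizer_zL P₁ htN
    have h1 : P₁ ⊔ zpowers t ≤ (S : Subgroup G) := sup_le hS (by rwa [zpowers_le])
    have h2 : P₁ ⊔ zpowers t ≤ M := sup_le hP₁S.le (by rwa [zpowers_le])
    have h3 := hP₁S.eq_of_le h2 (S.2.to_le h1) le_sup_left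
    exact htP (h3 ▸ mem_sup_right (mem_zpowers t))
  have hPc : P₁ ≤ ⁅M, M⁆ := by
    have := sylow_le_commutator_normalizer_zL hG S
    rwa [← hP₁eq, hNM] at this
  have hTc : (T : Subgroup M) ≤ commutator M := by
    intro t ht
    have h1 : (t : G) ∈ ⁅M, M⁆ := hPc (hP₁ ▸ ⟨t, ht, rfl⟩)
    rw [← map_subtype_commutator] at h1
    obtain ⟨y, hy, hyt⟩ := h1
    have : y = t := Subtype.ext hyt
    rwa [← this]
  obtain ⟨-, A, -, -, -, -, hLn, hLne, ⟨n, hidx⟩, -, -⟩ := hq3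
  apply sup_commutator_ne_top _ hLne
  rw [← index_eq_one]
  have h1 : (Cfsg.pCore q M ⊔ A ⊔ commutator M).index ∣ q ^ n := hidx ▸ index_dvd_of_le le_sup_left
  have h2 : (Cfsg.pCore q M ⊔ A ⊔ commutator M).index ∣ (T : Subgroup M).index :=
    index_dvd_of_le (hTc.trans le_sup_right)
  have h3 : ((T : Subgroup M).index).Coprime (q ^ n) :=
    Nat.Coprime.pow_right n ((Nat.Prime.coprime_iff_not_dvd hq).mpr T.not_dvd_index).symm
  exact Nat.eq_one_of_dvd_coprimes h3 h2 h1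

end Cfsg.Agent.Lib.Helper30
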