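import Cfsg.Agent.Lib.Helper30.CNLocal2

/-!
Conjugacy classes of maximal nilpotent subgroups in a minimal simple CN-group of odd order.
-/

set_option autoImplicit false

namespace Cfsg.Agent.Lib.Helper30

open Subgroup Cfsg.Agent.Lib.Helper31 Cfsg.Agent.Lib.Helper1
open scoped Pointwise commutatorElement

variable {G : Type*} [Group G]

theorem coatom_normalizer_eq [Finite G] (hG : Cfsg.IsMinSimpleOddOrder G) (hCN : Cfsg.IsCNGroup G)
    {M : Subgroup G} (hM : IsCoatom M) : normalizer (Cfsg.fittingHallOf M : Set G) = M := by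
  obtain ⟨h, E, hE⟩ := coatom_structure hG hCN hM
  by_contra hcon
  exact normalizer_ne_top hG hE.K_ne (ne_top_of_nilpotent hG hE.nil)
    (hM.2 _ (lt_of_le_of_ne hE.norm (Ne.symm hcon)))

theorem MaxNil.eq_of_normalizer_eq [Finite G] (hG : Cfsg.IsMinSimpleOddOrder G)
    (hCN : Cfsg.IsCNGroup G) {L L' : Subgroup G} (h : MaxNil L) (h' : MaxNil L')
    (heq : normalizer (L : Set G) = normalizer (L' : Set G)) : L' = L := by
  obtain ⟨-, E, hE⟩ := h.frobType hG hCN
  obtain ⟨-, E', hE'⟩ := h'.frobType hG hCN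
  apply h.2 _ h'.1
  rw [← heq] at hE'
  exact hE.le_commutator.trans hE'.commutator_le

theorem exists_maxNil_mem [Finite G] (hCN : Cfsg.IsCNGroup G) (x : G) : ∃ L, MaxNil L ∧ x ∈ L := by
  by_cases hx : x = 1
  · obtain ⟨L, -, h1, h2⟩ := exists_max_nilpotent (⊥ : Subgroup G) inferInstance
    exact ⟨L, ⟨h1, h2⟩, hx ▸ L.one_mem⟩
  · obtain ⟨L, h0, h1, h2⟩ := exists_max_nilpotent _ (hCN x hx)
    exact ⟨L, ⟨h1, h2⟩, h0 (mem_centralizer_singleton_iff.mpr rfl)⟩

/-- if `p ^ k` divides the order of `G` it divides the order of some maximal nilpotent subgroup. -/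
theorem exists_maxNil_pow_dvd [Finite G] {p k : ℕ} (hp : p.Prime) (hk : p ^ k ∣ Nat.card G) :
    ∃ L : Subgroup G, MaxNil L ∧ p ^ k ∣ Nat.card L := by
  have := Fact.mk hp
  obtain ⟨P⟩ : Nonempty (Sylow p G) := inferInstance
  obtain ⟨L, h0, h1, h2⟩ := exists_max_nilpotent (P : Subgroup G) P.2.isNilpotent
  exact ⟨L, ⟨h1, h2⟩, (P.pow_dvd_card_of_pow_dvd_card hk).trans (card_dvd_of_le h0)⟩

end Cfsg.Agent.Lib.Helper30
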