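import Cfsg.Agent.Lib.Helper30.PF8d
import Cfsg.Agent.Lib.Helper40.BG16c
import Cfsg.Agent.Lib.Helper29.T16KEB
import Cfsg.Agent.S1351
import Cfsg.Agent.S1352
import Cfsg.Agent.S1355
import Cfsg.Agent.S1362
import Cfsg.Agent.S1364
import Cfsg.Agent.S1378
import Cfsg.Agent.S1382
import Cfsg.Agent.S1415
import Cfsg.Agent.S1416
import Cfsg.Agent.S1417
import Cfsg.Agent.S1418
import Cfsg.Agent.S1430
import Cfsg.Agent.S1432
import Cfsg.Agent.S1436
import Cfsg.Agent.S1437

/-!
The texts used in `PF8a`-`PF8d`, from the proved statements.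
-/

set_option autoImplicit false

namespace Cfsg.Agent.Lib.Helper30.PF8

universe u

theorem tx {G : Type u} [Group G] [Finite G] (hG : Cfsg.IsMinSimpleOddOrder G) : Tx G where
  hG := hG
  T :=
    { h16 := fun M hM p _ A hA => (Cfsg.Agent.S1416.result hG M hM p A hA).1
      h17 := fun M hM p _ hp A hA => Cfsg.Agent.S1417.result hG M hM p hp A hA
      h18 := fun M hM E hE p _ hp A hA => Cfsg.Agent.S1418.result hG M hM E hE p hp A hA
      h78 := (Cfsg.Agent.S1378.result hG).2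
      h32 := fun M hM x hx hx1 x' hx' hx'1 hσ =>
        Cfsg.Agent.S1432.result hG M hM x hx hx1 x' hx' hx'1 hσ }
  t36 := fun M hM x hx hx1 hxM N hN hxN => (Cfsg.Agent.S1436.result hG M hM x hx hx1 hxM N hN hxN).1

theorem ty {G : Type u} [Group G] [Finite G] (hG : Cfsg.IsMinSimpleOddOrder G) : Ty G where
  X := tx hG
  dec := fun M hM => by
    obtain ⟨⟨K, hK⟩, hc⟩ := Cfsg.Agent.S1351.result hG M hM
    obtain ⟨⟨U, hU⟩, -⟩ := Cfsg.Agent.S1352.result hG M hM K (hc K hK) hK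
    exact ⟨K, U, hU⟩
  nrm := fun M K U hM hd => (Cfsg.Agent.S1352.result hG M hM K hd.cyclic hd.hall).2 U hd
  comm_le := fun M K U hM hd => Cfsg.Agent.Lib.Helper40.BG16.commutator_le_U_sup hG
    (fun M hM E hE => Cfsg.Agent.S1415.result hG M hM E hE)
    (fun M hM K hK hK1 => Cfsg.Agent.S1430.result hG M hM K hK hK1) hM hd
  t62 := Cfsg.Agent.S1362.result hG
  mf_ne := fun M hM => (Cfsg.Agent.S1355.result hG M hM).1
  t82 := Cfsg.Agent.S1382.result hG
  t37 := fun M hM K U hKU hne => by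
    obtain ⟨h1, h2, h3, -⟩ := Cfsg.Agent.S1437.result hG M hM K U hKU hne
    exact ⟨h1, h2, h3⟩
  type1 := fun M K U hM hd hI => Cfsg.Agent.Lib.Helper29.T16.K_eq_bot_of_typeF
    (fun hG => Cfsg.Agent.S1355.result hG) (fun hG => Cfsg.Agent.S1364.result hG) hG hM hd hI.1

end Cfsg.Agent.Lib.Helper30.PF8
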