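import Cfsg.Agent.Lib.Helper24.BG14F
import Cfsg.Agent.Lib.Helper2.BG16B
import Cfsg.Prelude.Def_OddOrderChar

/-!
Peterfalvi (8.x): the Dade hypothesis for invariant subsets of a maximal subgroup, in the language of
`M_σ` (Bender-Glauberman Theorem II).  General part.
-/

set_option autoImplicit false
set_option linter.unusedVariables false
set_option linter.unusedSectionVars false

namespace Cfsg.Agent.Lib.Helper30.PF8

open Subgroup Cfsg.Agent.Lib.Helper30 Cfsg.Agent.Lib.Helper24.BG14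

universe u

variable {G : Type u} [Group G]

/-- the set normaliser of a nontrivial invariant subset of a maximal subgroup. -/
theorem normalizer_set_eq (hG : Cfsg.IsMinSimpleOddOrder G) {M : Subgroup G} (hM : IsCoatom M)
    {X : Set G} (hXM : X ⊆ (M : Set G)) (hinv : ∀ m ∈ M, ∀ x ∈ X, m * x * m⁻¹ ∈ X)
    (hne : ∃ x ∈ X, x ≠ 1) : Subgroup.normalizer X = M := by
  have hle : M ≤ Subgroup.normalizer X := by
    intro m hm
    rw [Subgroup.mem_set_normalizer_iff]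
    intro n
    constructor
    · exact hinv m hm n
    · intro h
      have := hinv m⁻¹ (M.inv_mem hm) _ h
      have e : m⁻¹ * (m * n * m⁻¹) * m⁻¹⁻¹ = n := by group
      rwa [e] at this
  rcases hM.le_iff.mp hle with h | h
  · exfalso
    have hsimple : IsSimpleGroup G := hG.2.1
    have hsub : Subgroup.normalClosure X ≤ M := by
      rw [Subgroup.normalClosure, Subgroup.closure_le]
      intro y hy
      obtain ⟨a, ha, hc⟩ := Group.mem_conjugatesOfSet_iff.mp hy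
      obtain ⟨c, hc⟩ := isConj_iff.mp hc
      have hcN : c ∈ Subgroup.normalizer X := by rw [h]; exact Subgroup.mem_top c
      rw [← hc]
      exact hXM ((Subgroup.mem_set_normalizer_iff.mp hcN a).mp ha)
    rcases (Subgroup.normalClosure_normal (s := X)).eq_bot_or_eq_top with h1 | h1
    · obtain ⟨x, hx, hx1⟩ := hne
      have : x ∈ Subgroup.normalClosure X := Subgroup.subset_normalClosure hx
      rw [h1, Subgroup.mem_bot] at this
      exact hx1 this
    · rw [h1] at hsub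
      exact hM.1 (top_le_iff.mp hsub)
  · exact h

theorem centralizer_le_of_pow (a : G) (k : ℕ) :
    centralizer ({a} : Set G) ≤ centralizer ({a ^ k} : Set G) := by
  intro c hc
  rw [mem_centralizer_singleton_iff] at hc ⊢
  exact ((Commute.pow_right (show Commute c a from hc) k)).eq

theorem conj_pow' (g a : G) (k : ℕ) : (g * a * g⁻¹) ^ k = g * a ^ k * g⁻¹ := conj_pow

theorem orderOf_conj' (g a : G) : orderOf (g * a * g⁻¹) = orderOf a := by
  have := orderOf_injective (MulAut.conj g).toMonoidHom (MulAut.conj g).injective a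
  simpa using this

section sigma

variable [Finite G]

/-- the `σ(M)'`-part of an element of `M`. -/
theorem pow_card_facts (hG : Cfsg.IsMinSimpleOddOrder G) {M : Subgroup G} (hM : IsCoatom M) {a : G}
    (haM : a ∈ M) :
    (∀ p : ℕ, p.Prime → p ∣ orderOf (a ^ Nat.card (Cfsg.sigmaCore M)) → p ∉ Cfsg.sigma M) ∧
      (a ^ Nat.card (Cfsg.sigmaCore M) = 1 → a ∈ Cfsg.sigmaCore M) := by
  have hS := Cfsg.Agent.Lib.Helper28.BG12.sigmaCore_hall hG hM
  constructor
  · intro p hp hd hσ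
    apply hS.2.2 p hp hσ
    apply hd.trans
    apply orderOf_dvd_of_pow_eq_one
    rw [← pow_mul, ← card_eq_card_mul_relIndex hS.1]
    have : (⟨a, haM⟩ : M) ^ Nat.card M = 1 := pow_card_eq_one'
    exact congrArg Subtype.val this
  · intro h
    apply mem_sigmaCore_of_order hG hM haM
    intro p hp hd
    exact hS.2.1 p hp (hd.trans (orderOf_dvd_of_pow_eq_one h))

/-- the `σ(M)`-part of an element of `M`. -/
theorem pow_relIndex_facts (hG : Cfsg.IsMinSimpleOddOrder G) {M : Subgroup G} (hM : IsCoatom M)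
    {a : G} (haM : a ∈ M) :
    a ^ (Cfsg.sigmaCore M).relIndex M ∈ Cfsg.sigmaCore M ∧
      (a ^ (Cfsg.sigmaCore M).relIndex M = 1 →
        ∀ p : ℕ, p.Prime → p ∣ orderOf a → p ∉ Cfsg.sigma M) := by
  have hS := Cfsg.Agent.Lib.Helper28.BG12.sigmaCore_hall hG hM
  constructor
  · apply mem_sigmaCore_of_order hG hM (M.pow_mem haM _)
    intro p hp hd
    apply hS.2.1 p hp
    apply hd.trans
    apply orderOf_dvd_of_pow_eq_one
    rw [← pow_mul, mul_comm, ← card_eq_card_mul_relIndex hS.1]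
    have : (⟨a, haM⟩ : M) ^ Nat.card M = 1 := pow_card_eq_one'
    exact congrArg Subtype.val this
  · intro h p hp hd hσ
    exact hS.2.2 p hp hσ (hd.trans (orderOf_dvd_of_pow_eq_one h))

end sigma

/-- the B-G texts used. -/
structure Tx (G : Type u) [Group G] : Prop where
  hG : Cfsg.IsMinSimpleOddOrder G
  T : Texts G
  t36 : ∀ (M : Subgroup G) (hM : IsCoatom M) (x : G) (hx : x ∈ Cfsg.sigmaCore M) (hx1 : x ≠ 1)
    (hxM : ¬ Subgroup.centralizer ({x} : Set G) ≤ M) (N : Subgroup G) (hN : IsCoatom N)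
    (hxN : Subgroup.centralizer ({x} : Set G) ≤ N),
    (∃ p ∈ Cfsg.sigma N, p ∣ Nat.card M) → Cfsg.kappa M = ∅ ∧ Cfsg.tau2 M = ∅

section dade

variable [Finite G]

theorem fusion_sigma (X : Tx G) {M : Subgroup G} (hM : IsCoatom M) {a : G}
    (ha : a ∈ Cfsg.sigmaCore M) (ha1 : a ≠ 1) {g : G} (hg : g * a * g⁻¹ ∈ M) :
    ∃ m ∈ M, m * a * m⁻¹ = g * a * g⁻¹ := by
  obtain ⟨-, R, -, hR, huniq⟩ :=
    S1374_of X.hG X.T.h16 X.T.h17 X.T.h18 X.T.h78 X.T.h32 M hM a ha ha1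
  have h1 : a ∈ cj g⁻¹ M := by
    rw [mem_cj]
    simpa using hg
  obtain ⟨r, ⟨hr, hrM⟩, -⟩ := huniq g⁻¹ h1
  have hrM' : cj r M = cj g⁻¹ M := hrM
  have hrC : r ∈ centralizer ({a} : Set G) := hR.2.1 hr
  have h2 : cj (g * r) M = M := by
    rw [cj_mul, hrM', cj_cj_inv]
  have h3 : g * r ∈ M := by
    have := mem_normalizer_of_cj_eq h2
    rwa [normalizer_coatom X.hG hM (ne_bot_of_mem (Cfsg.Agent.Lib.Helper2.BG16.sigmaCore_le M ha) ha1)]
      at this
  refine ⟨g * r, h3, ?_⟩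
  rw [mem_centralizer_singleton_iff] at hrC
  calc g * r * a * (g * r)⁻¹ = g * (r * a) * r⁻¹ * g⁻¹ := by group
    _ = g * (a * r) * r⁻¹ * g⁻¹ := by rw [hrC]
    _ = g * a * g⁻¹ := by group

theorem no_sigma'_of_empty (X : Tx G) {M : Subgroup G} (hM : IsCoatom M)
    (hκ : Cfsg.kappa M = ∅) (hτ : Cfsg.tau2 M = ∅) {x x' : G} (hx : x ∈ Cfsg.sigmaCore M)
    (hx1 : x ≠ 1) (hx' : x' ∈ M ⊓ centralizer ({x} : Set G)) (hx'1 : x' ≠ 1)
    (hσ : ∀ p : ℕ, p.Prime → p ∣ orderOf x' → p ∉ Cfsg.sigma M) : False := by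
  have ho : orderOf x' ≠ 1 := fun h => hx'1 (orderOf_eq_one_iff.mp h)
  obtain ⟨p, hp, hpd⟩ := Nat.exists_prime_and_dvd ho
  rcases X.T.h32 M hM x hx hx1 x' hx' hx'1 hσ with ⟨h, -⟩ | ⟨h, -⟩
  · have := h p hp hpd
    rw [hκ] at this
    exact this
  · have := h p hp hpd
    rw [hτ] at this
    exact this

theorem coprime_support (X : Tx G) {M N : Subgroup G} (hM : IsCoatom M) {a : G}
    (ha : a ∈ Cfsg.sigmaCore M) (ha1 : a ≠ 1) (hc : Ctx M N a) {b y : G} (hbM : b ∈ M)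
    (hb1 : b ≠ 1) (hy : y ∈ Cfsg.sigmaCore M) (hy1 : y ≠ 1) (hby : b * y = y * b) :
    (Nat.card ↥(Cfsg.sigmaCore N ⊓ centralizer ({a} : Set G))).Coprime
      (Nat.card ↥(M ⊓ centralizer ({b} : Set G))) := by
  apply Nat.coprime_of_dvd
  intro q hq h1 h2
  have hqN : q ∈ Cfsg.sigma N :=
    (Cfsg.Agent.Lib.Helper28.BG12.sigmaCore_hall X.hG hc.coatom).2.1 q hq
      (h1.trans (card_dvd_of_le inf_le_left))
  have hqM : q ∣ Nat.card M := h2.trans (card_dvd_of_le inf_le_left)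
  obtain ⟨hκ, hτ⟩ := X.t36 M hM a ha ha1 hc.not_le N hc.coatom hc.cent_le ⟨q, hqN, hqM⟩
  have hqσ : q ∉ Cfsg.sigma M :=
    fun h => not_mem_sigma_of_nconj X.T.h78 hM hc.coatom hc.nconj h hqN
  have : Fact q.Prime := ⟨hq⟩
  obtain ⟨z, hz⟩ := exists_prime_orderOf_dvd_card' q h2
  have hzo : orderOf (z : G) = q := by rw [Subgroup.orderOf_coe]; exact hz
  have hz1 : (z : G) ≠ 1 := by
    intro h
    rw [h, orderOf_one] at hzo
    exact hq.one_lt.ne hzo
  by_cases hb' : b ^ (Cfsg.sigmaCore M).relIndex M = 1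
  · exact no_sigma'_of_empty X hM hκ hτ hy hy1 ⟨hbM, mem_centralizer_singleton_iff.mpr hby⟩ hb1
      ((pow_relIndex_facts X.hG hM hbM).2 hb')
  · refine no_sigma'_of_empty X hM hκ hτ (pow_relIndex_facts X.hG hM hbM).1 hb'
      (x' := (z : G)) ⟨z.2.1, centralizer_le_of_pow b _ z.2.2⟩ hz1 ?_
    intro p hp hpd
    rw [hzo] at hpd
    rwa [(Nat.prime_dvd_prime_iff_eq hp hq).mp hpd]

theorem support_cases (X : Tx G) {M : Subgroup G} (hM : IsCoatom M) {a : G} (ha1 : a ≠ 1)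
    (hcent : a ∉ Cfsg.sigmaCore M → centralizer ({a} : Set G) ≤ M) :
    (centralizer ({a} : Set G) ≤ M ∧ Cfsg.supportR M a = ⊥) ∨
      (a ∈ Cfsg.sigmaCore M ∧ ∃ N, Ctx M N a ∧
        Cfsg.supportR M a = Cfsg.sigmaCore N ⊓ centralizer ({a} : Set G)) := by
  by_cases hC : centralizer ({a} : Set G) ≤ M
  · exact Or.inl ⟨hC, supportR_of_cent_le hC⟩
  · have ha : a ∈ Cfsg.sigmaCore M := by
      by_contra h
      exact hC (hcent h)
    obtain ⟨N, hc⟩ := exists_ctx X.hG X.T.h16 X.T.h17 X.T.h18 X.T.h78 X.T.h32 hM ha ha1 hC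
    exact Or.inr ⟨ha, N, hc, supportR_of_ctx X.hG X.T.h17 hc⟩

/-- **The Dade hypothesis** for an `M`-invariant set of elements of `M̂_σ`. -/
theorem dade_of (X : Tx G) {M : Subgroup G} (hM : IsCoatom M) {A : Set G} (h1 : (1 : G) ∉ A)
    (hAM : A ⊆ (M : Set G)) (hinv : ∀ m ∈ M, ∀ a ∈ A, m * a * m⁻¹ ∈ A)
    (hhat : ∀ a ∈ A, ∃ y ∈ Cfsg.sigmaCore M, y ≠ 1 ∧ a * y = y * a)
    (hcent : ∀ a ∈ A, a ∉ Cfsg.sigmaCore M → centralizer ({a} : Set G) ≤ M)
    (hfus : ∀ a ∈ A, a ∉ Cfsg.sigmaCore M → ∀ g : G, g * a * g⁻¹ ∈ A →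
      ∃ m ∈ M, m * a * m⁻¹ = g * a * g⁻¹) :
    Cfsg.DadeHypothesis A M (Cfsg.supportR M) := by
  have hne : ∀ a ∈ A, a ≠ 1 := fun a ha h => h1 (h ▸ ha)
  have hcases := fun a (ha : a ∈ A) => support_cases X hM (hne a ha) (hcent a ha)
  refine ⟨h1, hAM, hinv, ?_, ?_, ?_, ?_, ?_, ?_⟩
  · intro a ha g hg
    by_cases hs : a ∈ Cfsg.sigmaCore M
    · exact fusion_sigma X hM hs (hne a ha) (hAM hg)
    · exact hfus a ha hs g hg
  · intro a ha
    rcases hcases a ha with ⟨-, h⟩ | ⟨-, N, -, h⟩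
    · rw [h]; exact bot_le
    · rw [h]; exact inf_le_right
  · intro a ha c hc u hu
    rcases hcases a ha with ⟨-, h⟩ | ⟨-, N, hctx, h⟩
    · rw [h, mem_bot] at hu ⊢
      rw [hu]; group
    · rw [h] at hu ⊢
      exact (mem_normalizer_iff.mp (hctx.le_normalizer hc) u).mp hu
  · intro a ha
    rcases hcases a ha with ⟨-, h⟩ | ⟨hs, N, hctx, h⟩
    · rw [h]; exact bot_inf_eq _
    · rw [h, inf_comm]
      exact (hctx.isComplIn (hAM ha)).2.2.1
  · intro a ha
    rcases hcases a ha with ⟨hC, h⟩ | ⟨hs, N, hctx, h⟩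
    · rw [h, bot_sup_eq]; exact inf_eq_right.mpr hC
    · rw [h]
      apply le_antisymm (sup_le inf_le_right inf_le_right)
      intro c hc
      obtain ⟨e, he, s, hs', rfl⟩ := (hctx.isComplIn (hAM ha)).2.2.2 c hc
      exact mul_mem (mem_sup_right he) (mem_sup_left hs')
  · intro a ha b hb
    rcases hcases a ha with ⟨-, h⟩ | ⟨hs, N, hctx, h⟩
    · rw [h, Subgroup.card_bot]; exact Nat.coprime_one_left _
    · rw [h]
      obtain ⟨y, hy, hy1, hby⟩ := hhat b hb
      exact coprime_support X hM hs (hne a ha) hctx (hAM hb) (hne b hb) hy hy1 hby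

/-- the Dade hypothesis passes to invariant subsets. -/
theorem dade_mono {A B : Set G} {M : Subgroup G} {H : G → Subgroup G}
    (h : Cfsg.DadeHypothesis A M H) (hBA : B ⊆ A) (hinv : ∀ m ∈ M, ∀ a ∈ B, m * a * m⁻¹ ∈ B) :
    Cfsg.DadeHypothesis B M H :=
  ⟨fun h1 => h.one_not_mem (hBA h1), hBA.trans h.subset, hinv,
    fun a ha g hg => h.fusion a (hBA ha) g (hBA hg), fun a ha => h.le_centralizer a (hBA ha),
    fun a ha => h.conj_mem_H a (hBA ha), fun a ha => h.inf_eq_bot a (hBA ha),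
    fun a ha => h.sup_eq a (hBA ha), fun a ha b hb => h.coprime a (hBA ha) b (hBA hb)⟩

end dade

end Cfsg.Agent.Lib.Helper30.PF8
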