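import Cfsg.Agent.Lib.Helper30.PF8a
import Cfsg.Agent.Lib.Helper2.BG16C
import Cfsg.Agent.Lib.Helper40.BG16d

/-!
Peterfalvi (8.x): consequences of type-P data `(W₁, U, W₂)` of a maximal subgroup: the set of
`M`-conjugates of `W₁W₂ - (W₁ ∪ W₂)`.
-/

set_option autoImplicit false
set_option linter.unusedVariables false
set_option linter.unusedSectionVars false

namespace Cfsg.Agent.Lib.Helper30.PF8

open Subgroup Cfsg.Agent.Lib.Helper30 Cfsg.Agent.Lib.Helper24.BG14 Cfsg.Agent.Lib.Helper2.BG16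
  Cfsg.Agent.Lib.Helper28.BG12

universe u

variable {G : Type u} [Group G] [Finite G] {M W₁ Ut W₂ : Subgroup G}

theorem comm_le_self (M : Subgroup G) : ⁅M, M⁆ ≤ M := by
  rw [commutator_le]
  intro x hx y hy
  exact M.mul_mem (M.mul_mem (M.mul_mem hx hy) (M.inv_mem hx)) (M.inv_mem hy)

theorem le_normalizer_comm (M : Subgroup G) : M ≤ normalizer ((⁅M, M⁆ : Subgroup G) : Set G) := by
  intro m hm
  apply mem_normalizer_of_cj_le'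
  have : cj m ⁅M, M⁆ = ⁅cj m M, cj m M⁆ := Subgroup.map_commutator _ _ _
  rw [this, cj_eq_of_mem hm]

theorem tp_W₁_le (hP : Cfsg.IsTypePWith M W₁ Ut W₂) : W₁ ≤ M := hP.W₁_compl.2.1

theorem tp_W₂_le_MF (hP : Cfsg.IsTypePWith M W₁ Ut W₂) : W₂ ≤ Cfsg.fittingHallOf M :=
  hP.W₂_le.trans inf_le_left

theorem tp_W_le (hP : Cfsg.IsTypePWith M W₁ Ut W₂) : W₁ ⊔ W₂ ≤ M :=
  sup_le (tp_W₁_le hP) ((tp_W₂_le_MF hP).trans (map_subtype_le _))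

theorem tp_comm (hP : Cfsg.IsTypePWith M W₁ Ut W₂) {a b : G} (ha : a ∈ W₁ ⊔ W₂)
    (hb : b ∈ W₁ ⊔ W₂) : a * b = b * a :=
  congrArg Subtype.val (hP.selfNormalizing.2.2.2.2.1.isMulCommutative.is_comm.comm
    (⟨a, ha⟩ : ↥(W₁ ⊔ W₂)) ⟨b, hb⟩)

theorem tp_mem_W₂ (hP : Cfsg.IsTypePWith M W₁ Ut W₂) {w : G} (hw : w ∈ W₁ ⊔ W₂)
    (hw' : w ∈ ⁅M, M⁆) : w ∈ W₂ := by
  obtain ⟨x, hx, hx1⟩ := exists_ne_one_of_ne_bot hP.W₁_ne
  rw [← hP.W₂_centralizer x hx hx1]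
  exact ⟨hw', mem_centralizer_singleton_iff.mpr (tp_comm hP hw (mem_sup_left hx))⟩

theorem tp_coprime (hP : Cfsg.IsTypePWith M W₁ Ut W₂) :
    (Nat.card ↥⁅M, M⁆).Coprime (Nat.card W₁) := by
  rw [card_compl hP.W₁_compl]
  exact hP.W₁_hall.symm

/-- an element of `M` whose order divides `|M'|` lies in `M'`. -/
theorem tp_mem_commutator (hP : Cfsg.IsTypePWith M W₁ Ut W₂) {w : G} (hwM : w ∈ M)
    (hw : w ^ Nat.card ↥⁅M, M⁆ = 1) : w ∈ ⁅M, M⁆ := by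
  have : zpowers w ≤ ⁅M, M⁆ := by
    apply Cfsg.Agent.Lib.Helper2.BG12.le_of_coprime_relIndex (comm_le_self M) (le_normalizer_comm M)
      (zpowers_le.mpr hwM)
    rw [← card_compl' hP.W₁_compl, Nat.card_zpowers]
    exact Nat.Coprime.coprime_dvd_left (orderOf_dvd_of_pow_eq_one hw) (tp_coprime hP)
  exact this (mem_zpowers w)

theorem tp_cent_le (hP : Cfsg.IsTypePWith M W₁ Ut W₂) {w : G} (hw : w ∈ W₁ ⊔ W₂) (h1 : w ∉ W₁)
    (h2 : w ∉ W₂) : centralizer ({w} : Set G) ≤ W₁ ⊔ W₂ := by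
  have := hP.selfNormalizing.2.2.2.2.2 {w}
    (by rintro _ rfl; exact ⟨hw, fun h => h.elim h1 h2⟩) ⟨w, rfl⟩
  rw [← this]
  intro c hc
  rw [mem_centralizer_singleton_iff] at hc
  rw [mem_set_normalizer_iff]
  intro h
  simp only [Set.mem_singleton_iff]
  constructor
  · rintro rfl
    rw [hc]; group
  · intro e
    have e1 : h = c⁻¹ * w * c := by rw [← e]; group
    rw [e1, mul_assoc, ← hc]; group

theorem tp_mem_W (hP : Cfsg.IsTypePWith M W₁ Ut W₂) {w w' h : G} (hw : w ∈ W₁ ⊔ W₂)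
    (h1 : w ∉ W₁) (h2 : w ∉ W₂) (hw' : w' ∈ W₁ ⊔ W₂) (h1' : w' ∉ W₁) (h2' : w' ∉ W₂)
    (e : h * w * h⁻¹ = w') : h ∈ W₁ ⊔ W₂ := by
  have hN : h ∈ normalizer ((W₁ ⊔ W₂ : Subgroup G) : Set G) := by
    apply mem_normalizer_of_cj_le'
    intro z hz
    rw [mem_cj] at hz
    apply tp_cent_le hP hw' h1' h2'
    rw [mem_centralizer_singleton_iff, ← e]
    have := tp_comm hP hz hw
    calc z * (h * w * h⁻¹) = h * (h⁻¹ * z * h * w) * h⁻¹ := by group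
      _ = h * (w * (h⁻¹ * z * h)) * h⁻¹ := by rw [this]
      _ = h * w * h⁻¹ * z := by group
  have hc := hP.selfNormalizing.2.2.2.2.1
  have hN1 : h ∈ normalizer (W₁ : Set G) :=
    Cfsg.Agent.Lib.Helper40.BG16.le_normalizer_of_le_cyclic hc le_sup_left le_rfl hN
  have hN2 : h ∈ normalizer (W₂ : Set G) :=
    Cfsg.Agent.Lib.Helper40.BG16.le_normalizer_of_le_cyclic hc le_sup_right le_rfl hN
  have := hP.selfNormalizing.2.2.2.2.2 ((↑(W₁ ⊔ W₂) : Set G) \ (↑W₁ ∪ ↑W₂)) le_rfl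
    ⟨w, hw, fun h => h.elim h1 h2⟩
  rw [← this, mem_set_normalizer_iff]
  intro n
  have a0 := mem_normalizer_iff.mp hN n
  have a1 := mem_normalizer_iff.mp hN1 n
  have a2 := mem_normalizer_iff.mp hN2 n
  simp only [Set.mem_sdiff, Set.mem_union, SetLike.mem_coe]
  rw [a0, a1, a2]

theorem tp_conj (hG : Cfsg.IsMinSimpleOddOrder G) (hM : IsCoatom M)
    (hP : Cfsg.IsTypePWith M W₁ Ut W₂) {W₁' Ut' W₂' : Subgroup G}
    (hP' : Cfsg.IsTypePWith M W₁' Ut' W₂') : ∃ n ∈ M, W₁' = cj n W₁ ∧ W₂' = cj n W₂ := by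
  have hsol : Group.IsSolvable ↥⁅M, M⁆ :=
    isSolvable_of_le (comm_le_self M) (hG.2.2.2 M hM.1)
  have hle : W₁' ≤ ⁅M, M⁆ ⊔ W₁ := by
    intro z hz
    obtain ⟨a, ha, b, hb, rfl⟩ := hP.W₁_compl.2.2.2 z (tp_W₁_le hP' hz)
    exact mul_mem (mem_sup_left ha) (mem_sup_right hb)
  obtain ⟨x, hx, hxe⟩ := sz_conj ⁅M, M⁆ W₁ W₁' ((tp_W₁_le hP).trans (le_normalizer_comm M))
    (Or.inl hsol) (tp_coprime hP) hle
    (by rw [card_compl' hP'.W₁_compl, card_compl' hP.W₁_compl])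
  refine ⟨x, comm_le_self M hx, hxe, ?_⟩
  obtain ⟨y, hy, hy1⟩ := exists_ne_one_of_ne_bot hP.W₁_ne
  have hy' : x * y * x⁻¹ ∈ W₁' := by rw [hxe]; exact conj_mem_cj hy
  rw [← hP'.W₂_centralizer _ hy' (conj_ne_one hy1), ← hP.W₂_centralizer y hy hy1, cj_inf,
    cj_eq_of_mem hx, centralizer_singleton_cj]

/-- the `M`-conjugates of the sets `W₁W₂ - (W₁ ∪ W₂)`. -/
def extra (M : Subgroup G) : Set G :=
  {v | ∃ W₁ U W₂ : Subgroup G, Cfsg.IsTypePWith M W₁ U W₂ ∧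
    ∃ m ∈ M, ∃ w ∈ W₁ ⊔ W₂, w ∉ W₁ ∧ w ∉ W₂ ∧ v = m * w * m⁻¹}

theorem extra_subset (M : Subgroup G) : extra M ⊆ (M : Set G) := by
  rintro v ⟨W₁, U, W₂, hP, m, hm, w, hw, -, -, rfl⟩
  exact M.mul_mem (M.mul_mem hm (tp_W_le hP hw)) (M.inv_mem hm)

theorem extra_ne_one {v : G} (hv : v ∈ extra M) : v ≠ 1 := by
  obtain ⟨W₁, U, W₂, hP, m, hm, w, hw, h1, -, rfl⟩ := hv
  apply conj_ne_one
  rintro rfl
  exact h1 (one_mem _)

theorem extra_conj {v : G} (hv : v ∈ extra M) {n : G} (hn : n ∈ M) : n * v * n⁻¹ ∈ extra M := by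
  obtain ⟨W₁, U, W₂, hP, m, hm, w, hw, h1, h2, rfl⟩ := hv
  exact ⟨W₁, U, W₂, hP, n * m, M.mul_mem hn hm, w, hw, h1, h2, by group⟩

theorem extra_hat {v : G} (hv : v ∈ extra M) :
    ∃ y ∈ Cfsg.fittingHallOf M, y ≠ 1 ∧ v * y = y * v := by
  obtain ⟨W₁, U, W₂, hP, m, hm, w, hw, h1, h2, rfl⟩ := hv
  obtain ⟨y, hy, hy1⟩ := exists_ne_one_of_ne_bot hP.selfNormalizing.2.1
  refine ⟨m * y * m⁻¹, ?_, conj_ne_one hy1, ?_⟩
  · exact (mem_normalizer_iff.mp (le_normalizer_fittingHallOf_of_le le_normalizer hm) y).mp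
      (tp_W₂_le_MF hP hy)
  · have := tp_comm hP hw (mem_sup_right hy)
    calc m * w * m⁻¹ * (m * y * m⁻¹) = m * (w * y) * m⁻¹ := by group
      _ = m * (y * w) * m⁻¹ := by rw [this]
      _ = m * y * m⁻¹ * (m * w * m⁻¹) := by group

theorem extra_cent {v : G} (hv : v ∈ extra M) : centralizer ({v} : Set G) ≤ M := by
  obtain ⟨W₁, U, W₂, hP, m, hm, w, hw, h1, h2, rfl⟩ := hv
  rw [centralizer_singleton_cj]
  calc cj m (centralizer ({w} : Set G)) ≤ cj m M :=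
        cj_mono m ((tp_cent_le hP hw h1 h2).trans (tp_W_le hP))
    _ = M := cj_eq_of_mem hm

theorem extra_pow_ne {v : G} (hv : v ∈ extra M) : v ^ Nat.card ↥⁅M, M⁆ ≠ 1 := by
  obtain ⟨W₁, U, W₂, hP, m, hm, w, hw, h1, h2, rfl⟩ := hv
  intro h
  rw [conj_pow] at h
  have hw1 : w ^ Nat.card ↥⁅M, M⁆ = 1 := by
    by_contra hne
    exact conj_ne_one hne h
  exact h2 (tp_mem_W₂ hP hw (tp_mem_commutator hP (tp_W_le hP hw) hw1))

theorem extra_fusion (hG : Cfsg.IsMinSimpleOddOrder G) (hM : IsCoatom M) {v g : G}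
    (hv : v ∈ extra M) (hg : g * v * g⁻¹ ∈ extra M) : g ∈ M := by
  obtain ⟨W₁, U, W₂, hP, m, hm, w, hw, h1, h2, rfl⟩ := hv
  obtain ⟨W₁', U', W₂', hP', m', hm', w', hw', h1', h2', e⟩ := hg
  obtain ⟨n, hn, e1, e2⟩ := tp_conj hG hM hP hP'
  have hw'' : n⁻¹ * w' * n ∈ W₁ ⊔ W₂ := by
    rw [← mem_cj, cj_sup, ← e1, ← e2]; exact hw'
  have h1'' : n⁻¹ * w' * n ∉ W₁ := by
    rw [← mem_cj, ← e1]; exact h1'
  have h2'' : n⁻¹ * w' * n ∉ W₂ := by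
    rw [← mem_cj, ← e2]; exact h2'
  have key : (n⁻¹ * m'⁻¹ * g * m) * w * (n⁻¹ * m'⁻¹ * g * m)⁻¹ = n⁻¹ * w' * n := by
    calc (n⁻¹ * m'⁻¹ * g * m) * w * (n⁻¹ * m'⁻¹ * g * m)⁻¹
        = n⁻¹ * m'⁻¹ * (g * (m * w * m⁻¹) * g⁻¹) * m' * n := by group
      _ = n⁻¹ * m'⁻¹ * (m' * w' * m'⁻¹) * m' * n := by rw [e]
      _ = n⁻¹ * w' * n := by group
  have hh := tp_W_le hP (tp_mem_W hP hw h1 h2 hw'' h1'' h2'' key)
  have : g = m' * n * (n⁻¹ * m'⁻¹ * g * m) * m⁻¹ := by group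
  rw [this]
  exact M.mul_mem (M.mul_mem (M.mul_mem hm' hn) hh) (M.inv_mem hm)

end Cfsg.Agent.Lib.Helper30.PF8
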