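import Cfsg.Agent.Lib.Helper30.PF8b
import Cfsg.Agent.Lib.Helper28.BG16b
import Cfsg.Agent.Lib.Helper31.BG1217

/-!
Peterfalvi (8.x): the sets `A₁(M)`, `A(M)`, `A₀(M)` in the language of types satisfy the Dade
hypothesis (S1537); for Type II they are TI-subsets (S1538).
-/

set_option autoImplicit false
set_option linter.unusedVariables false
set_option linter.unusedSectionVars false

namespace Cfsg.Agent.Lib.Helper30.PF8

open Subgroup Cfsg.Agent.Lib.Helper30 Cfsg.Agent.Lib.Helper24.BG14 Cfsg.Agent.Lib.Helper2.BG16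
  Cfsg.Agent.Lib.Helper28.BG12

universe u

variable {G : Type u} [Group G]

/-- the texts on the types used here. -/
structure Ty (G : Type u) [Group G] : Prop where
  X : Tx G
  dec : ∀ M : Subgroup G, IsCoatom M → ∃ K U : Subgroup G, Cfsg.IsSigmaDecomposition M K U
  nrm : ∀ (M K U : Subgroup G), IsCoatom M → Cfsg.IsSigmaDecomposition M K U →
    M ≤ normalizer ((U ⊔ Cfsg.sigmaCore M : Subgroup G) : Set G)
  comm_le : ∀ (M K U : Subgroup G), IsCoatom M → Cfsg.IsSigmaDecomposition M K U →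
    ⁅M, M⁆ ≤ U ⊔ Cfsg.sigmaCore M
  t62 : ∀ (M : Subgroup G) (hM : IsCoatom M) (K U : Subgroup G)
    (hKU : Cfsg.IsSigmaDecomposition M K U),
    Cfsg.IsTISubset (Cfsg.sigmaA M U \ (Cfsg.sigmaCore M : Set G))
  mf_ne : ∀ M : Subgroup G, IsCoatom M → Cfsg.fittingHallOf M ≠ ⊥
  t82 : ∀ (M : Subgroup G) (hM : IsCoatom M) (K U : Subgroup G)
    (hKU : Cfsg.IsSigmaDecomposition M K U),
    (Cfsg.IsOfTypeIII M ∨ Cfsg.IsOfTypeIV M) ↔
      (K ≠ ⊥ ∧ U = ⊥ ∧ Cfsg.fittingHallOf M ≠ Cfsg.sigmaCore M)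
  t37 : ∀ (M : Subgroup G) (hM : IsCoatom M) (K U : Subgroup G)
    (hKU : Cfsg.IsSigmaDecomposition M K U) (hne : Cfsg.fittingHallOf M ≠ Cfsg.sigmaCore M),
    U = ⊥ ∧ Cfsg.sigmaCore M = ⁅M, M⁆ ∧ (Nat.card K).Prime
  type1 : ∀ (M K U : Subgroup G), IsCoatom M → Cfsg.IsSigmaDecomposition M K U →
    Cfsg.IsOfTypeI M → K = ⊥

variable [Finite G] {M K U : Subgroup G}

theorem typeCore_le (Y : Ty G) (hM : IsCoatom M) : Cfsg.typeCore M ≤ Cfsg.sigmaCore M := by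
  obtain ⟨K, U, hKU⟩ := Y.dec M hM
  unfold Cfsg.typeCore
  split_ifs with h
  · rw [(Y.t37 M hM K U hKU ((Y.t82 M hM K U hKU).mp h).2.2).2.1]
  · exact fittingHallOf_le_sigmaCore Y.X.hG hM

theorem le_typeCore (Y : Ty G) (hM : IsCoatom M) : Cfsg.fittingHallOf M ≤ Cfsg.typeCore M := by
  unfold Cfsg.typeCore
  split_ifs with h
  · exact (fittingHallOf_le_sigmaCore Y.X.hG hM).trans
      (Cfsg.Agent.Lib.Helper31.sigmaCore_le_commutator Y.X.hG hM)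
  · exact le_rfl

theorem le_normalizer_typeCore (M : Subgroup G) :
    M ≤ normalizer ((Cfsg.typeCore M : Subgroup G) : Set G) := by
  unfold Cfsg.typeCore
  split_ifs with h
  · exact le_normalizer_comm M
  · exact le_normalizer_fittingHallOf_of_le le_normalizer

theorem exists_mf (Y : Ty G) (hM : IsCoatom M) : ∃ x ∈ Cfsg.fittingHallOf M, x ≠ 1 :=
  exists_ne_one_of_ne_bot (Y.mf_ne M hM)

theorem conj_comm {m a y : G} (h : a * y = y * a) :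
    m * a * m⁻¹ * (m * y * m⁻¹) = m * y * m⁻¹ * (m * a * m⁻¹) := by
  calc m * a * m⁻¹ * (m * y * m⁻¹) = m * (a * y) * m⁻¹ := by group
    _ = m * (y * a) * m⁻¹ := by rw [h]
    _ = m * y * m⁻¹ * (m * a * m⁻¹) := by group

theorem conj_mem_of_le_normalizer {H L : Subgroup G} (h : L ≤ normalizer (H : Set G)) {m x : G}
    (hm : m ∈ L) (hx : x ∈ H) : m * x * m⁻¹ ∈ H :=
  (mem_normalizer_iff.mp (h hm) x).mp hx

/-! ### `A(M)` -/

theorem typeA_facts (Y : Ty G) (hM : IsCoatom M) (hKU : Cfsg.IsSigmaDecomposition M K U) {a : G}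
    (ha : a ∈ Cfsg.typeA M) :
    a ∈ U ⊔ Cfsg.sigmaCore M ∧ a ≠ 1 ∧ ∃ y ∈ Cfsg.sigmaCore M, y ≠ 1 ∧ a * y = y * a := by
  unfold Cfsg.typeA at ha
  split_ifs at ha with h
  · obtain ⟨haM, ha1, x, hx, hx1, hc⟩ := ha
    have hK := Y.type1 M K U hM hKU h
    refine ⟨?_, ha1, x, fittingHallOf_le_sigmaCore Y.X.hG hM hx, hx1, hc⟩
    obtain ⟨u, hu, b, hb, rfl⟩ := hKU.compl.2.2.2 a haM
    rw [hK, bot_sup_eq] at hb
    exact mul_mem (mem_sup_left hu) (mem_sup_right hb)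
  · obtain ⟨haM, ha1, x, hx, hx1, hc⟩ := ha
    exact ⟨Y.comm_le M K U hM hKU haM, ha1, x, typeCore_le Y hM hx, hx1, hc⟩

theorem typeA_mem_comm (hI : ¬ Cfsg.IsOfTypeI M) {a : G} (ha : a ∈ Cfsg.typeA M) : a ∈ ⁅M, M⁆ := by
  unfold Cfsg.typeA at ha
  rw [if_neg hI] at ha
  exact ha.1

theorem typeA_conj {a m : G} (ha : a ∈ Cfsg.typeA M) (hm : m ∈ M) :
    m * a * m⁻¹ ∈ Cfsg.typeA M := by
  unfold Cfsg.typeA at ha ⊢
  split_ifs at ha ⊢ with h
  · obtain ⟨haM, ha1, x, hx, hx1, hc⟩ := ha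
    exact ⟨M.mul_mem (M.mul_mem hm haM) (M.inv_mem hm), conj_ne_one ha1, m * x * m⁻¹,
      conj_mem_of_le_normalizer (le_normalizer_fittingHallOf_of_le le_normalizer) hm hx,
      conj_ne_one hx1, conj_comm hc⟩
  · obtain ⟨haM, ha1, x, hx, hx1, hc⟩ := ha
    exact ⟨conj_mem_of_le_normalizer (le_normalizer_comm M) hm haM, conj_ne_one ha1, m * x * m⁻¹,
      conj_mem_of_le_normalizer (le_normalizer_typeCore M) hm hx, conj_ne_one hx1, conj_comm hc⟩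

theorem typeA_nonempty (Y : Ty G) (hM : IsCoatom M) : ∃ x ∈ Cfsg.typeA M, x ≠ 1 := by
  obtain ⟨x, hx, hx1⟩ := exists_mf Y hM
  refine ⟨x, ?_, hx1⟩
  unfold Cfsg.typeA
  split_ifs with h
  · exact ⟨map_subtype_le _ hx, hx1, x, hx, hx1, rfl⟩
  · exact ⟨Cfsg.Agent.Lib.Helper31.sigmaCore_le_commutator Y.X.hG hM
      (fittingHallOf_le_sigmaCore Y.X.hG hM hx), hx1, x, le_typeCore Y hM hx, hx1, rfl⟩

/-- elements of `U M_σ - M_σ` centralizing a non-identity element of `M_σ`. -/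
theorem cent_le_of (Y : Ty G) (hM : IsCoatom M) (hKU : Cfsg.IsSigmaDecomposition M K U) {a y : G}
    (haD : a ∈ U ⊔ Cfsg.sigmaCore M) (has : a ∉ Cfsg.sigmaCore M) (hy : y ∈ Cfsg.sigmaCore M)
    (hy1 : y ≠ 1) (hc : a * y = y * a) : centralizer ({a} : Set G) ≤ M := by
  have hD := isPiHallOf_U_sup Y.X.hG hM hKU
  have haM : a ∈ M := hD.1 haD
  obtain ⟨h1, h2⟩ := pow_card_facts Y.X.hG hM haM
  have ha2 : a ^ Nat.card (Cfsg.sigmaCore M) ≠ 1 := fun h => has (h2 h)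
  have hmem : a ^ Nat.card (Cfsg.sigmaCore M) ∈ M ⊓ centralizer ({y} : Set G) :=
    ⟨M.pow_mem haM _,
      mem_centralizer_singleton_iff.mpr ((Commute.pow_left (show Commute a y from hc) _).eq)⟩
  rcases Y.X.T.h32 M hM y hy hy1 _ hmem ha2 h1 with ⟨h, -⟩ | ⟨-, -, h, -⟩
  · exfalso
    have ho : orderOf (a ^ Nat.card (Cfsg.sigmaCore M)) ≠ 1 :=
      fun h => ha2 (orderOf_eq_one_iff.mp h)
    obtain ⟨p, hp, hpd⟩ := Nat.exists_prime_and_dvd ho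
    exact hD.2.1 p hp (hpd.trans (orderOf_dvd_card_of_mem (pow_mem haD _))) (h p hp hpd)
  · exact (centralizer_le_of_pow a _).trans h

theorem not_mem_sigmaCore_conj (Y : Ty G) (hM : IsCoatom M) {a g : G} (haM : a ∈ M)
    (has : a ∉ Cfsg.sigmaCore M) : g * a * g⁻¹ ∉ Cfsg.sigmaCore M := by
  intro h
  apply has
  apply mem_sigmaCore_of_order Y.X.hG hM haM
  intro p hp hpd
  rw [← orderOf_conj' g a] at hpd
  exact prime_mem_sigma_of_dvd_order Y.X.hG hM h hp hpd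

theorem mem_of_conj (Y : Ty G) (hM : IsCoatom M) (hKU : Cfsg.IsSigmaDecomposition M K U)
    {a g y y' : G} (haD : a ∈ U ⊔ Cfsg.sigmaCore M) (has : a ∉ Cfsg.sigmaCore M)
    (hy : y ∈ Cfsg.sigmaCore M) (hy1 : y ≠ 1) (hc : a * y = y * a)
    (hgD : g * a * g⁻¹ ∈ U ⊔ Cfsg.sigmaCore M) (hy' : y' ∈ Cfsg.sigmaCore M) (hy'1 : y' ≠ 1)
    (hc' : g * a * g⁻¹ * y' = y' * (g * a * g⁻¹)) : g ∈ M := by
  have hD := isPiHallOf_U_sup Y.X.hG hM hKU
  have haM : a ∈ M := hD.1 haD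
  have hTI := Y.t62 M hM K U hKU
  have haX : a ∈ Cfsg.sigmaA M U \ (Cfsg.sigmaCore M : Set G) :=
    ⟨⟨⟨haM, y, hy, hy1, hc⟩, haD⟩, has⟩
  have hgX : g * a * g⁻¹ ∈ Cfsg.sigmaA M U \ (Cfsg.sigmaCore M : Set G) :=
    ⟨⟨⟨hD.1 hgD, y', hy', hy'1, hc'⟩, hgD⟩, not_mem_sigmaCore_conj Y hM haM has⟩
  have ha1 : a ≠ 1 := by
    rintro rfl
    exact has (one_mem _)
  have hN : normalizer (Cfsg.sigmaA M U \ (Cfsg.sigmaCore M : Set G)) = M := by
    apply normalizer_set_eq Y.X.hG hM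
    · rintro x ⟨⟨⟨hx, -⟩, -⟩, -⟩
      exact hx
    · rintro m hm x ⟨⟨⟨hx, z, hz, hz1, hzc⟩, hxD⟩, hxs⟩
      exact ⟨⟨⟨M.mul_mem (M.mul_mem hm hx) (M.inv_mem hm), m * z * m⁻¹,
        conj_mem_of_le_normalizer (Cfsg.Agent.Lib.Helper2.BG16.le_normalizer_sigmaCore M) hm hz, conj_ne_one hz1,
        conj_comm hzc⟩, conj_mem_of_le_normalizer (Y.nrm M K U hM hKU) hm hxD⟩,
        not_mem_sigmaCore_conj Y hM hx hxs⟩
    · exact ⟨a, haX, ha1⟩
  by_contra hgM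
  exact ha1 (hTI g (by rw [hN]; exact hgM) a haX hgX)

/-! ### `A₀(M)` -/

theorem mem_typeA0_iff {v : G} :
    v ∈ Cfsg.typeA0 M ↔ v ∈ Cfsg.typeA M ∨ (¬ Cfsg.IsOfTypeI M ∧ v ∈ extra M) := Iff.rfl

theorem pow_card_comm_eq_one {a : G} (ha : a ∈ ⁅M, M⁆) : a ^ Nat.card ↥⁅M, M⁆ = 1 := by
  have : (⟨a, ha⟩ : ↥⁅M, M⁆) ^ Nat.card ↥⁅M, M⁆ = 1 := pow_card_eq_one'
  exact congrArg Subtype.val this

theorem typeA0_cent (Y : Ty G) (hM : IsCoatom M) {a : G} (ha : a ∈ Cfsg.typeA0 M)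
    (has : a ∉ Cfsg.sigmaCore M) : centralizer ({a} : Set G) ≤ M := by
  obtain ⟨K, U, hKU⟩ := Y.dec M hM
  rcases mem_typeA0_iff.mp ha with h | ⟨-, h⟩
  · obtain ⟨haD, -, y, hy, hy1, hc⟩ := typeA_facts Y hM hKU h
    exact cent_le_of Y hM hKU haD has hy hy1 hc
  · exact extra_cent h

theorem typeA0_fusion (Y : Ty G) (hM : IsCoatom M) {a g : G} (ha : a ∈ Cfsg.typeA0 M)
    (has : a ∉ Cfsg.sigmaCore M) (hg : g * a * g⁻¹ ∈ Cfsg.typeA0 M) : g ∈ M := by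
  obtain ⟨K, U, hKU⟩ := Y.dec M hM
  rcases mem_typeA0_iff.mp ha with h | ⟨hI, h⟩
  · obtain ⟨haD, -, y, hy, hy1, hc⟩ := typeA_facts Y hM hKU h
    rcases mem_typeA0_iff.mp hg with h' | ⟨hI, h'⟩
    · obtain ⟨hgD, -, y', hy', hy'1, hc'⟩ := typeA_facts Y hM hKU h'
      exact mem_of_conj Y hM hKU haD has hy hy1 hc hgD hy' hy'1 hc'
    · exfalso
      apply extra_pow_ne h'
      rw [conj_pow, pow_card_comm_eq_one (typeA_mem_comm hI h)]
      group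
  · rcases mem_typeA0_iff.mp hg with h' | ⟨-, h'⟩
    · exfalso
      apply extra_pow_ne h
      have := pow_card_comm_eq_one (typeA_mem_comm hI h')
      rw [conj_pow] at this
      by_contra hne
      exact conj_ne_one hne this
    · exact extra_fusion Y.X.hG hM h h'

theorem typeA0_dade (Y : Ty G) (hM : IsCoatom M) :
    Cfsg.DadeHypothesis (Cfsg.typeA0 M) M (Cfsg.supportR M) := by
  obtain ⟨K, U, hKU⟩ := Y.dec M hM
  have hD := isPiHallOf_U_sup Y.X.hG hM hKU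
  apply dade_of Y.X hM
  · intro h
    rcases mem_typeA0_iff.mp h with h | ⟨-, h⟩
    · exact (typeA_facts Y hM hKU h).2.1 rfl
    · exact extra_ne_one h rfl
  · intro a ha
    rcases mem_typeA0_iff.mp ha with h | ⟨-, h⟩
    · exact hD.1 (typeA_facts Y hM hKU h).1
    · exact extra_subset M h
  · intro m hm a ha
    rcases mem_typeA0_iff.mp ha with h | ⟨hI, h⟩
    · exact Or.inl (typeA_conj h hm)
    · exact Or.inr ⟨hI, extra_conj h hm⟩
  · intro a ha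
    rcases mem_typeA0_iff.mp ha with h | ⟨-, h⟩
    · exact (typeA_facts Y hM hKU h).2.2
    · obtain ⟨y, hy, hy1, hc⟩ := extra_hat h
      exact ⟨y, fittingHallOf_le_sigmaCore Y.X.hG hM hy, hy1, hc⟩
  · exact fun a ha has => typeA0_cent Y hM ha has
  · exact fun a ha has g hg => ⟨g, typeA0_fusion Y hM ha has hg, rfl⟩

theorem typeA_subset_typeA0 (M : Subgroup G) : Cfsg.typeA M ⊆ Cfsg.typeA0 M :=
  fun _ h => Or.inl h

theorem typeA1_dade (Y : Ty G) (hM : IsCoatom M) :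
    Cfsg.DadeHypothesis (Cfsg.typeA1 M) M (Cfsg.supportR M) := by
  apply dade_of Y.X hM
  · exact fun h => h.2 rfl
  · exact fun a ha => Cfsg.Agent.Lib.Helper2.BG16.sigmaCore_le M (typeCore_le Y hM ha.1)
  · exact fun m hm a ha => ⟨conj_mem_of_le_normalizer (le_normalizer_typeCore M) hm ha.1,
      conj_ne_one ha.2⟩
  · exact fun a ha => ⟨a, typeCore_le Y hM ha.1, ha.2, rfl⟩
  · exact fun a ha has => absurd (typeCore_le Y hM ha.1) has
  · exact fun a ha has => absurd (typeCore_le Y hM ha.1) has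

/-- **S1537** from the texts. -/
theorem S1537_of (Y : Ty G) (M : Subgroup G) (hM : IsCoatom M) (A : Set G)
    (hA : A = Cfsg.typeA1 M ∨ A = Cfsg.typeA M ∨ A = Cfsg.typeA0 M) :
    Subgroup.normalizer A = M ∧ Cfsg.DadeHypothesis A M (Cfsg.supportR M) := by
  have key : ∀ B : Set G, Cfsg.DadeHypothesis B M (Cfsg.supportR M) → (∃ x ∈ B, x ≠ 1) →
      Subgroup.normalizer B = M ∧ Cfsg.DadeHypothesis B M (Cfsg.supportR M) :=
    fun B hB hne => ⟨normalizer_set_eq Y.X.hG hM hB.subset hB.conj_mem hne, hB⟩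
  rcases hA with rfl | rfl | rfl
  · apply key _ (typeA1_dade Y hM)
    obtain ⟨x, hx, hx1⟩ := exists_mf Y hM
    exact ⟨x, ⟨le_typeCore Y hM hx, hx1⟩, hx1⟩
  · exact key _ (dade_mono (typeA0_dade Y hM) (typeA_subset_typeA0 M)
      (fun m hm a ha => typeA_conj ha hm)) (typeA_nonempty Y hM)
  · apply key _ (typeA0_dade Y hM)
    obtain ⟨x, hx, hx1⟩ := typeA_nonempty Y hM
    exact ⟨x, Or.inl hx, hx1⟩

end Cfsg.Agent.Lib.Helper30.PF8
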