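import Cfsg.Agent.Lib.Helper30.PF8c
import Cfsg.Agent.Lib.Helper74.Fitting

/-!
Peterfalvi (8.x): for a maximal subgroup of Type II the sets `A₀(M)`, `A(M)`, `A₁(M)` are
TI-subsets with normaliser `M` (S1538).
-/

set_option autoImplicit false
set_option linter.unusedVariables false
set_option linter.unusedSectionVars false

namespace Cfsg.Agent.Lib.Helper30.PF8

open Subgroup Cfsg.Agent.Lib.Helper30 Cfsg.Agent.Lib.Helper24.BG14 Cfsg.Agent.Lib.Helper2.BG16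
  Cfsg.Agent.Lib.Helper28.BG12

universe u

variable {G : Type u} [Group G] [Finite G] {M W₁ Ut W₂ : Subgroup G}

theorem tp_conj_U (hG : Cfsg.IsMinSimpleOddOrder G) (hM : IsCoatom M)
    (hP : Cfsg.IsTypePWith M W₁ Ut W₂) {W₁' Ut' W₂' : Subgroup G}
    (hP' : Cfsg.IsTypePWith M W₁' Ut' W₂') : ∃ x ∈ M, Ut' = cj x Ut := by
  have hHM : Cfsg.fittingHallOf M ≤ M := map_subtype_le _
  have hsol : Group.IsSolvable (Cfsg.fittingHallOf M) := isSolvable_of_le hHM (hG.2.2.2 M hM.1)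
  have hUM : Ut ≤ M := hP.U_compl.2.1.trans (comm_le_self M)
  have hcop : (Nat.card (Cfsg.fittingHallOf M)).Coprime (Nat.card Ut) := by
    rw [card_compl' hP.U_compl]
    exact Nat.Coprime.coprime_dvd_right
      (Dvd.intro _ (relIndex_mul_relIndex (Cfsg.fittingHallOf M) ⁅M, M⁆ M hP.U_compl.1
        (comm_le_self M))) (fittingHallOf_coprime M)
  have hle : Ut' ≤ Cfsg.fittingHallOf M ⊔ Ut := by
    intro z hz
    obtain ⟨a, ha, b, hb, rfl⟩ := hP.U_compl.2.2.2 z (hP'.U_compl.2.1 hz)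
    exact mul_mem (mem_sup_left ha) (mem_sup_right hb)
  obtain ⟨x, hx, hxe⟩ := sz_conj (Cfsg.fittingHallOf M) Ut Ut'
    (hUM.trans (le_normalizer_fittingHallOf_of_le le_normalizer)) (Or.inl hsol) hcop hle
    (by rw [card_compl' hP'.U_compl, card_compl' hP.U_compl])
  exact ⟨x, hHM hx, hxe⟩

theorem not_typeIII_IV_of_typeII (hG : Cfsg.IsMinSimpleOddOrder G) (hM : IsCoatom M)
    (hII : Cfsg.IsOfTypeII M) : ¬ (Cfsg.IsOfTypeIII M ∨ Cfsg.IsOfTypeIV M) := by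
  obtain ⟨W₁, U, W₂, hP, -, -, -, -, hN, -⟩ := hII
  have key : ∀ W₁' U' W₂' : Subgroup G, Cfsg.IsTypePWith M W₁' U' W₂' →
      normalizer (U' : Set G) ≤ M → False := by
    intro W₁' U' W₂' hP' hN'
    obtain ⟨x, hx, e⟩ := tp_conj_U hG hM hP' hP
    apply hN
    rw [e, normalizer_cj]
    calc cj x (normalizer (U' : Set G)) ≤ cj x M := cj_mono x hN'
      _ = M := cj_eq_of_mem hx
  rintro (⟨W₁', U', W₂', hP', -, -, -, -, hN'⟩ | ⟨W₁', U', W₂', hP', -, -, -, -, hN'⟩)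
  · exact key _ _ _ hP' hN'
  · exact key _ _ _ hP' hN'

theorem mf_eq_of_typeII (Y : Ty G) (hM : IsCoatom M) (hII : Cfsg.IsOfTypeII M) :
    Cfsg.fittingHallOf M = Cfsg.sigmaCore M := by
  obtain ⟨K, U, hKU⟩ := Y.dec M hM
  by_contra hne
  obtain ⟨hU, -, hK⟩ := Y.t37 M hM K U hKU hne
  apply not_typeIII_IV_of_typeII Y.X.hG hM hII
  refine (Y.t82 M hM K U hKU).mpr ⟨?_, hU, hne⟩
  rintro rfl
  rw [Subgroup.card_bot] at hK
  exact Nat.not_prime_one hK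

theorem fittingOf_conj {m x : G} (hm : m ∈ M) (hx : x ∈ Cfsg.fittingOf M) :
    m * x * m⁻¹ ∈ Cfsg.fittingOf M := by
  obtain ⟨x', hx', rfl⟩ := hx
  exact ⟨⟨m, hm⟩ * x' * ⟨m, hm⟩⁻¹,
    (Cfsg.Agent.Lib.Helper74.fittingSubgroup_normal M).conj_mem x' hx' ⟨m, hm⟩, rfl⟩

theorem cent_le_of_typeII (Y : Ty G) (hM : IsCoatom M) (hII : Cfsg.IsOfTypeII M) {x : G}
    (hx : x ∈ Cfsg.sigmaCore M) (hx1 : x ≠ 1) : centralizer ({x} : Set G) ≤ M := by
  have hmf := mf_eq_of_typeII Y hM hII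
  obtain ⟨W₁, U, W₂, hP, -, -, hTI, -⟩ := hII
  have hxF : x ∈ Cfsg.fittingOf M := by
    rw [← hP.fitting_eq]
    exact mem_sup_left (hmf ▸ hx)
  have hN : normalizer ((Cfsg.fittingOf M : Subgroup G) : Set G) = M :=
    normalizer_set_eq Y.X.hG hM (fun z hz => map_subtype_le _ hz)
      (fun m hm z hz => fittingOf_conj hm hz) ⟨x, hxF, hx1⟩
  intro c hc
  by_contra hcM
  apply hx1
  apply hTI c (by rw [hN]; exact hcM) x hxF
  rw [mem_centralizer_singleton_iff] at hc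
  rw [hc, mul_inv_cancel_right]
  exact hxF

theorem ti_of_dade {A : Set G} {H : G → Subgroup G} (hN : normalizer A = M)
    (hD : Cfsg.DadeHypothesis A M H) (hC : ∀ a ∈ A, centralizer ({a} : Set G) ≤ M) :
    Cfsg.IsTISubset A := by
  intro g hg x hx hgx
  exfalso
  apply hg
  rw [hN]
  obtain ⟨m, hm, e⟩ := hD.fusion x hx g hgx
  have h1 : m⁻¹ * g ∈ centralizer ({x} : Set G) := by
    rw [mem_centralizer_singleton_iff]
    calc m⁻¹ * g * x = m⁻¹ * (g * x * g⁻¹) * g := by group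
      _ = m⁻¹ * (m * x * m⁻¹) * g := by rw [e]
      _ = x * (m⁻¹ * g) := by group
  have h2 := hC x hx h1
  have : g = m * (m⁻¹ * g) := by group
  rw [this]
  exact M.mul_mem hm h2

/-- **S1538** from the texts. -/
theorem S1538_of (Y : Ty G) (M : Subgroup G) (hM : IsCoatom M) (hII : Cfsg.IsOfTypeII M) :
    (Cfsg.IsTISubset (Cfsg.typeA0 M) ∧ Subgroup.normalizer (Cfsg.typeA0 M) = M) ∧
      (Cfsg.IsTISubset (Cfsg.typeA M) ∧ Subgroup.normalizer (Cfsg.typeA M) = M) ∧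
      (Cfsg.IsTISubset (Cfsg.typeA1 M) ∧ Subgroup.normalizer (Cfsg.typeA1 M) = M) := by
  have hC0 : ∀ a ∈ Cfsg.typeA0 M, centralizer ({a} : Set G) ≤ M := by
    intro a ha
    by_cases has : a ∈ Cfsg.sigmaCore M
    · apply cent_le_of_typeII Y hM hII has
      rintro rfl
      exact (typeA0_dade Y hM).one_not_mem ha
    · exact typeA0_cent Y hM ha has
  obtain ⟨hN0, hD0⟩ := S1537_of Y M hM _ (Or.inr (Or.inr rfl))
  obtain ⟨hN, hD⟩ := S1537_of Y M hM _ (Or.inr (Or.inl rfl))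
  obtain ⟨hN1, hD1⟩ := S1537_of Y M hM _ (Or.inl rfl)
  refine ⟨⟨ti_of_dade hN0 hD0 hC0, hN0⟩,
    ⟨ti_of_dade hN hD (fun a ha => hC0 a (typeA_subset_typeA0 M ha)), hN⟩,
    ⟨ti_of_dade hN1 hD1 (fun a ha => cent_le_of_typeII Y hM hII (typeCore_le Y hM ha.1) ha.2), hN1⟩⟩

end Cfsg.Agent.Lib.Helper30.PF8
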