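import Mathlib
import Cfsg.Agent.Lib.Helper30.SZ
import Cfsg.Agent.S1466
import Cfsg.Prelude.Def_OddOrderLocal

/-!
The Puig series in relative form (for subgroups `H` of an ambient group `G`).
-/

set_option autoImplicit false
set_option linter.style.haveILetI false

namespace Cfsg.Agent.Lib.Helper30

open Subgroup

variable {G : Type*} [Group G]

theorem le_normalizer_of_conj_mem {X A : Subgroup G} (h : ∀ x ∈ X, ∀ a ∈ A, x * a * x⁻¹ ∈ A) :
    X ≤ normalizer (A : Set G) := by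
  intro x hx
  rw [mem_normalizer_iff]
  intro a
  refine ⟨h x hx a, fun ha => ?_⟩
  have := h x⁻¹ (X.inv_mem hx) _ ha
  simpa [mul_assoc] using this

theorem isMulCommutative_of_comm {A : Subgroup G} (h : ∀ a ∈ A, ∀ b ∈ A, a * b = b * a) :
    IsMulCommutative A :=
  ⟨⟨fun a b => Subtype.ext (h a.1 a.2 b.1 b.2)⟩⟩

theorem comm_of_isMulCommutative {A : Subgroup G} (h : IsMulCommutative A) {a b : G} (ha : a ∈ A) (hb : b ∈ A) :
    a * b = b * a :=
  congrArg Subtype.val (h.is_comm.comm ⟨a, ha⟩ ⟨b, hb⟩)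

/-- `L_H(X)`: generated by the abelian subgroups of `H` normalized by `X`. -/
def pStep (H X : Subgroup G) : Subgroup G :=
  sSup {A : Subgroup G | A ≤ H ∧ IsMulCommutative A ∧ X ≤ normalizer (A : Set G)}

/-- The Puig series of `H`, inside `G`. -/
def pSeq (H : Subgroup G) : ℕ → Subgroup G
  | 0 => ⊥
  | n + 1 => pStep H (pSeq H n)

theorem pSeq_zero (H : Subgroup G) : pSeq H 0 = ⊥ := rfl
theorem pSeq_succ (H : Subgroup G) (n : ℕ) : pSeq H (n + 1) = pStep H (pSeq H n) := rfl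

theorem le_pStep {H X A : Subgroup G} (h1 : A ≤ H) (h2 : IsMulCommutative A)
    (h3 : X ≤ normalizer (A : Set G)) : A ≤ pStep H X := le_sSup ⟨h1, h2, h3⟩

theorem pStep_le (H X : Subgroup G) : pStep H X ≤ H := sSup_le fun _ hA => hA.1

theorem pSeq_le (H : Subgroup G) (n : ℕ) : pSeq H n ≤ H := by
  cases n with
  | zero => exact bot_le
  | succ n => exact pStep_le _ _

theorem pStep_anti (H : Subgroup G) {X Y : Subgroup G} (h : X ≤ Y) : pStep H Y ≤ pStep H X :=
  sSup_le_sSup fun _ hA => ⟨hA.1, hA.2.1, h.trans hA.2.2⟩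

theorem pStep_mono_left {H H' : Subgroup G} (h : H ≤ H') (X : Subgroup G) : pStep H X ≤ pStep H' X :=
  sSup_le_sSup fun _ hA => ⟨hA.1.trans h, hA.2.1, hA.2.2⟩

/-- If `L_{H'}(X) ≤ H ≤ H'` then `L_H(X) = L_{H'}(X)`. -/
theorem pStep_eq_of_le {H H' X : Subgroup G} (h : H ≤ H') (h2 : pStep H' X ≤ H) : pStep H X = pStep H' X := by
  apply le_antisymm (pStep_mono_left h X)
  apply sSup_le
  intro A hA
  exact le_pStep ((le_sSup hA).trans h2) hA.2.1 hA.2.2

theorem map_pStep {G' : Type*} [Group G'] (f : G →* G') {H X : Subgroup G} (hXH : X ≤ H)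
    (hinj : ∀ h ∈ H, f h = 1 → h = 1) : (pStep H X).map f = pStep (H.map f) (X.map f) := by
  apply le_antisymm
  · rw [map_le_iff_le_comap]
    apply sSup_le
    rintro A ⟨h1, h2, h3⟩
    rw [← map_le_iff_le_comap]
    exact le_pStep (map_mono h1) inferInstance ((map_mono h3).trans (le_normalizer_map f))
  · apply sSup_le
    rintro A' ⟨h1, h2, h3⟩
    have hmap : (A'.comap f ⊓ H).map f = A' := by
      apply le_antisymm
      · rintro _ ⟨a, ha, rfl⟩
        exact ha.1
      · intro a' ha'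
        obtain ⟨h, hh, rfl⟩ := h1 ha'
        exact ⟨h, ⟨ha', hh⟩, rfl⟩
    rw [← hmap]
    apply map_mono
    apply le_pStep inf_le_right
    · apply isMulCommutative_of_comm
      rintro a ⟨ha, haH⟩ b ⟨hb, hbH⟩
      have h4 : f (a * b * (b * a)⁻¹) = 1 := by
        rw [map_mul, map_inv, map_mul, map_mul, comm_of_isMulCommutative h2 ha hb, mul_inv_cancel]
      have := hinj _ (H.mul_mem (H.mul_mem haH hbH) (H.inv_mem (H.mul_mem hbH haH))) h4
      exact mul_inv_eq_one.1 this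
    · apply le_normalizer_of_conj_mem
      rintro x hx a ⟨ha, haH⟩
      refine ⟨?_, H.mul_mem (H.mul_mem (hXH hx) haH) (H.inv_mem (hXH hx))⟩
      show f (x * a * x⁻¹) ∈ A'
      rw [map_mul, map_mul, map_inv]
      exact (mem_normalizer_iff.1 (h3 (mem_map_of_mem f hx)) _).1 ha

theorem map_pSeq {G' : Type*} [Group G'] (f : G →* G') {H : Subgroup G}
    (hinj : ∀ h ∈ H, f h = 1 → h = 1) (n : ℕ) : (pSeq H n).map f = pSeq (H.map f) n := by
  induction n with
  | zero => simp [pSeq_zero]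
  | succ n ih => rw [pSeq_succ, pSeq_succ, map_pStep f (pSeq_le H n) hinj, ih]

theorem puigStep_eq_pStep (X : Subgroup G) : Cfsg.puigStep X = pStep ⊤ X := by
  unfold Cfsg.puigStep pStep
  congr 1
  ext A
  simp

theorem puigSeq_eq_pSeq (n : ℕ) : Cfsg.puigSeq G n = pSeq ⊤ n := by
  induction n with
  | zero => rfl
  | succ n ih =>
    rw [pSeq_succ, ← ih, ← puigStep_eq_pStep]
    rfl

theorem map_top_subtype (H : Subgroup G) : (⊤ : Subgroup H).map H.subtype = H := by
  rw [← MonoidHom.range_eq_map, range_subtype]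

theorem map_puigSeq (H : Subgroup G) (n : ℕ) : (Cfsg.puigSeq H n).map H.subtype = pSeq H n := by
  rw [puigSeq_eq_pSeq, map_pSeq H.subtype (fun h _ hh => Subtype.ext hh), map_top_subtype]

/-- `L(H)` inside `G`. -/
def pL (H : Subgroup G) : Subgroup G := (Cfsg.puigSubgroup H).map H.subtype
/-- `L_*(H)` inside `G`. -/
def pLs (H : Subgroup G) : Subgroup G := (Cfsg.puigLower H).map H.subtype

theorem pSeq_stab [Finite G] (H : Subgroup G) :
    ∃ k : ℕ, ∀ n : ℕ, k ≤ n → pSeq H (2 * n) = pLs H ∧ pSeq H (2 * n + 1) = pL H := by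
  obtain ⟨k, hk⟩ := Cfsg.Agent.S1467.stab (G := H)
  refine ⟨k, fun n hn => ⟨?_, ?_⟩⟩
  · rw [← map_puigSeq, (hk n hn).1]; rfl
  · rw [← map_puigSeq, (hk n hn).2]; rfl

theorem pL_le (H : Subgroup G) : pL H ≤ H := map_subtype_le _
theorem pLs_le (H : Subgroup G) : pLs H ≤ H := map_subtype_le _

theorem pLs_le_pL [Finite G] (H : Subgroup G) : pLs H ≤ pL H :=
  map_mono (Cfsg.Agent.S1467.result (G := H)).2.2.2.2.1

theorem pStep_pLs [Finite G] (H : Subgroup G) : pStep H (pLs H) = pL H := by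
  obtain ⟨k, hk⟩ := pSeq_stab H
  rw [← (hk k le_rfl).1, ← (hk k le_rfl).2, pSeq_succ]

theorem pStep_pL [Finite G] (H : Subgroup G) : pStep H (pL H) = pLs H := by
  obtain ⟨k, hk⟩ := pSeq_stab H
  rw [← (hk k le_rfl).2, ← (hk (k + 1) (Nat.le_succ k)).1]
  rfl

theorem map_pL [Finite G] {G' : Type*} [Group G'] [Finite G'] (f : G →* G') {H : Subgroup G}
    (hinj : ∀ h ∈ H, f h = 1 → h = 1) : (pL H).map f = pL (H.map f) := by
  obtain ⟨k, hk⟩ := pSeq_stab H
  obtain ⟨k', hk'⟩ := pSeq_stab (H.map f)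
  rw [← (hk (max k k') (le_max_left _ _)).2, ← (hk' (max k k') (le_max_right _ _)).2, map_pSeq f hinj]

theorem cj_pSeq (g : G) (H : Subgroup G) (n : ℕ) : cj g (pSeq H n) = pSeq (cj g H) n :=
  map_pSeq _ (fun h _ hh => by simpa using hh) n

theorem cj_pL [Finite G] (g : G) (H : Subgroup G) : cj g (pL H) = pL (cj g H) :=
  map_pL _ (fun h _ hh => by simpa using hh)

theorem normalizer_le_normalizer_pSeq (H : Subgroup G) (n : ℕ) :
    normalizer (H : Set G) ≤ normalizer (pSeq H n : Set G) := by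
  intro g hg
  apply mem_normalizer_of_cj_eq
  rw [cj_pSeq, cj_eq_of_mem_normalizer hg]

theorem normalizer_le_normalizer_pL [Finite G] (H : Subgroup G) :
    normalizer (H : Set G) ≤ normalizer (pL H : Set G) := by
  intro g hg
  apply mem_normalizer_of_cj_eq
  rw [cj_pL, cj_eq_of_mem_normalizer hg]

/-- If `L(S) ≤ R ≤ S` then `L(R) = L(S)`. -/
theorem pL_eq_of_le [Finite G] {R S : Subgroup G} (hRS : R ≤ S) (hL : pL S ≤ R) : pL R = pL S := by
  have obs : ∀ X : Subgroup G, pLs S ≤ X → pStep R X = pStep S X := by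
    intro X hX
    apply pStep_eq_of_le hRS
    exact ((pStep_anti S hX).trans (pStep_pLs S).le).trans hL
  have ind1 : ∀ n : ℕ, pSeq R (2 * n) ≤ pLs S ∧ pL S ≤ pSeq R (2 * n + 1) := by
    intro n
    induction n with
    | zero =>
      refine ⟨bot_le, ?_⟩
      show pL S ≤ pStep R ⊥
      rw [← pStep_pLs S, ← obs _ le_rfl]
      exact pStep_anti R bot_le
    | succ n ih =>
      have h1 : pSeq R (2 * (n + 1)) ≤ pLs S := by
        show pStep R (pSeq R (2 * n + 1)) ≤ pLs S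
        rw [← pStep_pL S]
        exact (pStep_anti R ih.2).trans (pStep_mono_left hRS _)
      refine ⟨h1, ?_⟩
      show pL S ≤ pStep R (pSeq R (2 * (n + 1)))
      rw [← pStep_pLs S, ← obs _ le_rfl]
      exact pStep_anti R h1
  have ind2 : ∀ n : ℕ, pSeq S (2 * n) ≤ pSeq R (2 * n) ∧ pSeq R (2 * n + 1) ≤ pSeq S (2 * n + 1) := by
    intro n
    induction n with
    | zero => exact ⟨le_rfl, pStep_mono_left hRS _⟩
    | succ n ih =>
      have h1 : pSeq S (2 * (n + 1)) ≤ pSeq R (2 * (n + 1)) := by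
        show pStep S (pSeq S (2 * n + 1)) ≤ pStep R (pSeq R (2 * n + 1))
        rw [obs _ ((pLs_le_pL S).trans (ind1 n).2)]
        exact pStep_anti S ih.2
      refine ⟨h1, ?_⟩
      show pStep R (pSeq R (2 * (n + 1))) ≤ pStep S (pSeq S (2 * (n + 1)))
      exact (pStep_mono_left hRS _).trans (pStep_anti S h1)
  obtain ⟨k, hk⟩ := pSeq_stab R
  obtain ⟨k', hk'⟩ := pSeq_stab S
  apply le_antisymm
  · rw [← (hk (max k k') (le_max_left _ _)).2, ← (hk' (max k k') (le_max_right _ _)).2]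
    exact (ind2 _).2
  · rw [← (hk k le_rfl).2]
    exact (ind1 k).2

end Cfsg.Agent.Lib.Helper30
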