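import Mathlib
import Cfsg.Agent.Lib.Helper30.Puig
import Cfsg.Agent.Lib.Helper30.Transitivity3
import Cfsg.Agent.Lib.Helper30.PStable2
import Cfsg.Agent.S1465

/-!
Puig's theorem for solvable groups of odd order (B-G Appendix B), relative form.
-/

set_option autoImplicit false
set_option linter.style.haveILetI false
set_option linter.unusedSectionVars false

namespace Cfsg.Agent.Lib.Helper30

open Subgroup

variable {G : Type*} [Group G]

theorem map_puigStep (H : Subgroup G) (X : Subgroup H) :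
    (Cfsg.puigStep X).map H.subtype = pStep H (X.map H.subtype) := by
  rw [puigStep_eq_pStep, map_pStep H.subtype le_top (fun h _ hh => Subtype.ext hh), map_top_subtype]

/-- In a `p`-group `H`, `L_H(X)` contains its centralizer in `H`. -/
theorem inf_centralizer_pStep_le [Finite G] {p : ℕ} [Fact p.Prime] {H X : Subgroup G} (hH : IsPGroup p H)
    (hXH : X ≤ H) : H ⊓ centralizer (pStep H X : Set G) ≤ pStep H X := by
  have h1 := Cfsg.Agent.S1466.cent_step_le p hH (X.subgroupOf H)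
  have h2 : (Cfsg.puigStep (X.subgroupOf H)).map H.subtype = pStep H X := by
    rw [map_puigStep, map_subgroupOf_eq_of_le hXH]
  rintro h ⟨hhH, hhC⟩
  rw [← h2]
  refine ⟨⟨h, hhH⟩, h1 ?_, rfl⟩
  rw [mem_centralizer_iff]
  intro y hy
  apply Subtype.ext
  have hy' : (y : G) ∈ pStep H X := by rw [← h2]; exact ⟨y, hy, rfl⟩
  exact (mem_centralizer_iff.1 hhC) _ hy'

theorem normalizer_le_normalizer_inf_centralizer (L : Subgroup G) :
    normalizer (L : Set G) ≤ normalizer ((L ⊓ centralizer (L : Set G) : Subgroup G) : Set G) := by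
  intro g hg
  apply mem_normalizer_of_cj_eq
  rw [cj_inf, ← centralizer_cj, cj_eq_of_mem_normalizer hg]

theorem map_center_map (H : Subgroup G) (K : Subgroup H) :
    ((center K).map K.subtype).map H.subtype =
      K.map H.subtype ⊓ centralizer ((K.map H.subtype : Subgroup G) : Set G) := by
  ext x
  constructor
  · rintro ⟨_, ⟨z, hz, rfl⟩, rfl⟩
    refine ⟨⟨z.1, z.2, rfl⟩, ?_⟩
    show _ ∈ centralizer _
    rw [mem_centralizer_iff]
    rintro _ ⟨k, hk, rfl⟩
    have := (mem_center_iff.1 hz) ⟨k, hk⟩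
    exact congrArg (fun t : K => ((t : H) : G)) this
  · rintro ⟨⟨k, hk, rfl⟩, hc⟩
    refine ⟨k, ⟨⟨k, hk⟩, ?_, rfl⟩, rfl⟩
    show _ ∈ center _
    rw [mem_center_iff]
    intro g
    apply Subtype.ext
    apply Subtype.ext
    exact (mem_centralizer_iff.1 hc) _ ⟨g.1, g.2, rfl⟩

section

variable [Finite G] [Group.IsSolvable G] {p : ℕ} [Fact p.Prime]

theorem pStep_sylow_eq (hodd : Odd (Nat.card G)) (hp : p ≠ 2) (hO : Cfsg.pPrimeCore p G = ⊥) (S : Sylow p G)
    (P : Subgroup G) [P.Normal] (hP : IsPGroup p P)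
    (hC : Cfsg.pCore p G ⊓ centralizer (P : Set G) ≤ P) :
    pStep (S : Subgroup G) P = pStep (Cfsg.pCore p G) P := by
  symm
  apply pStep_eq_of_le (Cfsg.Agent.Lib.Helper14.pCore_le_sylow S)
  exact (Cfsg.Agent.S1465.result hodd p hp P hP
    {A : Subgroup G | A ≤ (S : Subgroup G) ∧ IsMulCommutative A ∧ P ≤ normalizer (A : Set G)}
    (fun B hB => ⟨hB.2.1, S.2.to_le hB.1, hB.2.2⟩)).2 hO hC

theorem pSeq_pCore_normal (n : ℕ) : (pSeq (Cfsg.pCore p G) n).Normal := by
  haveI := pCore_normal' p G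
  rw [← normalizer_eq_top_iff, eq_top_iff, ← normalizer_eq_top (Cfsg.pCore p G)]
  exact normalizer_le_normalizer_pSeq _ _

/-- B-G Theorem B.3 at finite levels. -/
theorem puig_B3_aux (hodd : Odd (Nat.card G)) (hp : p ≠ 2) (hO : Cfsg.pPrimeCore p G = ⊥) (S : Sylow p G)
    (n : ℕ) : pSeq (S : Subgroup G) (2 * n) ≤ pSeq (Cfsg.pCore p G) (2 * n) ∧
      pSeq (Cfsg.pCore p G) (2 * n + 1) ≤ pSeq (S : Subgroup G) (2 * n + 1) := by
  have hTS : Cfsg.pCore p G ≤ (S : Subgroup G) := Cfsg.Agent.Lib.Helper14.pCore_le_sylow S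
  have hTp : IsPGroup p (Cfsg.pCore p G) := Cfsg.Agent.Lib.Helper14.isPGroup_pCore
  induction n with
  | zero => exact ⟨le_rfl, pStep_mono_left hTS _⟩
  | succ n ih =>
    have h1 : pSeq (S : Subgroup G) (2 * (n + 1)) ≤ pSeq (Cfsg.pCore p G) (2 * (n + 1)) := by
      show pStep (S : Subgroup G) (pSeq (S : Subgroup G) (2 * n + 1)) ≤
        pStep (Cfsg.pCore p G) (pSeq (Cfsg.pCore p G) (2 * n + 1))
      haveI := pSeq_pCore_normal (G := G) (p := p) (2 * n + 1)
      rw [← pStep_sylow_eq hodd hp hO S (pSeq (Cfsg.pCore p G) (2 * n + 1)) (hTp.to_le (pSeq_le _ _))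
        (inf_centralizer_pStep_le hTp (pSeq_le _ _))]
      exact pStep_anti _ ih.2
    refine ⟨h1, ?_⟩
    show pStep (Cfsg.pCore p G) (pSeq (Cfsg.pCore p G) (2 * (n + 1))) ≤
      pStep (S : Subgroup G) (pSeq (S : Subgroup G) (2 * (n + 1)))
    exact (pStep_mono_left hTS _).trans (pStep_anti _ h1)

/-- B-G Theorem B.3. -/
theorem puig_B3 (hodd : Odd (Nat.card G)) (hp : p ≠ 2) (hO : Cfsg.pPrimeCore p G = ⊥) (S : Sylow p G) :
    pLs (S : Subgroup G) ≤ pLs (Cfsg.pCore p G) ∧ pLs (Cfsg.pCore p G) ≤ pL (Cfsg.pCore p G) ∧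
      pL (Cfsg.pCore p G) ≤ pL (S : Subgroup G) := by
  obtain ⟨k, hk⟩ := pSeq_stab (S : Subgroup G)
  obtain ⟨k', hk'⟩ := pSeq_stab (Cfsg.pCore p G)
  have h := puig_B3_aux hodd hp hO S (max k k')
  rw [(hk _ (le_max_left _ _)).1, (hk _ (le_max_left _ _)).2, (hk' _ (le_max_right _ _)).1,
    (hk' _ (le_max_right _ _)).2] at h
  exact ⟨h.1, pLs_le_pL _, h.2⟩

theorem isSylowIn_inf_normal (S : Sylow p G) (D : Subgroup G) [D.Normal] :
    IsSylowIn p ((S : Subgroup G) ⊓ D) D := by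
  obtain ⟨Q, hQ, hSQ⟩ := exists_isSylowIn_ge (inf_le_right : (S : Subgroup G) ⊓ D ≤ D) (S.2.to_le inf_le_left)
  obtain ⟨P', hP'⟩ := hQ.isPGroup.exists_le_sylow
  obtain ⟨g, hg⟩ := MulAction.exists_smul_eq G S P'
  have hP'g : (P' : Subgroup G) = cj g (S : Subgroup G) := by
    rw [← hg]; rfl
  have h1 : Q ≤ cj g ((S : Subgroup G) ⊓ D) := by
    rw [cj_inf, cj_normal g D, ← hP'g]
    exact le_inf hP' hQ.le
  have h2 : Nat.card Q ≤ Nat.card ((S : Subgroup G) ⊓ D : Subgroup G) := by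
    rw [← card_cj g ((S : Subgroup G) ⊓ D)]; exact Subgroup.card_le_of_le h1
  have h3 : (S : Subgroup G) ⊓ D = Q := Subgroup.eq_of_le_of_card_ge hSQ h2
  rw [h3]; exact hQ

theorem frattini_rel {Z N : Subgroup G} [N.Normal] (h : IsSylowIn p Z N) :
    normalizer (Z : Set G) ⊔ N = ⊤ := by
  obtain ⟨P', hP'⟩ := h.exists_sylow
  have := Sylow.normalizer_sup_eq_top P'
  rwa [hP'] at this

/-- Puig's theorem: `Z(L(S))` is normal when `O_{p'}(G) = 1`. -/
theorem puig_center_normal (hodd : Odd (Nat.card G)) (hp : p ≠ 2) (hO : Cfsg.pPrimeCore p G = ⊥)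
    (S : Sylow p G) :
    (pL (S : Subgroup G) ⊓ centralizer (pL (S : Subgroup G) : Set G)).Normal := by
  obtain ⟨hB1, hB2, hB3⟩ := puig_B3 hodd hp hO S
  have hTS : Cfsg.pCore p G ≤ (S : Subgroup G) := Cfsg.Agent.Lib.Helper14.pCore_le_sylow S
  have hTp : IsPGroup p (Cfsg.pCore p G) := Cfsg.Agent.Lib.Helper14.isPGroup_pCore
  haveI := pCore_normal' p G
  obtain ⟨L, hL⟩ : ∃ L, L = pL (S : Subgroup G) := ⟨_, rfl⟩
  obtain ⟨LT, hLT⟩ : ∃ LT, LT = pL (Cfsg.pCore p G) := ⟨_, rfl⟩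
  rw [← hL]
  rw [← hL, ← hLT] at hB3
  rw [← hLT] at hB2
  have hLS : L ≤ (S : Subgroup G) := hL ▸ pL_le _
  have hcomm : ∀ (M : Subgroup G), IsMulCommutative (M ⊓ centralizer (M : Set G) : Subgroup G) := by
    intro M
    apply isMulCommutative_of_comm
    rintro a ⟨_, ha⟩ b ⟨hb, _⟩
    exact ((mem_centralizer_iff.1 ha) b hb).symm
  have hZLs : L ⊓ centralizer (L : Set G) ≤ pLs (S : Subgroup G) := by
    rw [← pStep_pL, ← hL]
    apply le_pStep (inf_le_left.trans hLS) (hcomm L)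
    exact le_normalizer.trans (normalizer_le_normalizer_inf_centralizer L)
  have hZY : L ⊓ centralizer (L : Set G) ≤ LT ⊓ centralizer (LT : Set G) :=
    le_inf ((hZLs.trans hB1).trans hB2) (inf_le_right.trans (centralizer_le hB3))
  haveI hLTn : LT.Normal := by
    rw [← normalizer_eq_top_iff, eq_top_iff, ← normalizer_eq_top (Cfsg.pCore p G), hLT]
    exact normalizer_le_normalizer_pL _
  have hYn : (LT ⊓ centralizer (LT : Set G)).Normal := inferInstance
  have hYT : LT ⊓ centralizer (LT : Set G) ≤ Cfsg.pCore p G := inf_le_left.trans (hLT ▸ pL_le _)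
  have hYp : IsPGroup p (LT ⊓ centralizer (LT : Set G) : Subgroup G) := hTp.to_le hYT
  have hYLs : LT ⊓ centralizer (LT : Set G) ≤ pLs (S : Subgroup G) := by
    rw [← pStep_pL]
    apply le_pStep (hYT.trans hTS) (hcomm LT)
    rw [normalizer_eq_top]; exact le_top
  have h3 := (Cfsg.Agent.S1465.result hodd p hp (LT ⊓ centralizer (LT : Set G)) hYp
    {A : Subgroup G | A ≤ (S : Subgroup G) ∧ IsMulCommutative A ∧ pLs (S : Subgroup G) ≤ normalizer (A : Set G)}
    (fun B hB => ⟨hB.2.1, S.2.to_le hB.1, hYLs.trans hB.2.2⟩)).1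
  have hsS : sSup {A : Subgroup G | A ≤ (S : Subgroup G) ∧ IsMulCommutative A ∧
      pLs (S : Subgroup G) ≤ normalizer (A : Set G)} = L := by
    rw [hL, ← pStep_pLs]; rfl
  rw [hsS, map_le_iff_le_comap] at h3
  obtain ⟨K, hK⟩ : ∃ K, K = centralizer ((LT ⊓ centralizer (LT : Set G) : Subgroup G) : Set G) := ⟨_, rfl⟩
  haveI hKn : K.Normal := by rw [hK]; infer_instance
  have h3' : L ≤ (Cfsg.pCore p (G ⧸ K)).comap (QuotientGroup.mk' K) := by
    subst hK; exact h3
  haveI := pCore_normal' p (G ⧸ K)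
  have hDn : ((Cfsg.pCore p (G ⧸ K)).comap (QuotientGroup.mk' K)).Normal := inferInstance
  have hSN : (S : Subgroup G) ≤ normalizer ((L ⊓ centralizer (L : Set G) : Subgroup G) : Set G) := by
    refine le_normalizer.trans (le_trans ?_ (normalizer_le_normalizer_inf_centralizer L))
    rw [hL]; exact normalizer_le_normalizer_pL _
  have hKN : K ≤ normalizer ((L ⊓ centralizer (L : Set G) : Subgroup G) : Set G) := by
    rw [hK]
    exact (centralizer_le hZY).trans (centralizer_le_normalizer' _)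
  have hDle : (Cfsg.pCore p (G ⧸ K)).comap (QuotientGroup.mk' K) ≤ (S : Subgroup G) ⊔ K := by
    intro d hd
    have h4 := Cfsg.Agent.Lib.Helper14.pCore_le_sylow
      (Sylow.mapSurjective (QuotientGroup.mk'_surjective K) S)
    rw [Sylow.coe_mapSurjective] at h4
    obtain ⟨s, hs, hsd⟩ := h4 hd
    have h5 : s⁻¹ * d ∈ K := by
      rw [← QuotientGroup.eq_one_iff, ← QuotientGroup.mk'_apply, map_mul, map_inv, hsd, inv_mul_cancel]
    have : d = s * (s⁻¹ * d) := by group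
    rw [this]
    exact mul_mem_sup hs h5
  have hDN := hDle.trans (sup_le hSN hKN)
  have hfr := frattini_rel (isSylowIn_inf_normal S ((Cfsg.pCore p (G ⧸ K)).comap (QuotientGroup.mk' K)))
  have hN1 : normalizer (((S : Subgroup G) ⊓ (Cfsg.pCore p (G ⧸ K)).comap (QuotientGroup.mk' K) : Subgroup G) : Set G)
      ≤ normalizer ((L ⊓ centralizer (L : Set G) : Subgroup G) : Set G) := by
    refine le_trans ?_ (normalizer_le_normalizer_inf_centralizer L)
    have h6 : pL ((S : Subgroup G) ⊓ (Cfsg.pCore p (G ⧸ K)).comap (QuotientGroup.mk' K)) = L := by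
      rw [hL]
      apply pL_eq_of_le inf_le_left
      rw [← hL]
      exact le_inf hLS h3'
    rw [← h6]
    exact normalizer_le_normalizer_pL _
  rw [← normalizer_eq_top_iff, eq_top_iff, ← hfr]
  exact sup_le hN1 hDN

/-- Puig's factorization: `G = O_{p'}(G) N_G(Z(L(S)))`. -/
theorem puig_factorization (hodd : Odd (Nat.card G)) (hp : p ≠ 2) (S : Sylow p G) :
    Cfsg.pPrimeCore p G ⊔
      normalizer ((pL (S : Subgroup G) ⊓ centralizer (pL (S : Subgroup G) : Set G) : Subgroup G) : Set G) = ⊤ := by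
  obtain ⟨K, hK⟩ : ∃ K, K = Cfsg.pPrimeCore p G := ⟨_, rfl⟩
  haveI hKn : K.Normal := by
    rw [hK]
    haveI := Cfsg.Agent.Lib.Helper14.pPrimeCore_characteristic p G
    infer_instance
  have hKc : (Nat.card K).Coprime p := by rw [hK]; exact Cfsg.Agent.Lib.Helper14.card_pPrimeCore_coprime
  have hO : Cfsg.pPrimeCore p (G ⧸ K) = ⊥ := by
    subst hK; exact Cfsg.Agent.Lib.Helper14.pPrimeCore_quotient_pPrimeCore
  rw [← hK]
  have hodd' : Odd (Nat.card (G ⧸ K)) := Odd.of_dvd_nat hodd (Subgroup.card_quotient_dvd_card _)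
  have hinj : ∀ s ∈ (S : Subgroup G), QuotientGroup.mk' K s = 1 → s = 1 := by
    intro s hs h1
    rw [QuotientGroup.mk'_apply, QuotientGroup.eq_one_iff] at h1
    obtain ⟨k, hk⟩ := S.2 ⟨s, hs⟩
    have hk' : s ^ (p ^ k) = 1 := congrArg Subtype.val hk
    have h2 : orderOf s ∣ p ^ k := orderOf_dvd_of_pow_eq_one hk'
    have h3 : orderOf s ∣ Nat.card K := Subgroup.orderOf_dvd_natCard K h1
    have h4 : orderOf s ∣ 1 := by
      have := Nat.dvd_gcd h3 h2
      rwa [Nat.Coprime.gcd_eq_one (Nat.Coprime.pow_right k hKc)] at this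
    exact orderOf_eq_one_iff.1 (Nat.dvd_one.1 h4)
  have hn := puig_center_normal hodd' hp hO (Sylow.mapSurjective (QuotientGroup.mk'_surjective K) S)
  rw [Sylow.coe_mapSurjective, ← map_pL _ hinj] at hn
  obtain ⟨L, hL⟩ : ∃ L, L = pL (S : Subgroup G) := ⟨_, rfl⟩
  rw [← hL] at hn ⊢
  have hLS : L ≤ (S : Subgroup G) := hL ▸ pL_le _
  have hmap : (L ⊓ centralizer (L : Set G)).map (QuotientGroup.mk' K) =
      L.map (QuotientGroup.mk' K) ⊓ centralizer ((L.map (QuotientGroup.mk' K) : Subgroup (G ⧸ K)) : Set (G ⧸ K)) := by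
    apply le_antisymm
    · rintro _ ⟨x, ⟨hxL, hxC⟩, rfl⟩
      refine ⟨⟨x, hxL, rfl⟩, ?_⟩
      show _ ∈ centralizer _
      rw [mem_centralizer_iff]
      rintro _ ⟨l, hl, rfl⟩
      rw [← map_mul, ← map_mul, (mem_centralizer_iff.1 hxC) l hl]
    · rintro _ ⟨⟨x, hxL, rfl⟩, hxC⟩
      refine ⟨x, ⟨hxL, ?_⟩, rfl⟩
      show _ ∈ centralizer _
      rw [mem_centralizer_iff]
      intro l hl
      have h1 := (mem_centralizer_iff.1 hxC) _ ⟨l, hl, rfl⟩
      have h2 : QuotientGroup.mk' K (l * x * (x * l)⁻¹) = 1 := by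
        rw [map_mul, map_inv, map_mul, map_mul, h1, mul_inv_cancel]
      have h3 := hinj _ (hLS (L.mul_mem (L.mul_mem hl hxL) (L.inv_mem (L.mul_mem hxL hl)))) h2
      exact mul_inv_eq_one.1 h3
  rw [← hmap] at hn
  obtain ⟨Z, hZ⟩ : ∃ Z, Z = L ⊓ centralizer (L : Set G) := ⟨_, rfl⟩
  rw [← hZ] at hn ⊢
  have hZS : Z ≤ (S : Subgroup G) := hZ ▸ inf_le_left.trans hLS
  haveI hNn : (K ⊔ Z).Normal := by
    have h1 : ((Z.map (QuotientGroup.mk' K)).comap (QuotientGroup.mk' K)).Normal := inferInstance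
    rwa [comap_map_eq, QuotientGroup.ker_mk', sup_comm] at h1
  have hKZ : K ⊓ Z = ⊥ := by
    rw [eq_bot_iff]
    rintro x ⟨hxK, hxZ⟩
    exact hinj x (hZS hxZ) ((QuotientGroup.eq_one_iff x).2 hxK)
  have hsyl : IsSylowIn p Z (K ⊔ Z) := by
    refine ⟨le_sup_right, S.2.to_le hZS, ?_⟩
    have h1 := card_sup_eq_mul K Z hKZ
    have h2 := card_eq_card_mul_relIndex (le_sup_right : Z ≤ K ⊔ Z)
    have h3 : Z.relIndex (K ⊔ Z) = Nat.card K := by
      have hpos : 0 < Nat.card Z := Nat.card_pos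
      have : Nat.card Z * Z.relIndex (K ⊔ Z) = Nat.card Z * Nat.card K := by
        rw [← h2, h1, mul_comm]
      exact Nat.eq_of_mul_eq_mul_left hpos this
    rw [h3]
    intro hdvd
    exact (Fact.out : p.Prime).one_lt.ne' (Nat.dvd_one.1 (hKc ▸ Nat.dvd_gcd hdvd dvd_rfl))
  have hfr := frattini_rel hsyl
  rw [eq_top_iff, ← hfr]
  exact sup_le le_sup_right (sup_le le_sup_left (le_normalizer.trans le_sup_right))

end

end Cfsg.Agent.Lib.Helper30
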