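import Cfsg.Agent.Lib.Helper30.PiCore

set_option autoImplicit false

namespace Cfsg.Agent.Lib.Helper30

open Subgroup
open scoped Pointwise commutatorElement

variable {G : Type*} [Group G]

theorem solvable_of_ne_top (hG : Cfsg.IsMinSimpleOddOrder G) {X : Subgroup G} (hX : X ≠ ⊤) :
    Group.IsSolvable X := hG.2.2.2 X hX

theorem normalizer_ne_top (hG : Cfsg.IsMinSimpleOddOrder G) {D : Subgroup G} (h1 : D ≠ ⊥) (h2 : D ≠ ⊤) :
    normalizer (D : Set G) ≠ ⊤ := by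
  intro h
  have hn : D.Normal := normalizer_eq_top_iff.mp h
  have := hG.2.1
  rcases hn.eq_bot_or_eq_top with h | h
  · exact h1 h
  · exact h2 h

/-- `K = O_{π(A)'}(C_G(A))` -/
abbrev transK (A : Subgroup G) : Subgroup G :=
  Cfsg.piCoreOf (Cfsg.primesNotDvd (Nat.card A)) (centralizer (A : Set G))

theorem transK_le_centralizer (A : Subgroup G) : transK A ≤ centralizer (A : Set G) := piCoreOf_le _ _

theorem le_core_of_inv {A : Subgroup G} (hA : Cfsg.TransitivityHypothesis A) {X Y : Subgroup G}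
    (hX : X ≠ ⊤) (hAX : A ≤ X) (hYX : Y ≤ X) (hY : PiNat (Cfsg.primesNotDvd (Nat.card A)) (Nat.card Y))
    (hAY : A ≤ normalizer (Y : Set G)) : Y ≤ Cfsg.piCoreOf (Cfsg.primesNotDvd (Nat.card A)) X := by
  rw [← hA.2.2 X hX hAX]
  exact le_sSup ⟨hYX, hY, hAY⟩

theorem centralizer_le_normalizer' (A : Subgroup G) : centralizer (A : Set G) ≤ normalizer (A : Set G) := by
  intro c hc
  rw [mem_normalizer_iff]
  intro a
  have key : ∀ a ∈ A, c * a * c⁻¹ = a := by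
    intro a ha
    have := mem_centralizer_iff.mp hc a ha
    rw [← this]; group
  constructor
  · intro ha; rw [key a ha]; exact ha
  · intro ha
    have h1 := key _ ha
    have h2 : c * a * c⁻¹ = a := by
      have : c * (c * a * c⁻¹) * c⁻¹ = c * a * c⁻¹ := h1
      have h3 : c⁻¹ * (c * (c * a * c⁻¹) * c⁻¹) * c = c⁻¹ * (c * a * c⁻¹) * c := by rw [this]
      have e1 : c⁻¹ * (c * (c * a * c⁻¹) * c⁻¹) * c = c * a * c⁻¹ := by group
      have e2 : c⁻¹ * (c * a * c⁻¹) * c = a := by group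
      rw [e1, e2] at h3
      exact h3
    rw [← h2]; exact ha

theorem core_inf_centralizer_le [Finite G] (hG : Cfsg.IsMinSimpleOddOrder G) {A : Subgroup G}
    (hA : Cfsg.TransitivityHypothesis A) {Z : Subgroup G}
    (hZ : PiNat (Cfsg.primesNotDvd (Nat.card A)) (Nat.card Z)) (hZA : Z ≤ centralizer (A : Set G)) :
    Z ≤ transK A := by
  set π' := Cfsg.primesNotDvd (Nat.card A) with hπ
  set X := normalizer (A : Set G) with hX
  have hXtop : X ≠ ⊤ := normalizer_ne_top hG hA.1 hA.2.1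
  have hAX : A ≤ X := le_normalizer
  have hCX : centralizer (A : Set G) ≤ X := centralizer_le_normalizer' A
  have hAZ : A ≤ normalizer (Z : Set G) := by
    have h1 : A ≤ centralizer (Z : Set G) := by
      rw [le_centralizer_iff]; exact hZA
    exact h1.trans (centralizer_le_normalizer' Z)
  set W := Cfsg.piCoreOf π' X with hW
  have hZW : Z ≤ W := le_core_of_inv hA hXtop hAX (hZA.trans hCX) hZ hAZ
  have hWπ : PiNat π' (Nat.card W) := piCoreOf_isPi _ _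
  have hWn : X ≤ normalizer (W : Set G) := le_normalizer_piCoreOf _ _
  have hWX : W ≤ X := piCoreOf_le _ _
  have hWC : W ≤ centralizer (A : Set G) := by
    intro w hw
    exact mem_centralizer_of_mem_normalizer (hAX.trans hWn)
      (disjoint_of_coprime_natCard (coprime_of_piNat_primesNotDvd hWπ).symm).eq_bot hw (hWX hw)
  exact hZW.trans (le_piCoreOf hWC (hCX.trans hWn) hWπ)

theorem piNat_primesNotDvd_of_isPGroup [Finite G] {q n : ℕ} [hq : Fact q.Prime] (hqn : ¬ q ∣ n) {Y : Subgroup G}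
    (h : IsPGroup q Y) : PiNat (Cfsg.primesNotDvd n) (Nat.card Y) := by
  intro p hp hdvd
  have : p = q := piNat_singleton_of_isPGroup h p hp hdvd
  subst this
  exact ⟨hp, hqn⟩

/-- Two `A`-invariant `q`-subgroups of a proper subgroup `X ≥ A` lie, up to conjugation by `K`, in a
common `A`-invariant `q`-subgroup. -/
theorem exists_common_invariant [Finite G] (hG : Cfsg.IsMinSimpleOddOrder G) {A : Subgroup G}
    (hA : Cfsg.TransitivityHypothesis A) {q : ℕ} [hq : Fact q.Prime] (hqA : ¬ q ∣ Nat.card A)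
    {X R₁ R₂ : Subgroup G} (hX : X ≠ ⊤) (hAX : A ≤ X) (hR₁X : R₁ ≤ X) (hR₂X : R₂ ≤ X)
    (hR₁ : IsPGroup q R₁) (hR₂ : IsPGroup q R₂) (hAR₁ : A ≤ normalizer (R₁ : Set G))
    (hAR₂ : A ≤ normalizer (R₂ : Set G)) :
    ∃ S : Subgroup G, IsPGroup q S ∧ A ≤ normalizer (S : Set G) ∧ R₁ ≤ S ∧ ∃ c ∈ transK A, R₂ ≤ cj c S := by
  set π' := Cfsg.primesNotDvd (Nat.card A) with hπ
  set Y := Cfsg.piCoreOf π' X with hY
  have hYπ : PiNat π' (Nat.card Y) := piCoreOf_isPi _ _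
  have hYX : Y ≤ X := piCoreOf_le _ _
  have hAY : A ≤ normalizer (Y : Set G) := hAX.trans (le_normalizer_piCoreOf _ _)
  have hcop : (Nat.card A).Coprime (Nat.card Y) := coprime_of_piNat_primesNotDvd hYπ
  have hsol : Group.IsSolvable A ∨ Group.IsSolvable Y :=
    Or.inr (isSolvable_of_le hYX (solvable_of_ne_top hG hX))
  have h₁ : R₁ ≤ Y := le_core_of_inv hA hX hAX hR₁X (piNat_primesNotDvd_of_isPGroup hqA hR₁) hAR₁
  have h₂ : R₂ ≤ Y := le_core_of_inv hA hX hAX hR₂X (piNat_primesNotDvd_of_isPGroup hqA hR₂) hAR₂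
  obtain ⟨S₁, hS₁, hRS₁, hAS₁⟩ := exists_invariant_isSylowIn_ge hAY hcop hsol q h₁ hR₁ hAR₁
  obtain ⟨S₂, hS₂, hRS₂, hAS₂⟩ := exists_invariant_isSylowIn_ge hAY hcop hsol q h₂ hR₂ hAR₂
  obtain ⟨c, hc, hcS⟩ := invariant_isSylowIn_conj hAY hcop hsol q hS₁ hS₂ hAS₁ hAS₂
  refine ⟨S₁, hS₁.isPGroup, hAS₁, hRS₁, c, ?_, hcS ▸ hRS₂⟩
  exact core_inf_centralizer_le hG hA (Z := Y ⊓ centralizer (A : Set G))
    (hYπ.of_dvd (card_dvd_of_le inf_le_left)) inf_le_right hc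

theorem mem_invSubgroups_top_iff [Finite G] {A Y : Subgroup G} {q : ℕ} [Fact q.Prime] :
    Y ∈ Cfsg.invSubgroups ⊤ A {q} ↔ IsPGroup q Y ∧ A ≤ normalizer (Y : Set G) := by
  constructor
  · rintro ⟨_, h2, h3⟩
    exact ⟨isPGroup_of_piNat_singleton h2, h3⟩
  · rintro ⟨h2, h3⟩
    exact ⟨le_top, piNat_singleton_of_isPGroup h2, h3⟩

theorem exists_maxInv_ge [Finite G] {A S : Subgroup G} {q : ℕ} [Fact q.Prime] (hS : IsPGroup q S)
    (hAS : A ≤ normalizer (S : Set G)) : ∃ T ∈ Cfsg.maxInvSubgroups ⊤ A {q}, S ≤ T := by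
  obtain ⟨T, ⟨hST, hT⟩, hTmax⟩ := Set.Finite.exists_maximal
    (s := {T : Subgroup G | S ≤ T ∧ T ∈ Cfsg.invSubgroups ⊤ A {q}})
    (Set.toFinite _) ⟨S, le_rfl, mem_invSubgroups_top_iff.mpr ⟨hS, hAS⟩⟩
  exact ⟨T, ⟨hT, fun R hR hTR => le_antisymm (hTmax ⟨hST.trans hTR, hR⟩ hTR) hTR⟩, hST⟩

theorem cj_le_normalizer_of_centralizer {A T : Subgroup G} {c : G} (hc : c ∈ centralizer (A : Set G))
    (hAT : A ≤ normalizer (T : Set G)) : A ≤ normalizer ((cj c T : Subgroup G) : Set G) := by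
  intro a ha
  apply mem_normalizer_of_cj_eq
  rw [← cj_mul, mem_centralizer_iff.mp hc a ha, cj_mul, cj_eq_of_mem_normalizer (hAT ha)]

theorem cj_mem_maxInv [Finite G] {A T : Subgroup G} {q : ℕ} [Fact q.Prime] {c : G}
    (hc : c ∈ centralizer (A : Set G)) (hT : T ∈ Cfsg.maxInvSubgroups ⊤ A {q}) :
    cj c T ∈ Cfsg.maxInvSubgroups ⊤ A {q} := by
  obtain ⟨hT1, hT2⟩ := hT
  rw [mem_invSubgroups_top_iff] at hT1
  refine ⟨mem_invSubgroups_top_iff.mpr ⟨isPGroup_cj c hT1.1, cj_le_normalizer_of_centralizer hc hT1.2⟩, ?_⟩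
  intro R hR hle
  rw [mem_invSubgroups_top_iff] at hR
  have h1 : cj c⁻¹ R = T := hT2 _ (mem_invSubgroups_top_iff.mpr
    ⟨isPGroup_cj _ hR.1, cj_le_normalizer_of_centralizer (inv_mem hc) hR.2⟩) (cj_le_iff.mp hle)
  rw [← h1, cj_cj_inv]

/-- `K`-conjugacy -/
def KConj (A Q Q' : Subgroup G) : Prop := ∃ k ∈ transK A, Q' = cj k Q

theorem KConj.refl (A Q : Subgroup G) : KConj A Q Q := ⟨1, one_mem _, (cj_one Q).symm⟩

theorem KConj.trans {A Q Q' Q'' : Subgroup G} (h : KConj A Q Q') (h' : KConj A Q' Q'') : KConj A Q Q'' := by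
  obtain ⟨k, hk, rfl⟩ := h
  obtain ⟨k', hk', rfl⟩ := h'
  exact ⟨k' * k, mul_mem hk' hk, by rw [cj_mul]⟩

/-- Maximal `A`-invariant `q`-subgroups meeting nontrivially are `K`-conjugate. -/
theorem kconj_of_inf_ne_bot [Finite G] (hG : Cfsg.IsMinSimpleOddOrder G) {A : Subgroup G}
    (hA : Cfsg.TransitivityHypothesis A) {q : ℕ} [hq : Fact q.Prime] (hqA : ¬ q ∣ Nat.card A) :
    ∀ (n : ℕ) (Q₁ Q₂ : Subgroup G), Q₁ ∈ Cfsg.maxInvSubgroups ⊤ A {q} → Q₂ ∈ Cfsg.maxInvSubgroups ⊤ A {q} →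
      Nat.card G - Nat.card ↥(Q₁ ⊓ Q₂) ≤ n → Q₁ ⊓ Q₂ ≠ ⊥ → KConj A Q₁ Q₂ := by
  intro n
  induction n with
  | zero =>
    intro Q₁ Q₂ h₁ h₂ hn _
    have h1 : Nat.card ↥(Q₁ ⊓ Q₂) ≤ Nat.card G := Subgroup.card_le_card_group _
    have h2 : Q₁ ⊓ Q₂ = ⊤ := Subgroup.eq_top_of_card_eq _ (by omega)
    have h3 : Q₁ = ⊤ := top_le_iff.mp (h2 ▸ inf_le_left)
    have h4 : Q₂ = ⊤ := top_le_iff.mp (h2 ▸ inf_le_right)
    rw [h3, h4]
    exact KConj.refl _ _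
  | succ n ih =>
    intro Q₁ Q₂ h₁ h₂ hn hne
    by_cases heq : Q₁ = Q₂
    · rw [heq]; exact KConj.refl _ _
    set D := Q₁ ⊓ Q₂ with hD
    have hi₁ := mem_invSubgroups_top_iff.mp h₁.1
    have hi₂ := mem_invSubgroups_top_iff.mp h₂.1
    have hD₁ : D < Q₁ := by
      refine lt_of_le_of_ne inf_le_left (fun h => heq ?_)
      have : Q₁ ≤ Q₂ := h ▸ inf_le_right
      exact (h₁.2 Q₂ h₂.1 this).symm
    have hD₂ : D < Q₂ := by
      refine lt_of_le_of_ne inf_le_right (fun h => heq ?_)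
      have : Q₂ ≤ Q₁ := h ▸ inf_le_left
      exact h₂.2 Q₁ h₁.1 this
    have hDtop : D ≠ ⊤ := fun h => (h ▸ hD₁).ne (top_le_iff.mp (h ▸ hD₁.le)).symm
    set X := normalizer (D : Set G) with hX
    have hXtop : X ≠ ⊤ := normalizer_ne_top hG hne hDtop
    have hAD : A ≤ X := le_normalizer_inf hi₁.2 hi₂.2
    have hAXn : A ≤ normalizer (X : Set G) := hAD.trans le_normalizer
    obtain ⟨t₁, ht₁Q, ht₁N, ht₁D⟩ := exists_mem_normalizer_not_mem hi₁.1 hD₁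
    obtain ⟨t₂, ht₂Q, ht₂N, ht₂D⟩ := exists_mem_normalizer_not_mem hi₂.1 hD₂
    obtain ⟨S, hS, hAS, hR₁S, c, hc, hR₂S⟩ := exists_common_invariant hG hA hqA hXtop hAD
      (inf_le_left : X ⊓ Q₁ ≤ X) (inf_le_left : X ⊓ Q₂ ≤ X) (hi₁.1.to_le inf_le_right)
      (hi₂.1.to_le inf_le_right) (le_normalizer_inf hAXn hi₁.2) (le_normalizer_inf hAXn hi₂.2)
    obtain ⟨T, hT, hST⟩ := exists_maxInv_ge hS hAS
    have hcT := cj_mem_maxInv (transK_le_centralizer A hc) hT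
    have key : ∀ (Q Q' : Subgroup G) (t : G), D ≤ Q ⊓ Q' → t ∈ Q ⊓ Q' → t ∉ D →
        Nat.card G - Nat.card ↥(Q ⊓ Q') ≤ n ∧ Q ⊓ Q' ≠ ⊥ := by
      intro Q Q' t hle ht htD
      have hlt : D < Q ⊓ Q' := lt_of_le_of_ne hle (fun h => htD (h ▸ ht))
      have h1 := card_lt_of_lt hlt
      have h2 : Nat.card ↥(Q ⊓ Q') ≤ Nat.card G := Subgroup.card_le_card_group _
      refine ⟨by omega, fun h => ?_⟩
      rw [h] at hlt
      exact not_lt_bot hlt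
    have hDX : D ≤ X := le_normalizer
    have k₁ := key Q₁ T t₁ (le_inf inf_le_left ((le_inf hDX inf_le_left).trans (hR₁S.trans hST)))
      (mem_inf.mpr ⟨ht₁Q, hST (hR₁S (mem_inf.mpr ⟨ht₁N, ht₁Q⟩))⟩) ht₁D
    have k₂ := key (cj c T) Q₂ t₂
      (le_inf ((le_inf hDX inf_le_right).trans (hR₂S.trans (cj_mono c hST))) inf_le_right)
      (mem_inf.mpr ⟨cj_mono c hST (hR₂S (mem_inf.mpr ⟨ht₂N, ht₂Q⟩)), ht₂Q⟩) ht₂D
    exact ((ih Q₁ T h₁ hT k₁.1 k₁.2).trans ⟨c, hc, rfl⟩).trans (ih (cj c T) Q₂ hcT h₂ k₂.1 k₂.2)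

/-- B & G, Lemma 7.2. -/
theorem kconj_of_common_overgroup [Finite G] (hG : Cfsg.IsMinSimpleOddOrder G) {A : Subgroup G}
    (hA : Cfsg.TransitivityHypothesis A) {q : ℕ} [hq : Fact q.Prime] (hqA : ¬ q ∣ Nat.card A)
    {Q₁ Q₂ : Subgroup G} (h₁ : Q₁ ∈ Cfsg.maxInvSubgroups ⊤ A {q}) (h₂ : Q₂ ∈ Cfsg.maxInvSubgroups ⊤ A {q})
    {H : Subgroup G} (hH : H ≠ ⊤) (hAH : A ≤ H) (hH₁ : H ⊓ Q₁ ≠ ⊥) (hH₂ : H ⊓ Q₂ ≠ ⊥) : KConj A Q₁ Q₂ := by
  have hi₁ := mem_invSubgroups_top_iff.mp h₁.1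
  have hi₂ := mem_invSubgroups_top_iff.mp h₂.1
  have hAHn : A ≤ normalizer (H : Set G) := hAH.trans le_normalizer
  obtain ⟨S, hS, hAS, hR₁S, c, hc, hR₂S⟩ := exists_common_invariant hG hA hqA hH hAH
    (inf_le_left : H ⊓ Q₁ ≤ H) (inf_le_left : H ⊓ Q₂ ≤ H) (hi₁.1.to_le inf_le_right)
    (hi₂.1.to_le inf_le_right) (le_normalizer_inf hAHn hi₁.2) (le_normalizer_inf hAHn hi₂.2)
  obtain ⟨T, hT, hST⟩ := exists_maxInv_ge hS hAS
  have hcT := cj_mem_maxInv (transK_le_centralizer A hc) hT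
  have k₁ : Q₁ ⊓ T ≠ ⊥ := by
    intro h
    exact hH₁ (le_bot_iff.mp (h ▸ le_inf inf_le_right (hR₁S.trans hST)))
  have k₂ : cj c T ⊓ Q₂ ≠ ⊥ := by
    intro h
    exact hH₂ (le_bot_iff.mp (h ▸ le_inf (hR₂S.trans (cj_mono c hST)) inf_le_right))
  exact ((kconj_of_inf_ne_bot hG hA hqA _ Q₁ T h₁ hT le_rfl k₁).trans ⟨c, hc, rfl⟩).trans
    (kconj_of_inf_ne_bot hG hA hqA _ (cj c T) Q₂ hcT h₂ le_rfl k₂)

end Cfsg.Agent.Lib.Helper30
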